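import Cfsg.Agent.Lib.Spor.Census

/-!
A fixed-point-free involution fixing each tetrad of the first sextet, and elements around its centraliser.
-/

set_option autoImplicit false
set_option maxRecDepth 100000

namespace CfsgLib.Spor

/-- the involution -/
def fpfBase : ℕ := 596366844051235442731031181682347009

/-- sends the first sextet to the six tetrads of syl2Rep1, conjugating -/
def fpfToRep : ℕ := 462462521109506587467749542750922787

/-- the conjugates of fpfBase and conjugating elements of the sextet stabiliser -/
def fpfConj : List (ℕ × ℕ) := [
   (596366844051235442731031181682347009, 984818244535754528103549039458486304),
   (718673291653575672363843854276788322, 764174571203029519004030945778451048),
   (714491598279222785337596717859603523, 29339000718627967111899146981135956),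
   (593967222329907279187428339195347042, 975760826068596803388480226571137159),
   (216227626219662118351051565874283587, 815446329902867898101252300266897473),
   (222808941315343168920901544778468353, 500311730445887989335161940441872567),
   (714687808069978514226414409217018881, 818376281456441163791671731663638860),
   (220121809236599362611927091125488641, 108040241452625166465898571504081254),
   (596563053841991157773532231016383555, 593519166002674046006600382191783408),
   (721269757000026622558066059189945411, 131517015474879249642835424305455635),
   (222521510211855271950402112419037282, 895163128595238946776530544141511044),
   (590164260625702196097460789311507457, 432603656954217903791348750646712681),
   (216318847532394293368276183264821346, 767736294287870189974695613570255874),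
   (219925044865404335602496549529060419, 792703062647644281593575344430589131),
   (589876195687847248275933451517984866, 582375458800439436255840827729030358),
   (594058443642639447269110080197362755, 335611040471262989501410034927851723),
   (718385860550087782304118187552214017, 921092174788690462581550157125419075),
   (721178456433366701745969262992851042, 47320474737303885988019631593041190)]

/-- commuting elements moving the first point everywhere -/
def fpfMove : List ℕ := [
   984818244535754528103549039458486304,
   594097469710726884127915119936080897,
   982017643644077562272087097185666146,
   597572481753445675288663288331665475,
   972651166943338116213186482806272228,
   417473282693218412679307219659349541,
   607990629356998440959882886828993830,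
   279759811105097705936415086214459527,
   392193482726568954265244604698312200,
   834893876374507485475144003032394953,
   769050271115466982261348163335197066,
   294203458721504182398633106629499595,
   104225546577586212248790089147227468,
   461489646052081232080462917081322157,
   751856578867351789270366959209465582,
   318485931187342139244606145108124271,
   279385214146671665723803780050832656,
   839856992462053688270677543170301105,
   811675914903392452378212042978809490,
   556033592019260803060021374599053811,
   938686052122228768364052638941501012,
   340273007661994394055787511807562165,
   21069197391627831093027043705919862,
   650634597460174741767790101249168855]

/-- an element of order three commuting with the involution -/
def fpfThree : ℕ := 636960247711611328698005347182495191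

end CfsgLib.Spor
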