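import Cfsg.Agent.Lib.Spor.OrbitDuum

/-!
Certificate: orbits on indexed objects of kind octK.
-/

set_option autoImplicit false
set_option maxRecDepth 100000

namespace CfsgLib.Spor

open Cfsg
open scoped Pointwise

/-- families fixed -/
def octOctL : List (List ℕ) := [[5279]]

/-- generators -/
def octOctGens : List ℕ := [476743489279892832656773509853446465,
  477144011026815053361908779768416257,
  963843701298699872637192813217351815,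
  395533822339963794635819098259370055,
  895164472409386356991977105580366954,
  479731899411719608007565367565419904]

/-- part 0 of octOctT0 -/
def octOctT0_0 : List (ℕ × ℕ × ℕ) := [
]

/-- tree octOctT0 -/
def octOctT0 : List (ℕ × ℕ × ℕ) :=
  octOctT0_0

/-- part 0 of octOctT1 -/
def octOctT1_0 : List (ℕ × ℕ × ℕ) := [
   (721, 0, 0), (289, 0, 0), (661, 0, 0), (650, 0, 0), (481, 0, 0), (380, 0, 0), (753, 0, 0),
   (393, 0, 0), (230, 0, 0), (477, 0, 0), (576, 0, 0), (698, 0, 0), (746, 0, 0), (546, 0, 0),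
   (755, 2, 0), (306, 0, 0), (727, 0, 0), (434, 0, 0), (446, 0, 0), (613, 0, 0), (679, 0, 0),
   (160, 0, 0), (677, 0, 0), (737, 0, 0), (618, 0, 0), (499, 0, 0), (328, 0, 0), (204, 0, 0),
   (504, 0, 0)]

/-- tree octOctT1 -/
def octOctT1 : List (ℕ × ℕ × ℕ) :=
  octOctT1_0

/-- part 0 of octOctT2 -/
def octOctT2_0 : List (ℕ × ℕ × ℕ) := [
   (68, 0, 0), (720, 0, 0), (85, 0, 0), (212, 0, 0), (251, 0, 0), (81, 0, 0), (354, 0, 0),
   (741, 0, 0), (7, 0, 0), (18, 0, 0), (371, 0, 0), (104, 0, 0), (526, 0, 0), (635, 0, 0),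
   (244, 1, 0), (264, 0, 0), (50, 0, 0), (479, 0, 0), (337, 0, 0), (221, 0, 0), (342, 0, 0),
   (23, 0, 0), (350, 0, 0), (537, 0, 0), (507, 0, 0), (39, 0, 0), (542, 0, 0), (124, 0, 0),
   (559, 0, 0), (151, 1, 0), (589, 0, 0), (430, 0, 0), (188, 0, 0), (163, 0, 0), (324, 0, 0),
   (130, 0, 0), (304, 0, 0), (722, 0, 0), (139, 0, 0), (412, 0, 0), (174, 0, 0), (183, 0, 0),
   (158, 0, 0), (666, 0, 0), (60, 1, 0), (385, 0, 0), (71, 0, 0), (654, 0, 0), (13, 0, 0),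
   (216, 0, 0), (377, 0, 0), (565, 0, 0), (330, 0, 0), (228, 0, 0), (46, 0, 0), (109, 0, 0),
   (683, 0, 0), (236, 0, 0), (508, 0, 0), (695, 1, 0), (516, 0, 0), (48, 0, 0), (121, 0, 0),
   (111, 0, 0), (274, 0, 0), (627, 0, 0), (214, 0, 0), (336, 0, 0), (369, 0, 0), (387, 0, 0),
   (21, 0, 0), (223, 0, 0), (38, 0, 0), (528, 0, 0), (83, 1, 0), (365, 0, 0), (285, 0, 0),
   (79, 0, 0), (226, 0, 0), (450, 0, 0), (35, 0, 0), (686, 0, 0), (348, 0, 0), (9, 0, 0),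
   (73, 0, 0), (567, 0, 0), (26, 0, 0), (640, 0, 0), (540, 0, 0), (12, 3, 0), (470, 0, 0),
   (95, 0, 0), (3, 0, 0), (468, 0, 0), (514, 0, 0), (30, 0, 0), (691, 0, 0), (52, 0, 0),
   (100, 0, 0), (549, 0, 0), (263, 0, 0), (27, 0, 0), (646, 0, 0), (383, 0, 0), (22, 3, 0),
   (351, 0, 0), (538, 0, 0), (506, 0, 0), (40, 0, 0), (541, 0, 0), (125, 0, 0), (560, 0, 0),
   (243, 0, 0), (265, 0, 0), (49, 0, 0), (480, 0, 0), (338, 0, 0), (220, 0, 0), (343, 0, 0),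
   (742, 1, 0), (6, 0, 0), (19, 0, 0), (372, 0, 0), (103, 0, 0), (527, 0, 0), (634, 0, 0),
   (2, 0, 0), (69, 0, 0), (719, 0, 0), (86, 0, 0), (211, 0, 0), (252, 0, 0), (82, 0, 0),
   (353, 0, 0), (74, 3, 0), (566, 0, 0), (25, 0, 0), (639, 0, 0), (539, 0, 0), (84, 0, 0),
   (364, 0, 0), (284, 0, 0), (78, 0, 0), (225, 0, 0), (451, 0, 0), (34, 0, 0), (685, 0, 0),
   (347, 0, 0), (8, 0, 0), (529, 1, 0)]

/-- part 1 of octOctT2 -/
def octOctT2_1 : List (ℕ × ℕ × ℕ) := [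
   (696, 0, 0), (515, 0, 0), (47, 0, 0), (120, 0, 0), (112, 0, 0), (275, 0, 0), (626, 0, 0),
   (213, 0, 0), (335, 0, 0), (370, 0, 0), (388, 0, 0), (20, 0, 0), (222, 0, 0), (37, 0, 0),
   (11, 2, 0), (469, 0, 0), (96, 0, 0), (4, 0, 0), (467, 0, 0), (513, 0, 0), (29, 0, 0),
   (692, 0, 0), (53, 0, 0), (99, 0, 0), (548, 0, 0), (262, 0, 0), (28, 0, 0), (647, 0, 0),
   (382, 0, 0), (429, 5, 1), (189, 0, 0), (164, 0, 0), (323, 0, 0), (131, 0, 0), (303, 0, 0),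
   (723, 0, 0), (140, 0, 0), (411, 0, 0), (175, 0, 0), (182, 0, 0), (159, 0, 0), (667, 0, 0),
   (150, 0, 0), (590, 0, 0), (133, 5, 0), (310, 0, 0), (201, 0, 0), (186, 0, 0), (491, 0, 0),
   (296, 0, 0), (134, 0, 0), (420, 0, 0), (416, 0, 0), (156, 0, 0), (595, 0, 0), (142, 0, 0),
   (152, 0, 0), (612, 0, 0), (615, 0, 0), (14, 1, 0), (215, 0, 0), (376, 0, 0), (564, 0, 0),
   (331, 0, 0), (229, 0, 0), (45, 0, 0), (108, 0, 0), (682, 0, 0), (237, 0, 0), (509, 0, 0),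
   (59, 0, 0), (384, 0, 0), (70, 0, 0), (655, 0, 0), (453, 2, 3), (54, 0, 0), (115, 0, 0),
   (390, 0, 0), (218, 0, 0), (232, 0, 0), (520, 0, 0), (334, 0, 0), (356, 0, 0), (545, 0, 0),
   (91, 0, 0), (15, 0, 0), (256, 0, 0), (571, 0, 0), (511, 0, 0), (132, 1, 0), (311, 0, 0),
   (202, 0, 0), (185, 0, 0), (490, 0, 0), (295, 0, 0), (135, 0, 0), (421, 0, 0), (415, 0, 0),
   (155, 0, 0), (594, 0, 0), (143, 0, 0), (153, 0, 0), (611, 0, 0), (614, 0, 0), (217, 3, 0),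
   (231, 0, 0), (521, 0, 0), (333, 0, 0), (357, 0, 0), (544, 0, 0), (90, 0, 0), (16, 0, 0),
   (255, 0, 0), (572, 0, 0), (510, 0, 0), (452, 0, 0), (55, 0, 0), (114, 0, 0), (391, 0, 0),
   (166, 1, 14), (445, 0, 0), (591, 0, 0), (291, 0, 0), (145, 0, 0), (165, 2, 11), (444, 0, 0),
   (592, 0, 0), (290, 0, 0), (144, 0, 0)]

/-- tree octOctT2 -/
def octOctT2 : List (ℕ × ℕ × ℕ) :=
  octOctT2_0 ++ octOctT2_1

/-- part 0 of octOctT3 -/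
def octOctT3_0 : List (ℕ × ℕ × ℕ) := [
   (474, 0, 0), (404, 0, 0), (106, 0, 0), (743, 0, 0), (227, 0, 0), (31, 0, 0), (709, 0, 0),
   (713, 0, 0), (33, 0, 0), (649, 0, 0), (119, 0, 0), (102, 0, 0), (749, 0, 0), (657, 0, 0),
   (363, 1, 0), (277, 0, 0), (701, 0, 0), (273, 0, 0), (332, 0, 0), (261, 0, 0), (710, 0, 0),
   (44, 0, 0), (739, 0, 0), (76, 0, 0), (562, 0, 0), (381, 0, 0), (658, 0, 0), (65, 0, 0),
   (659, 0, 0), (257, 1, 0), (579, 0, 0), (403, 0, 0), (482, 0, 0), (248, 0, 0), (272, 0, 0),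
   (345, 0, 0), (466, 0, 0), (699, 0, 0), (525, 0, 0), (344, 0, 0), (77, 0, 0), (583, 0, 0),
   (575, 0, 0), (628, 0, 0), (178, 1, 0), (758, 0, 0), (168, 0, 0), (320, 0, 0), (433, 0, 0),
   (322, 0, 0), (423, 0, 0), (672, 0, 0), (410, 0, 0), (162, 0, 0), (731, 0, 0), (200, 0, 0),
   (587, 0, 0), (317, 0, 0), (616, 0, 0), (359, 1, 0), (689, 0, 0), (379, 0, 0), (570, 0, 0),
   (57, 0, 0), (279, 0, 0), (552, 0, 0), (662, 0, 0), (684, 0, 0), (250, 0, 0), (402, 0, 0),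
   (123, 0, 0), (478, 0, 0), (242, 0, 0), (629, 0, 0), (703, 1, 0), (405, 0, 0), (116, 0, 0),
   (286, 0, 0), (270, 0, 0), (234, 0, 0), (745, 0, 0), (688, 0, 0), (341, 0, 0), (375, 0, 0),
   (122, 0, 0), (107, 0, 0), (643, 0, 0), (638, 0, 0), (530, 0, 0), (396, 1, 0), (648, 0, 0),
   (281, 0, 0), (94, 0, 0), (471, 0, 0), (486, 0, 0), (517, 0, 0), (460, 0, 0), (349, 0, 0),
   (72, 0, 0), (718, 0, 0), (523, 0, 0), (233, 0, 0), (557, 0, 0), (578, 0, 0), (750, 2, 0),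
   (219, 0, 0), (247, 0, 0), (406, 0, 0), (389, 0, 0), (465, 0, 0), (637, 0, 0), (17, 0, 0),
   (360, 0, 0), (708, 0, 0), (574, 0, 0), (519, 0, 0), (253, 0, 0), (126, 0, 0), (584, 0, 0),
   (184, 1, 0), (173, 0, 0), (505, 0, 0), (198, 0, 0), (669, 0, 0), (494, 0, 0), (141, 0, 0),
   (436, 0, 0), (736, 0, 0), (137, 0, 0), (307, 0, 0), (609, 0, 0), (196, 0, 0), (728, 0, 0),
   (676, 0, 0), (757, 2, 0), (187, 0, 0), (154, 0, 0), (622, 1, 0), (605, 0, 0), (326, 0, 0),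
   (606, 0, 0), (327, 0, 0), (439, 0, 0), (313, 0, 0), (502, 0, 0), (149, 0, 0), (492, 0, 0),
   (428, 0, 0), (593, 0, 0), (427, 0, 0)]

/-- part 1 of octOctT3 -/
def octOctT3_1 : List (ℕ × ℕ × ℕ) := [
   (598, 0, 0), (176, 0, 0), (569, 1, 0), (458, 0, 0), (238, 0, 0), (554, 0, 0), (715, 0, 0),
   (339, 0, 0), (259, 0, 0), (581, 0, 0), (93, 0, 0), (463, 0, 0), (653, 0, 0), (561, 0, 0),
   (346, 0, 0), (473, 0, 0), (127, 0, 0), (298, 2, 1), (299, 0, 0), (424, 0, 0), (729, 0, 0),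
   (725, 0, 0), (148, 0, 0), (172, 0, 0), (209, 0, 0), (620, 0, 0), (673, 0, 0), (668, 0, 0),
   (167, 0, 0), (447, 0, 0), (448, 0, 0), (321, 0, 0), (752, 3, 0), (531, 0, 0), (630, 0, 0),
   (373, 0, 0), (118, 0, 0), (407, 0, 0), (660, 0, 0), (210, 0, 0), (241, 0, 0), (702, 0, 0),
   (398, 0, 0), (687, 0, 0), (254, 0, 0), (92, 0, 0), (75, 0, 0), (235, 2, 0), (748, 0, 0),
   (117, 0, 0), (386, 0, 0), (475, 0, 0), (267, 0, 0), (41, 0, 0), (744, 0, 0), (355, 0, 0),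
   (533, 0, 0), (705, 0, 0), (97, 0, 0), (66, 0, 0), (665, 0, 0), (558, 0, 0), (413, 1, 0),
   (493, 0, 0), (432, 0, 0), (194, 0, 0), (419, 0, 0), (308, 0, 0), (599, 0, 0), (604, 0, 0),
   (724, 0, 0), (180, 0, 0), (623, 0, 0), (206, 0, 0), (319, 0, 0), (316, 0, 0), (678, 0, 0),
   (582, 2, 0), (80, 0, 0), (260, 0, 0), (663, 0, 0), (101, 0, 0), (740, 0, 0), (472, 0, 0),
   (89, 0, 0), (374, 0, 0), (484, 0, 0), (32, 0, 0), (644, 0, 0), (690, 0, 0), (36, 0, 0),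
   (707, 0, 0), (352, 5, 0), (551, 0, 0), (401, 0, 0), (110, 0, 0), (645, 0, 0), (278, 0, 0),
   (512, 0, 0), (476, 0, 0), (714, 0, 0), (56, 0, 0), (483, 0, 0), (62, 0, 0), (276, 0, 0),
   (700, 0, 0), (632, 0, 0), (51, 1, 0), (489, 0, 0), (580, 0, 0), (266, 0, 0), (459, 0, 0),
   (249, 0, 0), (397, 0, 0), (694, 0, 0), (455, 0, 0), (43, 0, 0), (550, 0, 0), (399, 0, 0),
   (532, 0, 0), (652, 0, 0), (568, 0, 0), (462, 1, 0), (633, 0, 0), (366, 0, 0), (394, 0, 0),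
   (368, 0, 0), (280, 0, 0), (518, 0, 0), (240, 0, 0), (697, 0, 0), (555, 0, 0), (711, 0, 0),
   (63, 0, 0), (282, 0, 0), (128, 0, 0), (656, 0, 0), (435, 3, 0), (680, 0, 0), (586, 0, 0),
   (300, 0, 0), (431, 0, 0), (208, 0, 0), (734, 0, 0), (301, 0, 0), (292, 0, 0), (181, 0, 0),
   (735, 0, 0), (426, 0, 0), (670, 0, 0)]

/-- part 2 of octOctT3 -/
def octOctT3_2 : List (ℕ × ℕ × ℕ) := [
   (171, 0, 0), (192, 0, 0), (113, 2, 0), (283, 0, 0), (487, 0, 0), (269, 0, 0), (454, 0, 0),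
   (461, 0, 0), (340, 0, 0), (362, 0, 0), (693, 0, 0), (42, 0, 0), (535, 0, 0), (556, 0, 0),
   (573, 0, 0), (553, 0, 0), (664, 0, 0), (751, 2, 0), (10, 0, 0), (464, 0, 0), (706, 0, 0),
   (88, 0, 0), (358, 0, 0), (651, 0, 0), (98, 0, 0), (536, 0, 0), (747, 0, 0), (105, 0, 0),
   (543, 0, 0), (488, 0, 0), (87, 0, 0), (258, 0, 0), (600, 1, 3), (610, 0, 0), (203, 0, 0),
   (207, 0, 0), (681, 0, 0), (318, 0, 0), (294, 0, 0), (500, 0, 0), (441, 0, 0), (418, 0, 0),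
   (496, 0, 0), (147, 0, 0), (161, 0, 0), (730, 0, 0), (602, 0, 0), (732, 2, 0), (503, 0, 0),
   (138, 0, 0), (315, 0, 0), (442, 0, 0), (157, 0, 0), (756, 0, 0), (597, 0, 0), (136, 0, 0),
   (437, 0, 0), (624, 0, 0), (195, 0, 0), (671, 0, 0), (309, 0, 0), (197, 0, 0), (400, 1, 0),
   (547, 0, 0), (485, 0, 0), (524, 0, 0), (246, 0, 0), (733, 3, 0), (205, 0, 0), (190, 0, 0),
   (314, 0, 0), (325, 0, 0), (601, 0, 0), (754, 0, 0), (417, 0, 0), (170, 0, 0), (449, 0, 0),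
   (193, 0, 0), (302, 0, 0), (674, 0, 0), (588, 0, 0), (425, 0, 0), (704, 2, 1), (268, 0, 0),
   (58, 0, 0), (287, 0, 0), (395, 0, 0), (642, 0, 0), (738, 0, 0), (24, 0, 0), (367, 0, 0),
   (409, 0, 0), (563, 0, 0), (239, 0, 0), (636, 0, 0), (67, 0, 0), (716, 0, 0), (457, 2, 1),
   (456, 0, 0), (64, 0, 0), (392, 0, 0), (361, 0, 0), (641, 0, 0), (534, 0, 0), (522, 0, 0),
   (378, 0, 0), (585, 0, 0), (577, 0, 0), (271, 0, 0), (245, 0, 0), (288, 0, 0), (712, 0, 0),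
   (440, 4, 2), (422, 0, 0), (312, 0, 0), (199, 0, 0), (596, 0, 0), (497, 0, 0), (603, 0, 0),
   (607, 0, 0), (443, 0, 0), (169, 0, 0), (329, 0, 0), (619, 0, 0), (293, 0, 0), (498, 0, 0),
   (608, 0, 0), (438, 5, 0), (305, 0, 0), (675, 0, 0), (191, 0, 0), (414, 0, 0), (501, 0, 0),
   (617, 0, 0), (146, 0, 0), (495, 0, 0), (179, 0, 0), (621, 0, 0), (726, 0, 0), (297, 0, 0),
   (177, 0, 0), (625, 0, 0), (224, 1, 0), (61, 0, 0), (408, 0, 0), (717, 0, 0), (631, 0, 0)]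

/-- tree octOctT3 -/
def octOctT3 : List (ℕ × ℕ × ℕ) :=
  octOctT3_0 ++ octOctT3_1 ++ octOctT3_2

/-- the orbit classes -/
def octOctCls : List (ℕ × List (ℕ × ℕ × ℕ)) :=
  [(0, octOctT0), (129, octOctT1), (1, octOctT2), (5, octOctT3)]

theorem octOct_ok : octK.splitOK octOctL octOctGens octOctCls = true := by decide +kernel

theorem octOct_sizes : (octOctCls.map fun c =>
    (classList octK.ix.n fun i => decide (octK.invsIx octOctL i = octK.invsIx octOctL c.1)).length) = [1, 30, 280, 448] := by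
  decide +kernel

/-- part 0 of octOctU0 -/
def octOctU0_0 : List (ℕ × ℕ × ℕ) := [
   (129, 0, 0), (296, 0, 0), (386, 0, 0), (676, 0, 0), (391, 0, 0), (600, 0, 0), (461, 0, 0),
   (526, 0, 0), (117, 0, 0), (159, 0, 0), (402, 0, 0), (672, 0, 0), (364, 0, 0), (662, 0, 0),
   (144, 0, 0), (485, 0, 0), (608, 0, 0), (331, 0, 0), (585, 0, 0), (298, 0, 0), (356, 0, 0),
   (650, 0, 0), (481, 1, 0), (666, 0, 0), (401, 0, 0), (602, 0, 0), (332, 0, 0), (641, 0, 0),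
   (62, 0, 0), (26, 0, 0), (61, 0, 0), (223, 0, 0), (118, 0, 0), (293, 0, 0), (384, 0, 0),
   (679, 0, 0), (415, 0, 0), (698, 0, 0), (513, 0, 0), (107, 0, 0), (179, 0, 0), (345, 0, 0),
   (541, 0, 0), (287, 0, 0), (153, 0, 0), (611, 1, 0), (397, 0, 0), (603, 0, 0), (487, 0, 0),
   (612, 0, 0), (373, 0, 0), (640, 0, 0), (247, 0, 0), (237, 0, 0), (113, 0, 0), (291, 0, 0),
   (375, 0, 0), (631, 0, 0), (11, 0, 0), (239, 0, 0), (95, 0, 0), (146, 0, 0), (369, 0, 0),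
   (569, 0, 0), (188, 0, 0), (504, 0, 0), (722, 0, 0), (715, 0, 0), (339, 1, 0), (628, 0, 0),
   (222, 0, 0), (42, 0, 0), (10, 0, 0), (3, 0, 0), (122, 0, 0), (193, 0, 0), (414, 0, 0),
   (744, 0, 0), (566, 0, 0), (196, 0, 0), (424, 0, 0), (710, 0, 0), (624, 0, 0), (435, 0, 0),
   (697, 0, 0), (636, 0, 0), (255, 0, 0), (67, 0, 0), (2, 0, 0), (282, 0, 0), (312, 0, 0),
   (199, 1, 0), (441, 0, 0), (732, 0, 0), (720, 0, 0), (622, 0, 0), (498, 0, 0), (745, 0, 0),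
   (539, 0, 0), (125, 0, 0), (177, 0, 0), (456, 0, 0), (648, 0, 0), (244, 0, 0), (40, 0, 0),
   (224, 0, 0), (220, 0, 0), (56, 0, 0), (86, 0, 0), (190, 0, 0), (496, 0, 0), (694, 0, 0),
   (510, 0, 0), (108, 0, 0), (682, 1, 0), (556, 0, 0), (38, 0, 0), (31, 0, 0), (249, 0, 0),
   (112, 0, 0), (203, 0, 0), (495, 0, 0), (739, 0, 0), (632, 0, 0), (25, 0, 0), (98, 0, 0),
   (147, 0, 0), (368, 0, 0), (547, 0, 0), (16, 0, 0), (279, 0, 0), (299, 0, 0), (333, 0, 0),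
   (578, 0, 0), (183, 0, 0), (446, 0, 0), (755, 0, 0), (306, 1, 0), (337, 0, 0), (577, 0, 0),
   (175, 0, 0), (358, 0, 0), (633, 0, 0), (225, 0, 0), (124, 0, 0), (191, 0, 0), (411, 0, 0),
   (753, 0, 0), (592, 0, 0), (396, 0, 0)]

/-- part 1 of octOctU0 -/
def octOctU0_1 : List (ℕ × ℕ × ℕ) := [
   (674, 0, 0), (342, 0, 0), (555, 0, 0), (50, 0, 0), (100, 0, 0), (328, 0, 0), (491, 0, 0),
   (703, 0, 0), (635, 0, 0), (99, 0, 0), (548, 1, 0), (91, 0, 0), (162, 0, 0), (454, 0, 0),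
   (564, 0, 0), (206, 0, 0), (445, 0, 0), (727, 0, 0), (741, 0, 0), (584, 0, 0), (151, 0, 0),
   (400, 0, 0), (675, 0, 0), (370, 0, 0), (553, 0, 0), (265, 0, 0), (307, 0, 0), (472, 0, 0),
   (511, 0, 0), (47, 0, 0), (280, 0, 0), (138, 0, 0), (457, 0, 0), (169, 2, 0), (478, 0, 0),
   (598, 0, 0), (458, 0, 0), (528, 0, 0), (17, 0, 0), (103, 0, 0), (204, 0, 0), (416, 0, 0),
   (721, 0, 0), (667, 0, 0), (360, 0, 0), (638, 0, 0), (81, 0, 0), (176, 0, 0), (404, 0, 0),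
   (587, 0, 0), (473, 0, 0), (643, 0, 0), (1, 0, 0), (240, 0, 0), (45, 0, 0), (88, 0, 0),
   (512, 2, 0), (262, 0, 0), (209, 0, 0), (410, 0, 0), (689, 0, 0), (645, 0, 0), (104, 0, 0),
   (160, 0, 0), (450, 0, 0), (550, 0, 0), (53, 0, 0), (102, 0, 0), (292, 0, 0), (484, 0, 0),
   (605, 0, 0), (334, 0, 0), (535, 0, 0), (267, 0, 0), (157, 0, 0), (363, 0, 0), (567, 0, 0),
   (172, 0, 0), (466, 0, 0), (699, 1, 0), (517, 0, 0), (70, 0, 0), (128, 0, 0), (145, 0, 0),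
   (474, 0, 0), (647, 0, 0), (84, 0, 0), (326, 0, 0), (502, 0, 0), (725, 0, 0), (704, 0, 0),
   (527, 0, 0), (43, 0, 0), (242, 0, 0), (49, 0, 0), (60, 0, 0), (121, 0, 0), (320, 0, 0),
   (493, 0, 0), (750, 0, 0), (614, 0, 0), (427, 0, 0), (660, 2, 0), (158, 0, 0), (359, 0, 0),
   (520, 0, 0), (114, 0, 0), (208, 0, 0), (439, 0, 0), (758, 0, 0), (757, 0, 0), (696, 0, 0),
   (530, 0, 0), (231, 0, 0), (127, 0, 0), (168, 0, 0), (365, 0, 0), (649, 0, 0), (229, 0, 0),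
   (235, 0, 0), (213, 0, 0), (90, 0, 0), (205, 0, 0), (418, 0, 0), (687, 0, 0), (254, 1, 0),
   (71, 0, 0), (5, 0, 0), (228, 0, 0), (286, 0, 0), (140, 0, 0), (346, 0, 0), (654, 0, 0),
   (194, 0, 0), (426, 0, 0), (712, 0, 0), (594, 0, 0), (409, 0, 0), (601, 0, 0), (335, 0, 0),
   (665, 0, 0), (202, 0, 0), (425, 0, 0), (748, 0, 0), (655, 0, 0), (180, 0, 0), (462, 0, 0),
   (508, 0, 0), (695, 2, 0), (581, 0, 0)]

/-- part 2 of octOctU0 -/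
def octOctU0_2 : List (ℕ × ℕ × ℕ) := [
   (156, 0, 0), (380, 0, 0), (627, 0, 0), (120, 0, 0), (317, 0, 0), (336, 0, 0), (630, 0, 0),
   (284, 0, 0), (195, 0, 0), (417, 0, 0), (743, 0, 0), (544, 0, 0), (44, 0, 0), (27, 0, 0),
   (272, 0, 0), (174, 0, 0), (403, 0, 0), (590, 0, 0), (483, 0, 0), (680, 0, 0), (413, 0, 0),
   (422, 2, 0), (749, 0, 0), (521, 0, 0), (39, 0, 0), (288, 0, 0), (135, 0, 0), (405, 0, 0),
   (681, 0, 0), (412, 0, 0), (746, 0, 0), (626, 0, 0), (29, 0, 0), (76, 0, 0), (79, 0, 0),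
   (170, 0, 0), (475, 0, 0), (560, 0, 0), (300, 0, 0), (467, 0, 0), (561, 0, 0), (139, 0, 0),
   (407, 0, 0), (617, 0, 0), (690, 2, 0), (506, 0, 0), (72, 0, 0), (32, 0, 0), (87, 0, 0),
   (314, 0, 0), (372, 0, 0), (522, 0, 0), (215, 0, 0), (276, 0, 0), (187, 0, 0), (438, 0, 0),
   (731, 0, 0), (693, 0, 0), (532, 0, 0), (234, 0, 0), (37, 0, 0), (119, 0, 0), (166, 0, 0),
   (367, 0, 0), (658, 0, 0), (319, 0, 0), (497, 0, 0), (123, 2, 0), (164, 0, 0), (394, 0, 0),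
   (671, 0, 0), (479, 0, 0), (604, 0, 0), (382, 0, 0), (621, 0, 0), (432, 0, 0), (717, 0, 0),
   (606, 0, 0), (468, 0, 0), (557, 0, 0), (214, 0, 0), (68, 0, 0), (281, 0, 0), (189, 0, 0),
   (499, 0, 0), (742, 0, 0), (519, 0, 0), (236, 0, 0), (41, 0, 0), (6, 0, 0), (19, 1, 0),
   (259, 0, 0), (269, 0, 0), (132, 0, 0), (488, 0, 0), (595, 0, 0), (341, 0, 0), (642, 0, 0),
   (78, 0, 0), (200, 0, 0), (433, 0, 0), (686, 0, 0), (551, 0, 0), (275, 0, 0), (197, 0, 0),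
   (494, 0, 0), (719, 0, 0), (607, 0, 0), (357, 0, 0), (661, 0, 0), (295, 0, 0), (381, 0, 0),
   (540, 0, 0), (83, 1, 0), (315, 0, 0), (388, 0, 0), (618, 0, 0), (490, 0, 0), (718, 0, 0),
   (597, 0, 0), (353, 0, 0), (554, 0, 0), (96, 0, 0), (207, 0, 0), (500, 0, 0), (692, 0, 0),
   (664, 0, 0), (304, 0, 0), (352, 0, 0), (657, 0, 0), (163, 0, 0), (379, 0, 0), (524, 0, 0),
   (211, 0, 0), (261, 0, 0), (14, 0, 0), (35, 4, 0), (58, 0, 0), (285, 0, 0), (173, 0, 0),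
   (453, 0, 0), (659, 0, 0), (290, 0, 0), (398, 0, 0), (586, 0, 0), (387, 0, 0), (613, 0, 0),
   (338, 0, 0), (536, 0, 0), (251, 0, 0)]

/-- part 3 of octOctU0 -/
def octOctU0_3 : List (ℕ × ℕ × ℕ) := [
   (109, 0, 0), (167, 0, 0), (480, 0, 0), (623, 0, 0), (503, 0, 0), (728, 0, 0), (738, 0, 0),
   (537, 0, 0), (65, 0, 0), (734, 2, 0), (729, 0, 0), (700, 0, 0), (571, 0, 0), (181, 0, 0),
   (377, 0, 0), (579, 0, 0), (311, 0, 0), (489, 0, 0), (668, 0, 0), (452, 0, 0), (652, 0, 0),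
   (7, 0, 0), (33, 0, 0), (248, 0, 0), (21, 0, 0), (63, 0, 0), (226, 0, 0), (18, 0, 0),
   (273, 0, 0), (185, 0, 0), (440, 0, 0), (736, 0, 0), (137, 1, 0), (361, 0, 0), (518, 0, 0),
   (22, 0, 0), (75, 0, 0), (82, 0, 0), (192, 0, 0), (505, 0, 0), (735, 0, 0), (724, 0, 0),
   (752, 0, 0), (599, 0, 0), (355, 0, 0), (552, 0, 0), (46, 0, 0), (77, 0, 0), (245, 0, 0),
   (216, 0, 0), (253, 0, 0), (263, 0, 0), (136, 0, 0), (455, 0, 0), (563, 0, 0), (588, 2, 0),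
   (371, 0, 0), (583, 0, 0), (141, 0, 0), (463, 0, 0), (663, 0, 0), (143, 0, 0), (378, 0, 0),
   (629, 0, 0), (8, 0, 0), (289, 0, 0), (131, 0, 0), (344, 0, 0), (651, 0, 0), (4, 0, 0),
   (36, 0, 0), (270, 0, 0), (182, 0, 0), (434, 0, 0), (683, 0, 0), (562, 0, 0), (308, 0, 0),
   (395, 0, 0), (106, 3, 0), (149, 0, 0), (390, 0, 0), (625, 0, 0), (421, 0, 0), (716, 0, 0),
   (678, 0, 0), (444, 0, 0), (737, 0, 0), (723, 0, 0), (707, 0, 0), (653, 0, 0), (28, 0, 0),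
   (257, 0, 0), (252, 0, 0), (48, 0, 0), (250, 0, 0), (212, 0, 0), (268, 0, 0), (301, 0, 0),
   (330, 0, 0), (525, 0, 0), (20, 0, 0), (572, 4, 0), (184, 0, 0), (501, 0, 0), (701, 0, 0),
   (516, 0, 0), (260, 0, 0), (232, 0, 0), (24, 0, 0), (243, 0, 0), (115, 0, 0), (148, 0, 0),
   (482, 0, 0), (669, 0, 0), (347, 0, 0), (575, 0, 0), (134, 0, 0), (362, 0, 0), (580, 0, 0),
   (186, 0, 0), (437, 0, 0), (751, 0, 0), (589, 0, 0), (476, 0, 0), (714, 1, 0), (673, 0, 0),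
   (376, 0, 0), (534, 0, 0), (54, 0, 0), (258, 0, 0), (55, 0, 0), (271, 0, 0), (310, 0, 0),
   (460, 0, 0), (515, 0, 0), (266, 0, 0), (155, 0, 0), (393, 0, 0), (591, 0, 0), (374, 0, 0),
   (538, 0, 0), (94, 0, 0), (303, 0, 0), (406, 0, 0), (615, 0, 0), (447, 0, 0), (756, 0, 0),
   (582, 2, 0), (133, 0, 0), (464, 0, 0)]

/-- part 4 of octOctU0 -/
def octOctU0_4 : List (ℕ × ℕ × ℕ) := [
   (637, 0, 0), (85, 0, 0), (178, 0, 0), (343, 0, 0), (570, 0, 0), (313, 0, 0), (354, 0, 0),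
   (568, 0, 0), (323, 0, 0), (436, 0, 0), (688, 0, 0), (559, 0, 0), (329, 0, 0), (428, 0, 0),
   (684, 0, 0), (646, 0, 0), (74, 0, 0), (105, 0, 0), (294, 0, 0), (469, 0, 0), (545, 2, 0),
   (116, 0, 0), (305, 0, 0), (459, 0, 0), (634, 0, 0), (59, 0, 0), (30, 0, 0), (89, 0, 0),
   (321, 0, 0), (448, 0, 0), (726, 0, 0), (691, 0, 0), (644, 0, 0), (34, 0, 0), (101, 0, 0),
   (201, 0, 0), (449, 0, 0), (733, 0, 0), (740, 0, 0), (639, 0, 0), (278, 0, 0), (150, 0, 0),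
   (366, 0, 0), (221, 4, 1), (110, 0, 0), (318, 0, 0), (420, 0, 0), (705, 0, 0), (565, 0, 0),
   (154, 0, 0), (486, 0, 0), (619, 0, 0), (429, 0, 0), (709, 0, 0), (509, 0, 0), (277, 0, 0),
   (316, 0, 0), (383, 0, 0), (610, 0, 0), (470, 0, 0), (533, 0, 0), (219, 0, 0), (274, 0, 0),
   (171, 0, 0), (348, 0, 0), (543, 0, 0), (9, 1, 1), (230, 0, 0), (217, 0, 0), (93, 0, 0),
   (142, 0, 0), (392, 0, 0), (593, 0, 0), (389, 0, 0), (620, 0, 0), (442, 0, 0), (730, 0, 0),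
   (702, 0, 0), (529, 0, 0), (126, 0, 0), (325, 0, 0), (431, 0, 0), (747, 0, 0), (542, 0, 0),
   (233, 0, 0), (238, 0, 0), (210, 0, 0), (52, 0, 0), (57, 0, 0), (241, 1, 2), (264, 0, 0),
   (327, 0, 0), (430, 0, 0), (711, 0, 0), (670, 0, 0), (465, 0, 0), (531, 0, 0), (13, 0, 0),
   (73, 0, 0), (64, 0, 0), (12, 0, 0), (283, 0, 0), (324, 0, 0), (443, 0, 0), (754, 0, 0),
   (685, 0, 0), (574, 0, 0), (198, 0, 0), (423, 0, 0), (706, 0, 0), (549, 0, 0), (69, 0, 0),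
   (507, 5, 0), (97, 0, 0), (302, 0, 0), (340, 0, 0), (523, 0, 0), (111, 0, 0), (161, 0, 0),
   (349, 0, 0), (656, 0, 0), (165, 0, 0), (399, 0, 0), (616, 0, 0), (492, 0, 0), (708, 0, 0),
   (558, 0, 0), (152, 0, 0), (477, 0, 0), (514, 0, 0), (51, 0, 0), (256, 0, 0), (92, 0, 0),
   (297, 0, 0), (471, 0, 0), (576, 1, 6), (130, 0, 0), (408, 0, 0), (609, 0, 0), (385, 0, 0),
   (677, 0, 0), (451, 0, 0), (573, 0, 0), (309, 0, 0), (351, 0, 0), (546, 0, 0), (218, 0, 0),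
   (66, 0, 0), (227, 0, 0), (15, 0, 0)]

/-- part 5 of octOctU0 -/
def octOctU0_5 : List (ℕ × ℕ × ℕ) := [
   (246, 0, 0), (23, 0, 0), (80, 0, 0), (322, 0, 0), (419, 0, 0), (713, 0, 0), (596, 0, 0),
   (350, 0, 0)]

/-- tree octOctU0 -/
def octOctU0 : List (ℕ × ℕ × ℕ) :=
  octOctU0_0 ++ octOctU0_1 ++ octOctU0_2 ++ octOctU0_3 ++ octOctU0_4 ++ octOctU0_5

/-- part 0 of octOctU1 -/
def octOctU1_0 : List (ℕ × ℕ × ℕ) := [
   (1, 0, 0), (4, 0, 0), (8, 0, 0), (17, 0, 0), (32, 0, 0), (58, 0, 0), (101, 0, 0),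
   (168, 0, 0), (271, 0, 0), (425, 0, 0), (250, 0, 0), (394, 0, 0), (162, 0, 0), (261, 0, 0),
   (409, 0, 0), (209, 0, 0), (329, 0, 0), (505, 0, 0), (502, 0, 0), (490, 0, 0), (450, 0, 0),
   (330, 0, 0), (228, 1, 0), (359, 0, 0), (71, 0, 0), (120, 0, 0), (196, 0, 0), (312, 0, 0),
   (483, 0, 0), (424, 0, 0), (248, 0, 0), (390, 0, 0), (150, 0, 0), (244, 0, 0), (385, 0, 0),
   (136, 0, 0), (221, 0, 0), (349, 0, 0), (41, 0, 0), (70, 0, 0), (119, 0, 0), (195, 0, 0),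
   (311, 0, 0), (481, 0, 0), (418, 0, 0), (496, 1, 0), (467, 0, 0), (376, 0, 0), (111, 0, 0),
   (182, 0, 0), (290, 0, 0), (451, 0, 0), (332, 0, 0), (3, 0, 0), (6, 0, 0), (14, 0, 0),
   (28, 0, 0), (51, 0, 0), (88, 0, 0), (148, 0, 0), (241, 0, 0), (380, 0, 0), (123, 0, 0),
   (200, 0, 0), (317, 0, 0), (489, 0, 0), (447, 0, 0), (322, 0, 0), (423, 1, 0), (243, 0, 0),
   (383, 0, 0), (133, 0, 0), (216, 0, 0), (341, 0, 0), (23, 0, 0), (43, 0, 0), (75, 0, 0),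
   (127, 0, 0), (206, 0, 0), (325, 0, 0), (499, 0, 0), (480, 0, 0), (417, 0, 0), (226, 0, 0),
   (356, 0, 0), (59, 0, 0), (104, 0, 0), (172, 0, 0), (276, 0, 0), (432, 0, 0), (270, 0, 0),
   (234, 1, 0), (368, 0, 0), (90, 0, 0), (151, 0, 0), (245, 0, 0), (386, 0, 0), (139, 0, 0),
   (227, 0, 0), (358, 0, 0), (68, 0, 0), (117, 0, 0), (193, 0, 0), (307, 0, 0), (476, 0, 0),
   (404, 0, 0), (190, 0, 0), (303, 0, 0), (472, 0, 0), (391, 0, 0), (152, 0, 0), (246, 0, 0),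
   (388, 0, 0), (144, 0, 0), (165, 1, 0), (267, 0, 0), (419, 0, 0), (231, 0, 0), (363, 0, 0),
   (79, 0, 0), (132, 0, 0), (214, 0, 0), (339, 0, 0), (19, 0, 0), (36, 0, 0), (64, 0, 0),
   (110, 0, 0), (181, 0, 0), (289, 0, 0), (449, 0, 0), (326, 0, 0), (500, 0, 0), (482, 0, 0),
   (420, 0, 0), (236, 0, 0), (372, 0, 0), (99, 0, 0), (548, 1, 0), (571, 0, 0), (605, 0, 0),
   (655, 0, 0), (724, 0, 0), (629, 0, 0), (687, 0, 0), (520, 0, 0), (531, 0, 0), (549, 0, 0),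
   (573, 0, 0), (607, 0, 0), (658, 0, 0)]

/-- part 1 of octOctU1 -/
def octOctU1_1 : List (ℕ × ℕ × ℕ) := [
   (727, 0, 0), (642, 0, 0), (706, 0, 0), (575, 0, 0), (612, 0, 0), (664, 0, 0), (735, 0, 0),
   (670, 0, 0), (744, 0, 0), (699, 0, 0), (525, 1, 0), (538, 0, 0), (557, 0, 0), (584, 0, 0),
   (624, 0, 0), (679, 0, 0), (756, 0, 0), (748, 0, 0), (712, 0, 0), (591, 0, 0), (634, 0, 0),
   (696, 0, 0), (542, 0, 0), (562, 0, 0), (593, 0, 0), (637, 0, 0), (700, 0, 0), (552, 0, 0),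
   (577, 0, 0), (615, 0, 0), (668, 0, 0), (740, 0, 0), (689, 0, 0), (379, 1, 0), (121, 0, 0),
   (197, 0, 0), (313, 0, 0), (484, 0, 0), (427, 0, 0), (256, 0, 0), (402, 0, 0), (185, 0, 0),
   (295, 0, 0), (458, 0, 0), (351, 0, 0), (47, 0, 0), (82, 0, 0), (138, 0, 0), (225, 0, 0),
   (355, 0, 0), (57, 0, 0), (100, 0, 0), (167, 0, 0), (269, 0, 0), (422, 0, 0), (240, 0, 0),
   (697, 1, 0), (543, 0, 0), (564, 0, 0), (597, 0, 0), (643, 0, 0), (707, 0, 0), (578, 0, 0),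
   (617, 0, 0), (671, 0, 0), (745, 0, 0), (704, 0, 0), (567, 0, 0), (600, 0, 0), (647, 0, 0),
   (714, 0, 0), (596, 0, 0), (641, 0, 0), (705, 0, 0), (572, 0, 0), (606, 0, 0), (656, 0, 0),
   (725, 0, 0), (635, 0, 0), (692, 3, 0), (530, 0, 0), (547, 0, 0), (570, 0, 0), (604, 0, 0),
   (653, 0, 0), (721, 0, 0), (621, 0, 0), (676, 0, 0), (751, 0, 0), (728, 0, 0), (646, 0, 0),
   (713, 0, 0), (595, 0, 0), (639, 0, 0), (702, 0, 0), (563, 0, 0), (594, 0, 0), (638, 0, 0),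
   (701, 0, 0), (559, 0, 0), (588, 0, 0), (631, 0, 0), (224, 1, 0), (354, 0, 0), (54, 0, 0),
   (93, 0, 0), (156, 0, 0), (253, 0, 0), (397, 0, 0), (169, 0, 0), (272, 0, 0), (426, 0, 0),
   (252, 0, 0), (396, 0, 0), (166, 0, 0), (268, 0, 0), (421, 0, 0), (238, 0, 0), (374, 0, 0),
   (103, 0, 0), (171, 0, 0), (275, 0, 0), (431, 0, 0), (266, 0, 0), (416, 0, 0), (163, 3, 0),
   (262, 0, 0), (410, 0, 0), (212, 0, 0), (335, 0, 0), (10, 0, 0), (21, 0, 0), (39, 0, 0),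
   (67, 0, 0), (116, 0, 0), (192, 0, 0), (306, 0, 0), (475, 0, 0), (400, 0, 0), (178, 0, 0),
   (285, 0, 0), (443, 0, 0), (304, 0, 0), (473, 0, 0), (392, 0, 0), (155, 0, 0), (251, 0, 0),
   (395, 0, 0), (441, 2, 0), (301, 0, 0)]

/-- part 2 of octOctU1 -/
def octOctU1_2 : List (ℕ × ℕ × ℕ) := [
   (468, 0, 0), (378, 0, 0), (115, 0, 0), (188, 0, 0), (299, 0, 0), (465, 0, 0), (371, 0, 0),
   (98, 0, 0), (164, 0, 0), (264, 0, 0), (413, 0, 0), (218, 0, 0), (344, 0, 0), (30, 0, 0),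
   (55, 0, 0), (94, 0, 0), (157, 0, 0), (254, 0, 0), (399, 0, 0), (177, 0, 0), (283, 0, 0),
   (487, 1, 0), (438, 0, 0), (291, 0, 0), (453, 0, 0), (336, 0, 0), (11, 0, 0), (22, 0, 0),
   (42, 0, 0), (74, 0, 0), (126, 0, 0), (204, 0, 0), (321, 0, 0), (494, 0, 0), (462, 0, 0),
   (365, 0, 0), (83, 0, 0), (140, 0, 0), (229, 0, 0), (360, 0, 0), (72, 0, 0), (122, 0, 0),
   (199, 0, 0), (316, 0, 0), (678, 1, 0), (755, 0, 0), (743, 0, 0), (695, 0, 0), (540, 0, 0),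
   (560, 0, 0), (589, 0, 0), (632, 0, 0), (693, 0, 0), (535, 0, 0), (554, 0, 0), (580, 0, 0),
   (619, 0, 0), (673, 0, 0), (747, 0, 0), (711, 0, 0), (590, 0, 0), (633, 0, 0), (694, 0, 0),
   (537, 0, 0), (556, 0, 0), (583, 0, 0), (623, 0, 0), (534, 2, 0), (553, 0, 0), (579, 0, 0),
   (618, 0, 0), (672, 0, 0), (746, 0, 0), (709, 0, 0), (585, 0, 0), (625, 0, 0), (680, 0, 0),
   (757, 0, 0), (752, 0, 0), (731, 0, 0), (654, 0, 0), (722, 0, 0), (626, 0, 0), (682, 0, 0),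
   (506, 0, 0), (507, 0, 0), (509, 0, 0), (512, 0, 0), (517, 0, 0), (523, 0, 0), (233, 1, 0),
   (367, 0, 0), (89, 0, 0), (149, 0, 0), (242, 0, 0), (381, 0, 0), (125, 0, 0), (203, 0, 0),
   (320, 0, 0), (493, 0, 0), (461, 0, 0), (361, 0, 0), (73, 0, 0), (124, 0, 0), (202, 0, 0),
   (319, 0, 0), (492, 0, 0), (455, 0, 0), (343, 0, 0), (27, 0, 0), (49, 0, 0), (85, 0, 0),
   (143, 0, 0), (153, 1, 0), (247, 0, 0), (389, 0, 0), (147, 0, 0), (239, 0, 0), (377, 0, 0),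
   (113, 0, 0), (186, 0, 0), (297, 0, 0), (460, 0, 0), (357, 0, 0), (61, 0, 0), (106, 0, 0),
   (174, 0, 0), (278, 0, 0), (435, 0, 0), (282, 0, 0), (440, 0, 0), (296, 0, 0), (459, 0, 0),
   (353, 0, 0), (52, 0, 0), (91, 0, 0), (15, 1, 0), (29, 0, 0), (53, 0, 0), (92, 0, 0),
   (154, 0, 0), (249, 0, 0), (393, 0, 0), (159, 0, 0), (257, 0, 0), (403, 0, 0), (189, 0, 0),
   (300, 0, 0), (466, 0, 0), (375, 0, 0)]

/-- part 3 of octOctU1 -/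
def octOctU1_3 : List (ℕ × ℕ × ℕ) := [
   (108, 0, 0), (179, 0, 0), (286, 0, 0), (444, 0, 0), (309, 0, 0), (478, 0, 0), (411, 0, 0),
   (213, 0, 0), (338, 0, 0), (220, 1, 0), (347, 0, 0), (38, 0, 0), (66, 0, 0), (114, 0, 0),
   (187, 0, 0), (298, 0, 0), (463, 0, 0), (366, 0, 0), (86, 0, 0), (145, 0, 0), (235, 0, 0),
   (370, 0, 0), (97, 0, 0), (161, 0, 0), (259, 0, 0), (406, 0, 0), (198, 0, 0), (314, 0, 0),
   (485, 0, 0), (430, 0, 0), (265, 0, 0), (414, 0, 0), (501, 1, 0), (488, 0, 0), (445, 0, 0),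
   (310, 0, 0), (479, 0, 0), (415, 0, 0), (222, 0, 0), (350, 0, 0), (45, 0, 0), (78, 0, 0),
   (130, 0, 0), (210, 0, 0), (331, 0, 0), (2, 0, 0), (5, 0, 0), (12, 0, 0), (24, 0, 0),
   (44, 0, 0), (77, 0, 0), (129, 0, 0), (208, 0, 0), (328, 0, 0), (504, 0, 0), (477, 4, 0),
   (407, 0, 0), (201, 0, 0), (318, 0, 0), (491, 0, 0), (452, 0, 0), (334, 0, 0), (9, 0, 0),
   (18, 0, 0), (34, 0, 0), (62, 0, 0), (107, 0, 0), (176, 0, 0), (281, 0, 0), (439, 0, 0),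
   (294, 0, 0), (457, 0, 0), (348, 0, 0), (40, 0, 0), (69, 0, 0), (118, 0, 0), (194, 0, 0),
   (308, 0, 0), (599, 1, 0), (645, 0, 0), (710, 0, 0), (586, 0, 0), (627, 0, 0), (684, 0, 0),
   (511, 0, 0), (516, 0, 0), (522, 0, 0), (533, 0, 0), (551, 0, 0), (576, 0, 0), (613, 0, 0),
   (665, 0, 0), (737, 0, 0), (681, 0, 0), (758, 0, 0), (754, 0, 0), (742, 0, 0), (691, 0, 0),
   (528, 0, 0), (544, 0, 0), (566, 0, 0), (25, 1, 0), (46, 0, 0), (80, 0, 0), (135, 0, 0),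
   (219, 0, 0), (345, 0, 0), (33, 0, 0), (60, 0, 0), (105, 0, 0), (173, 0, 0), (277, 0, 0),
   (434, 0, 0), (280, 0, 0), (437, 0, 0), (288, 0, 0), (448, 0, 0), (323, 0, 0), (497, 0, 0),
   (470, 0, 0), (384, 0, 0), (134, 0, 0), (217, 0, 0), (342, 0, 0), (741, 2, 0), (690, 0, 0),
   (527, 0, 0), (541, 0, 0), (561, 0, 0), (592, 0, 0), (636, 0, 0), (698, 0, 0), (545, 0, 0),
   (568, 0, 0), (601, 0, 0), (648, 0, 0), (715, 0, 0), (602, 0, 0), (649, 0, 0), (716, 0, 0),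
   (608, 0, 0), (660, 0, 0), (730, 0, 0), (652, 0, 0), (720, 0, 0), (616, 0, 0), (669, 0, 0),
   (610, 2, 0), (662, 0, 0), (733, 0, 0)]

/-- part 4 of octOctU1 -/
def octOctU1_4 : List (ℕ × ℕ × ℕ) := [
   (659, 0, 0), (729, 0, 0), (651, 0, 0), (718, 0, 0), (611, 0, 0), (663, 0, 0), (734, 0, 0),
   (666, 0, 0), (738, 0, 0), (683, 0, 0), (508, 0, 0), (510, 0, 0), (514, 0, 0), (519, 0, 0),
   (529, 0, 0), (546, 0, 0), (569, 0, 0), (603, 0, 0), (650, 0, 0), (717, 0, 0), (574, 6, 0),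
   (609, 0, 0), (661, 0, 0), (732, 0, 0), (657, 0, 0), (726, 0, 0), (640, 0, 0), (703, 0, 0),
   (565, 0, 0), (598, 0, 0), (644, 0, 0), (708, 0, 0), (581, 0, 0), (620, 0, 0), (675, 0, 0),
   (750, 0, 0), (723, 0, 0), (628, 0, 0), (686, 0, 0), (515, 0, 0), (521, 0, 0), (532, 0, 0),
   (550, 0, 0), (630, 2, 0), (688, 0, 0), (524, 0, 0), (536, 0, 0), (555, 0, 0), (582, 0, 0),
   (622, 0, 0), (677, 0, 0), (753, 0, 0), (736, 0, 0), (674, 0, 0), (749, 0, 0), (719, 0, 0),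
   (614, 0, 0), (667, 0, 0), (739, 0, 0), (685, 0, 0), (513, 0, 0), (518, 0, 0), (526, 0, 0),
   (539, 0, 0), (558, 0, 0), (587, 0, 0), (84, 1, 2), (141, 0, 0), (230, 0, 0), (362, 0, 0),
   (76, 0, 0), (128, 0, 0), (207, 0, 0), (327, 0, 0), (503, 0, 0), (495, 0, 0), (464, 0, 0),
   (369, 0, 0), (95, 0, 0), (158, 0, 0), (255, 0, 0), (401, 0, 0), (183, 0, 0), (292, 0, 0),
   (454, 0, 0), (337, 0, 0), (13, 0, 0), (26, 0, 0), (48, 0, 0), (112, 3, 6), (184, 0, 0),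
   (293, 0, 0), (456, 0, 0), (346, 0, 0), (35, 0, 0), (63, 0, 0), (109, 0, 0), (180, 0, 0),
   (287, 0, 0), (446, 0, 0), (315, 0, 0), (486, 0, 0), (433, 0, 0), (274, 0, 0), (429, 0, 0),
   (263, 0, 0), (412, 0, 0), (215, 0, 0), (340, 0, 0), (20, 0, 0), (37, 0, 0), (65, 0, 0),
   (223, 6, 1), (352, 0, 0), (50, 0, 0), (87, 0, 0), (146, 0, 0), (237, 0, 0), (373, 0, 0),
   (102, 0, 0), (170, 0, 0), (273, 0, 0), (428, 0, 0), (260, 0, 0), (408, 0, 0), (205, 0, 0),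
   (324, 0, 0), (498, 0, 0), (471, 0, 0), (387, 0, 0), (142, 0, 0), (232, 0, 0), (364, 0, 0),
   (81, 0, 0), (137, 0, 0), (284, 1, 2), (442, 0, 0), (302, 0, 0), (469, 0, 0), (382, 0, 0),
   (131, 0, 0), (211, 0, 0), (333, 0, 0), (7, 0, 0), (16, 0, 0), (31, 0, 0), (56, 0, 0),
   (96, 0, 0), (160, 0, 0), (258, 0, 0)]

/-- part 5 of octOctU1 -/
def octOctU1_5 : List (ℕ × ℕ × ℕ) := [
   (405, 0, 0), (191, 0, 0), (305, 0, 0), (474, 0, 0), (398, 0, 0), (175, 0, 0), (279, 0, 0),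
   (436, 0, 0)]

/-- tree octOctU1 -/
def octOctU1 : List (ℕ × ℕ × ℕ) :=
  octOctU1_0 ++ octOctU1_1 ++ octOctU1_2 ++ octOctU1_3 ++ octOctU1_4 ++ octOctU1_5

/-- part 0 of octOctU2 -/
def octOctU2_0 : List (ℕ × ℕ × ℕ) := [
   (5, 0, 0), (369, 0, 0), (291, 0, 0), (18, 0, 0), (86, 0, 0), (246, 0, 0), (400, 1, 0),
   (446, 0, 0), (308, 0, 0), (278, 0, 0), (395, 0, 0), (435, 0, 0), (181, 0, 0), (735, 1, 0),
   (596, 0, 0), (581, 0, 0), (710, 0, 0), (724, 0, 0), (597, 0, 0), (751, 0, 0), (10, 1, 0),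
   (470, 0, 0), (135, 0, 0), (346, 0, 0), (205, 0, 0), (223, 0, 0), (84, 0, 0), (364, 1, 0),
   (168, 0, 0), (474, 0, 0), (189, 0, 0), (230, 0, 0), (284, 0, 0), (210, 0, 0), (241, 1, 0),
   (398, 0, 0), (302, 0, 0), (74, 0, 0), (101, 0, 0), (378, 0, 0), (156, 0, 0), (595, 1, 0),
   (569, 0, 0), (578, 0, 0), (506, 0, 0), (509, 0, 0), (688, 0, 0), (754, 0, 0), (417, 1, 0),
   (496, 0, 0), (324, 0, 0), (93, 0, 0), (111, 0, 0), (46, 0, 0), (335, 0, 0), (370, 1, 0),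
   (294, 0, 0), (375, 0, 0), (321, 0, 0), (253, 0, 0), (85, 0, 0), (245, 0, 0), (288, 1, 0),
   (351, 0, 0), (154, 0, 0), (76, 0, 0), (485, 0, 0), (153, 0, 0), (44, 0, 0), (739, 1, 0),
   (592, 0, 0), (650, 0, 0), (719, 0, 0), (587, 0, 0), (551, 0, 0), (657, 0, 0), (363, 2, 0),
   (429, 0, 0), (145, 0, 0), (394, 0, 0), (322, 0, 0), (222, 0, 0), (78, 0, 0), (225, 1, 0),
   (113, 0, 0), (368, 0, 0), (311, 0, 0), (24, 0, 0), (482, 0, 0), (312, 0, 0), (199, 1, 0),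
   (399, 0, 0), (196, 0, 0), (38, 0, 0), (397, 0, 0), (424, 0, 0), (427, 0, 0), (598, 1, 0),
   (660, 0, 0), (663, 0, 0), (682, 0, 0), (606, 0, 0), (706, 0, 0), (758, 0, 0), (458, 4, 0),
   (202, 0, 0), (345, 0, 0), (447, 0, 0), (147, 0, 0), (483, 0, 0), (187, 0, 0), (448, 3, 0),
   (314, 0, 0), (120, 0, 0), (87, 0, 0), (473, 0, 0), (295, 0, 0), (459, 0, 0), (249, 1, 0),
   (452, 0, 0), (138, 0, 0), (475, 0, 0), (327, 0, 0), (15, 0, 0), (116, 0, 0), (286, 1, 0),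
   (112, 0, 0), (51, 0, 0), (54, 0, 0), (456, 0, 0), (493, 0, 0), (301, 0, 0), (292, 1, 0),
   (347, 0, 0), (318, 0, 0), (372, 0, 0), (186, 0, 0), (61, 0, 0), (387, 0, 0), (21, 1, 0),
   (283, 0, 0), (52, 0, 0), (211, 0, 0), (55, 0, 0), (457, 0, 0), (310, 0, 0), (201, 1, 0),
   (344, 0, 0), (188, 0, 0), (227, 0, 0)]

/-- part 1 of octOctU2 -/
def octOctU2_1 : List (ℕ × ℕ × ℕ) := [
   (479, 0, 0), (131, 0, 0), (374, 0, 0), (484, 1, 0), (319, 0, 0), (62, 0, 0), (487, 0, 0),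
   (431, 0, 0), (422, 0, 0), (328, 0, 0), (204, 1, 0), (371, 0, 0), (184, 0, 0), (349, 0, 0),
   (503, 0, 0), (299, 0, 0), (391, 0, 0), (217, 1, 0), (244, 0, 0), (49, 0, 0), (365, 0, 0),
   (170, 0, 0), (228, 0, 0), (268, 0, 0), (58, 1, 0), (405, 0, 0), (297, 0, 0), (229, 0, 0),
   (269, 0, 0), (471, 0, 0), (163, 0, 0), (594, 2, 0), (568, 0, 0), (713, 0, 0), (667, 0, 0),
   (521, 0, 0), (712, 0, 0), (731, 0, 0), (200, 1, 0), (279, 0, 0), (104, 0, 0), (234, 0, 0),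
   (376, 0, 0), (423, 0, 0), (437, 0, 0), (624, 1, 0), (636, 0, 0), (714, 0, 0), (755, 0, 0),
   (757, 0, 0), (619, 0, 0), (721, 0, 0), (289, 1, 0), (255, 0, 0), (28, 0, 0), (380, 0, 0),
   (501, 0, 0), (307, 0, 0), (110, 0, 0), (645, 1, 0), (539, 0, 0), (684, 0, 0), (733, 0, 0),
   (672, 0, 0), (659, 0, 0), (563, 0, 0), (239, 1, 0), (124, 0, 0), (26, 0, 0), (69, 0, 0),
   (35, 0, 0), (464, 0, 0), (155, 0, 0), (567, 2, 0), (562, 0, 0), (513, 0, 0), (738, 0, 0),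
   (722, 0, 0), (726, 0, 0), (625, 0, 0), (438, 1, 0), (172, 0, 0), (96, 0, 0), (481, 0, 0),
   (415, 0, 0), (298, 0, 0), (406, 0, 0), (389, 1, 0), (309, 0, 0), (342, 0, 0), (439, 0, 0),
   (434, 0, 0), (323, 0, 0), (92, 0, 0), (75, 1, 0), (125, 0, 0), (31, 0, 0), (357, 0, 0),
   (306, 0, 0), (467, 0, 0), (195, 0, 0), (671, 1, 0), (582, 0, 0), (656, 0, 0), (542, 0, 0),
   (517, 0, 0), (748, 0, 0), (725, 0, 0), (148, 1, 0), (273, 0, 0), (263, 0, 0), (4, 0, 0),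
   (50, 0, 0), (366, 0, 0), (411, 0, 0), (175, 1, 0), (272, 0, 0), (384, 0, 0), (137, 0, 0),
   (251, 0, 0), (383, 0, 0), (414, 0, 0), (162, 2, 0), (280, 0, 0), (276, 0, 0), (25, 0, 0),
   (65, 0, 0), (377, 0, 0), (425, 0, 0), (254, 4, 0), (264, 0, 0), (339, 0, 0), (313, 0, 0),
   (252, 0, 0), (386, 0, 0), (169, 0, 0), (329, 1, 0), (37, 0, 0), (396, 0, 0), (179, 0, 0),
   (468, 0, 0), (197, 0, 0), (361, 0, 0), (641, 1, 0), (639, 0, 0), (531, 0, 0), (749, 0, 0),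
   (612, 0, 0), (536, 0, 0), (585, 0, 0)]

/-- part 2 of octOctU2 -/
def octOctU2_2 : List (ℕ × ℕ × ℕ) := [
   (577, 1, 0), (541, 0, 0), (516, 0, 0), (633, 0, 0), (742, 0, 0), (669, 0, 0), (548, 0, 0),
   (262, 1, 0), (1, 0, 0), (338, 0, 0), (500, 0, 0), (420, 0, 0), (190, 0, 0), (122, 0, 0),
   (107, 1, 0), (126, 0, 0), (355, 0, 0), (498, 0, 0), (428, 0, 0), (504, 0, 0), (209, 0, 0),
   (620, 1, 0), (556, 0, 0), (571, 0, 0), (697, 0, 0), (729, 0, 0), (674, 0, 0), (718, 0, 0),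
   (523, 1, 0), (664, 0, 0), (514, 0, 0), (740, 0, 0), (608, 0, 0), (743, 0, 0), (623, 0, 0),
   (206, 1, 0), (119, 0, 0), (385, 0, 0), (141, 0, 0), (461, 0, 0), (502, 0, 0), (419, 0, 0),
   (66, 3, 0), (70, 0, 0), (257, 0, 0), (356, 0, 0), (305, 0, 0), (261, 0, 0), (274, 0, 0),
   (627, 1, 0), (703, 0, 0), (591, 0, 0), (649, 0, 0), (564, 0, 0), (628, 0, 0), (544, 0, 0),
   (90, 1, 0), (80, 0, 0), (53, 0, 0), (214, 0, 0), (336, 0, 0), (418, 0, 0), (315, 0, 0),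
   (442, 1, 0), (157, 1, 0), (260, 0, 0), (127, 0, 0), (463, 0, 0), (180, 0, 0), (242, 0, 0),
   (489, 0, 0), (580, 1, 0), (747, 0, 0), (589, 0, 0), (524, 0, 0), (753, 0, 0), (666, 0, 0),
   (519, 0, 0), (673, 2, 0), (557, 0, 0), (717, 0, 0), (677, 0, 0), (537, 0, 0), (661, 0, 0),
   (708, 0, 0), (574, 1, 0), (638, 0, 0), (696, 0, 0), (601, 0, 0), (709, 0, 0), (621, 0, 0),
   (535, 0, 0), (662, 2, 0), (528, 0, 0), (527, 0, 0), (554, 0, 0), (695, 0, 0), (600, 0, 0),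
   (538, 0, 0), (79, 4, 0), (367, 0, 0), (139, 0, 0), (224, 0, 0), (388, 0, 0), (293, 0, 0),
   (59, 0, 0), (453, 3, 0), (140, 0, 0), (226, 0, 0), (115, 0, 0), (3, 0, 0), (47, 0, 0),
   (6, 0, 0), (19, 1, 0), (89, 0, 0), (455, 0, 0), (290, 0, 0), (14, 0, 0), (403, 0, 0),
   (166, 0, 0), (445, 1, 0), (161, 0, 0), (108, 0, 0), (98, 0, 0), (350, 0, 0), (151, 0, 0),
   (359, 0, 0), (689, 1, 0), (670, 0, 0), (637, 0, 0), (750, 0, 0), (605, 0, 0), (549, 0, 0),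
   (579, 0, 0), (352, 2, 0), (426, 0, 0), (317, 0, 0), (109, 0, 0), (102, 0, 0), (72, 0, 0),
   (231, 0, 0), (720, 2, 0), (588, 0, 0), (691, 0, 0), (617, 0, 0), (744, 0, 0), (614, 0, 0),
   (518, 0, 0), (240, 1, 0), (99, 0, 0)]

/-- part 3 of octOctU2 -/
def octOctU2_3 : List (ℕ × ℕ × ℕ) := [
   (32, 0, 0), (476, 0, 0), (150, 0, 0), (358, 0, 0), (208, 0, 0), (734, 1, 0), (609, 0, 0),
   (715, 0, 0), (616, 0, 0), (693, 0, 0), (678, 0, 0), (690, 0, 0), (36, 1, 0), (236, 0, 0),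
   (232, 0, 0), (354, 0, 0), (178, 0, 0), (73, 0, 0), (100, 0, 0), (572, 2, 0), (698, 0, 0),
   (611, 0, 0), (534, 0, 0), (716, 0, 0), (602, 0, 0), (644, 0, 0), (522, 3, 0), (565, 0, 0),
   (629, 0, 0), (685, 0, 0), (586, 0, 0), (705, 0, 0), (615, 0, 0), (133, 1, 0), (64, 0, 0),
   (480, 0, 0), (136, 0, 0), (20, 0, 0), (281, 0, 0), (333, 0, 0), (12, 2, 0), (250, 0, 0),
   (220, 0, 0), (212, 0, 0), (56, 0, 0), (243, 0, 0), (48, 0, 0), (121, 1, 0), (88, 0, 0),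
   (215, 0, 0), (7, 0, 0), (454, 0, 0), (430, 0, 0), (146, 0, 0), (495, 1, 0), (194, 0, 0),
   (270, 0, 0), (401, 0, 0), (130, 0, 0), (373, 0, 0), (441, 0, 0), (287, 4, 0), (81, 0, 0),
   (332, 0, 0), (432, 0, 0), (494, 0, 0), (443, 0, 0), (193, 0, 0), (207, 3, 0), (77, 0, 0),
   (277, 0, 0), (238, 0, 0), (465, 0, 0), (316, 0, 0), (381, 0, 0), (658, 1, 0), (632, 0, 0),
   (626, 0, 0), (701, 0, 0), (732, 0, 0), (610, 0, 0), (570, 0, 0), (57, 1, 0), (114, 0, 0),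
   (2, 0, 0), (341, 0, 0), (296, 0, 0), (460, 0, 0), (185, 0, 0), (490, 1, 0), (171, 0, 0),
   (390, 0, 0), (203, 0, 0), (22, 0, 0), (265, 0, 0), (340, 0, 0), (362, 1, 0), (326, 0, 0),
   (42, 0, 0), (275, 0, 0), (67, 0, 0), (353, 0, 0), (177, 0, 0), (630, 4, 0), (515, 0, 0),
   (631, 0, 0), (647, 0, 0), (511, 0, 0), (543, 0, 0), (545, 0, 0), (91, 1, 0), (82, 0, 0),
   (334, 0, 0), (134, 0, 0), (343, 0, 0), (440, 0, 0), (142, 0, 0), (152, 1, 0), (43, 0, 0),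
   (486, 0, 0), (497, 0, 0), (158, 0, 0), (128, 0, 0), (408, 0, 0), (266, 3, 0), (45, 0, 0),
   (331, 0, 0), (167, 0, 0), (348, 0, 0), (320, 0, 0), (23, 0, 0), (216, 2, 0), (11, 0, 0),
   (248, 0, 0), (469, 0, 0), (132, 0, 0), (63, 0, 0), (285, 0, 0), (282, 1, 1), (8, 0, 0),
   (219, 0, 0), (472, 0, 0), (491, 0, 0), (173, 0, 0), (123, 0, 0), (478, 1, 0), (165, 0, 0),
   (13, 0, 0), (402, 0, 0), (416, 0, 0)]

/-- part 4 of octOctU2 -/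
def octOctU2_4 : List (ℕ × ℕ × ℕ) := [
   (300, 0, 0), (95, 0, 0), (450, 2, 0), (412, 0, 0), (149, 0, 0), (488, 0, 0), (182, 0, 0),
   (16, 0, 0), (117, 0, 0), (118, 4, 0), (218, 0, 0), (247, 0, 0), (337, 0, 0), (499, 0, 0),
   (174, 0, 0), (271, 0, 0), (183, 1, 1), (17, 0, 0), (382, 0, 0), (410, 0, 0), (421, 0, 0),
   (191, 0, 0), (392, 0, 0), (603, 5, 0), (746, 0, 0), (680, 0, 0), (643, 0, 0), (584, 0, 0),
   (552, 0, 0), (707, 0, 0), (233, 5, 0), (34, 0, 0), (462, 0, 0), (436, 0, 0), (159, 0, 0),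
   (129, 0, 0), (103, 0, 0), (654, 6, 0), (507, 0, 0), (510, 0, 0), (540, 0, 0), (686, 0, 0),
   (590, 0, 0), (525, 0, 0), (648, 5, 0), (176, 2, 0), (39, 0, 0), (105, 0, 0), (466, 0, 0),
   (304, 0, 0), (41, 0, 0), (407, 0, 0), (699, 6, 0), (756, 0, 0), (604, 0, 0), (575, 0, 0),
   (583, 0, 0), (529, 0, 0), (530, 0, 0), (561, 2, 2), (683, 0, 0), (607, 0, 0), (520, 0, 0),
   (711, 0, 0), (593, 0, 0), (635, 0, 0), (692, 3, 0), (618, 0, 0), (651, 0, 0), (655, 0, 0),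
   (512, 0, 0), (704, 0, 0), (675, 0, 0), (258, 5, 1), (68, 0, 0), (33, 0, 0), (259, 0, 0),
   (237, 0, 0), (235, 0, 0), (71, 0, 0), (303, 3, 0), (40, 0, 0), (106, 0, 0), (256, 0, 0),
   (29, 0, 0), (27, 0, 0), (379, 0, 0), (492, 3, 0), (144, 0, 0), (393, 0, 0), (505, 0, 0),
   (143, 0, 0), (94, 0, 0), (404, 0, 0), (192, 4, 0), (97, 0, 0), (267, 0, 0), (451, 0, 0),
   (413, 0, 0), (433, 0, 0), (449, 0, 0), (700, 6, 0), (737, 0, 0), (730, 0, 0), (622, 0, 0),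
   (576, 0, 0), (752, 0, 0), (599, 0, 0), (547, 3, 0), (646, 0, 0), (508, 0, 0), (687, 0, 0),
   (676, 0, 0), (634, 0, 0), (560, 0, 0), (213, 5, 0), (330, 0, 0), (164, 0, 0), (60, 0, 0),
   (83, 0, 0), (9, 0, 0), (221, 0, 0), (640, 4, 4), (533, 0, 0), (642, 0, 0), (652, 0, 0),
   (526, 0, 0), (553, 0, 0), (555, 0, 0), (745, 3, 1), (728, 0, 0), (613, 0, 0), (665, 0, 0),
   (573, 0, 0), (532, 0, 0), (653, 0, 0), (558, 1, 3), (702, 0, 0), (723, 0, 0), (727, 0, 0),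
   (736, 0, 0), (679, 0, 0), (566, 0, 0), (160, 1, 1), (409, 0, 0), (325, 0, 0), (360, 0, 0),
   (198, 0, 0), (477, 0, 0), (444, 0, 0)]

/-- part 5 of octOctU2 -/
def octOctU2_5 : List (ℕ × ℕ × ℕ) := [
   (546, 3, 9), (741, 0, 0), (668, 0, 0), (694, 0, 0), (681, 0, 0), (550, 0, 0), (559, 0, 0),
   (30, 4, 53)]

/-- tree octOctU2 -/
def octOctU2 : List (ℕ × ℕ × ℕ) :=
  octOctU2_0 ++ octOctU2_1 ++ octOctU2_2 ++ octOctU2_3 ++ octOctU2_4 ++ octOctU2_5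

/-- enlargements -/
def octOctUp : List ((ℕ × ℕ) × List (ℕ × ℕ × ℕ)) :=
  [((196159596629674213874571747672832518, 0), octOctU0),
   ((956302485175575353788796878166559809, 0), octOctU1),
   ((981486294261533825642611957767122982, 0), octOctU2)]

theorem octOct_max : octK.maxOK octOctL octOctGens 0 octOctCls octOctUp = true := by decide +kernel

end CfsgLib.Spor
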