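import Cfsg.Agent.Lib.Spor.OrbitDuum

/-!
Certificate: orbits on indexed objects of kind ptK.
-/

set_option autoImplicit false
set_option maxRecDepth 100000

namespace CfsgLib.Spor

open Cfsg
open scoped Pointwise

/-- families fixed -/
def ptPtL : List (List ℕ) := [[1]]

/-- generators -/
def ptPtGens : List ℕ := [838620808940829225173436577490515264,
  219443449406248042430291181703347776,
  688190534439833267586916858327278816,
  608249869953548792690666760028935424,
  376868190259540968218278358554810080,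
  274483605939112139882708084195777792]

/-- part 0 of ptPtT0 -/
def ptPtT0_0 : List (ℕ × ℕ × ℕ) := [
]

/-- tree ptPtT0 -/
def ptPtT0 : List (ℕ × ℕ × ℕ) :=
  ptPtT0_0

/-- part 0 of ptPtT1 -/
def ptPtT1_0 : List (ℕ × ℕ × ℕ) := [
   (10, 0, 0), (3, 0, 0), (11, 0, 0), (9, 0, 0), (15, 0, 0), (12, 0, 0), (21, 0, 0),
   (5, 2, 0), (23, 0, 0), (20, 0, 0), (19, 0, 0), (17, 3, 0), (18, 0, 0), (14, 0, 0),
   (16, 0, 0), (7, 0, 0), (4, 0, 0), (22, 0, 0), (6, 0, 0), (2, 4, 1), (13, 0, 0),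
   (8, 2, 4)]

/-- tree ptPtT1 -/
def ptPtT1 : List (ℕ × ℕ × ℕ) :=
  ptPtT1_0

/-- the orbit classes -/
def ptPtCls : List (ℕ × List (ℕ × ℕ × ℕ)) :=
  [(0, ptPtT0), (1, ptPtT1)]

theorem ptPt_ok : ptK.splitOK ptPtL ptPtGens ptPtCls = true := by decide +kernel

theorem ptPt_sizes : (ptPtCls.map fun c =>
    (classList ptK.ix.n fun i => decide (ptK.invsIx ptPtL i = ptK.invsIx ptPtL c.1)).length) = [1, 23] := by
  decide +kernel

end CfsgLib.Spor
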