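import Cfsg.Agent.Lib.Spor.OrbitDuum

/-!
Certificate: orbits on indexed objects of kind ptK.
-/

set_option autoImplicit false
set_option maxRecDepth 100000

namespace CfsgLib.Spor

open Cfsg
open scoped Pointwise

/-- families fixed -/
def transPtL : List (List ℕ) := []

/-- generators -/
def transPtGens : List ℕ := [956302485175575353788796878166559809,
  1795248432537898728475572672376535,
  974380510768821363662145534143076928]

/-- part 0 of transPtT0 -/
def transPtT0_0 : List (ℕ × ℕ × ℕ) := [
   (1, 0, 0), (2, 0, 0), (3, 0, 0), (4, 0, 0), (5, 0, 0), (6, 0, 0), (7, 0, 0),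
   (8, 0, 0), (9, 0, 0), (10, 0, 0), (11, 0, 0), (12, 0, 0), (13, 0, 0), (14, 0, 0),
   (15, 0, 0), (16, 0, 0), (17, 0, 0), (18, 0, 0), (19, 0, 0), (20, 0, 0), (21, 0, 0),
   (22, 0, 0), (23, 1, 22)]

/-- tree transPtT0 -/
def transPtT0 : List (ℕ × ℕ × ℕ) :=
  transPtT0_0

/-- the orbit classes -/
def transPtCls : List (ℕ × List (ℕ × ℕ × ℕ)) :=
  [(0, transPtT0)]

theorem transPt_ok : ptK.splitOK transPtL transPtGens transPtCls = true := by decide +kernel

theorem transPt_sizes : (transPtCls.map fun c =>
    (classList ptK.ix.n fun i => decide (ptK.invsIx transPtL i = ptK.invsIx transPtL c.1)).length) = [24] := by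
  decide +kernel

end CfsgLib.Spor
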