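import Cfsg.Agent.Lib.Spor.OrbitDuum

/-!
Certificate: orbits on indexed objects of kind ptK.
-/

set_option autoImplicit false
set_option maxRecDepth 100000

namespace CfsgLib.Spor

open Cfsg
open scoped Pointwise

/-- families fixed -/
def dodPtL : List (List ℕ) := [[28637]]

/-- generators -/
def dodPtGens : List ℕ := [916013420592552965157488568161090121,
  522743179409223905227240510208486953,
  229095743397333280994228301820371488,
  527222920647881779999769994103831268,
  238172118957166346476958172257296994,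
  856060139582067161809790312329328804]

/-- part 0 of dodPtT0 -/
def dodPtT0_0 : List (ℕ × ℕ × ℕ) := [
   (9, 0, 0), (8, 0, 0), (7, 0, 0), (13, 2, 0), (4, 0, 0), (6, 0, 0), (3, 0, 0),
   (2, 0, 0), (14, 0, 0), (11, 0, 0), (10, 0, 0)]

/-- tree dodPtT0 -/
def dodPtT0 : List (ℕ × ℕ × ℕ) :=
  dodPtT0_0

/-- part 0 of dodPtT1 -/
def dodPtT1_0 : List (ℕ × ℕ × ℕ) := [
   (18, 0, 0), (20, 0, 0), (15, 0, 0), (17, 0, 0), (12, 0, 0), (23, 0, 0), (22, 0, 0),
   (16, 2, 0), (21, 3, 0), (5, 3, 0), (19, 0, 0)]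

/-- tree dodPtT1 -/
def dodPtT1 : List (ℕ × ℕ × ℕ) :=
  dodPtT1_0

/-- the orbit classes -/
def dodPtCls : List (ℕ × List (ℕ × ℕ × ℕ)) :=
  [(0, dodPtT0), (1, dodPtT1)]

theorem dodPt_ok : ptK.splitOK dodPtL dodPtGens dodPtCls = true := by decide +kernel

theorem dodPt_sizes : (dodPtCls.map fun c =>
    (classList ptK.ix.n fun i => decide (ptK.invsIx dodPtL i = ptK.invsIx dodPtL c.1)).length) = [12, 12] := by
  decide +kernel

end CfsgLib.Spor
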