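import Cfsg.Agent.Lib.Spor.OrbitDuum

/-!
Certificate: orbits on indexed objects of kind ptK.
-/

set_option autoImplicit false
set_option maxRecDepth 100000

namespace CfsgLib.Spor

open Cfsg
open scoped Pointwise

/-- families fixed -/
def dodPt1L : List (List ℕ) := [[28637], [1]]

/-- generators -/
def dodPt1Gens : List ℕ := [894888423353994557591242978267210912,
  764140712272821624969529711912003616,
  505586656581319024104484948923388608,
  228085308120563489541611068370236960,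
  647276387084338169478237745521700544,
  647151690832707618543737099809893408]

/-- part 0 of dodPt1T0 -/
def dodPt1T0_0 : List (ℕ × ℕ × ℕ) := [
]

/-- tree dodPt1T0 -/
def dodPt1T0 : List (ℕ × ℕ × ℕ) :=
  dodPt1T0_0

/-- part 0 of dodPt1T1 -/
def dodPt1T1_0 : List (ℕ × ℕ × ℕ) := [
   (9, 0, 0), (3, 0, 0), (7, 0, 0), (10, 0, 0), (14, 0, 0), (8, 0, 0), (13, 0, 0),
   (11, 1, 1), (6, 4, 0), (4, 0, 0)]

/-- tree dodPt1T1 -/
def dodPt1T1 : List (ℕ × ℕ × ℕ) :=
  dodPt1T1_0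

/-- part 0 of dodPt1T2 -/
def dodPt1T2_0 : List (ℕ × ℕ × ℕ) := [
   (5, 0, 0), (19, 0, 0), (15, 0, 0), (18, 0, 0), (23, 0, 0), (21, 0, 0), (12, 0, 0),
   (22, 3, 1), (17, 0, 0), (16, 0, 0), (20, 0, 0)]

/-- tree dodPt1T2 -/
def dodPt1T2 : List (ℕ × ℕ × ℕ) :=
  dodPt1T2_0

/-- the orbit classes -/
def dodPt1Cls : List (ℕ × List (ℕ × ℕ × ℕ)) :=
  [(0, dodPt1T0), (2, dodPt1T1), (1, dodPt1T2)]

theorem dodPt1_ok : ptK.splitOK dodPt1L dodPt1Gens dodPt1Cls = true := by decide +kernel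

theorem dodPt1_sizes : (dodPt1Cls.map fun c =>
    (classList ptK.ix.n fun i => decide (ptK.invsIx dodPt1L i = ptK.invsIx dodPt1L c.1)).length) = [1, 11, 12] := by
  decide +kernel

end CfsgLib.Spor
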