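import Cfsg.Agent.Lib.Spor.OrbitDuum

/-!
Certificate: orbits on indexed objects of kind ptK.
-/

set_option autoImplicit false
set_option maxRecDepth 100000

namespace CfsgLib.Spor

open Cfsg
open scoped Pointwise

/-- families fixed -/
def dodPt2L : List (List ℕ) := [[28637], [1], [4]]

/-- generators -/
def dodPt2Gens : List ℕ := [72192095310634740552018662863047136,
  852053234570350061157780300681874080,
  813101718510745742531737189987158688,
  941944876387485272886364865948977312,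
  736920258912045652387416834830370976,
  773019306661007759518579442026908288]

/-- part 0 of dodPt2T0 -/
def dodPt2T0_0 : List (ℕ × ℕ × ℕ) := [
]

/-- tree dodPt2T0 -/
def dodPt2T0 : List (ℕ × ℕ × ℕ) :=
  dodPt2T0_0

/-- part 0 of dodPt2T1 -/
def dodPt2T1_0 : List (ℕ × ℕ × ℕ) := [
]

/-- tree dodPt2T1 -/
def dodPt2T1 : List (ℕ × ℕ × ℕ) :=
  dodPt2T1_0

/-- part 0 of dodPt2T2 -/
def dodPt2T2_0 : List (ℕ × ℕ × ℕ) := [
   (13, 0, 0), (9, 0, 0), (11, 0, 0), (7, 0, 0), (8, 0, 0), (14, 0, 0), (6, 0, 0),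
   (4, 3, 0), (10, 0, 0)]

/-- tree dodPt2T2 -/
def dodPt2T2 : List (ℕ × ℕ × ℕ) :=
  dodPt2T2_0

/-- part 0 of dodPt2T3 -/
def dodPt2T3_0 : List (ℕ × ℕ × ℕ) := [
   (15, 0, 0), (17, 0, 0), (5, 0, 0), (12, 0, 0), (18, 0, 0), (22, 0, 0), (23, 0, 0),
   (20, 1, 0), (21, 0, 0), (19, 0, 0), (16, 0, 0)]

/-- tree dodPt2T3 -/
def dodPt2T3 : List (ℕ × ℕ × ℕ) :=
  dodPt2T3_0

/-- the orbit classes -/
def dodPt2Cls : List (ℕ × List (ℕ × ℕ × ℕ)) :=
  [(0, dodPt2T0), (2, dodPt2T1), (3, dodPt2T2), (1, dodPt2T3)]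

theorem dodPt2_ok : ptK.splitOK dodPt2L dodPt2Gens dodPt2Cls = true := by decide +kernel

theorem dodPt2_sizes : (dodPt2Cls.map fun c =>
    (classList ptK.ix.n fun i => decide (ptK.invsIx dodPt2L i = ptK.invsIx dodPt2L c.1)).length) = [1, 1, 10, 12] := by
  decide +kernel

end CfsgLib.Spor
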