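import Cfsg.Agent.Lib.Spor.OrbitDuum

/-!
Certificate: orbits on indexed objects of kind ptK.
-/

set_option autoImplicit false
set_option maxRecDepth 100000

namespace CfsgLib.Spor

open Cfsg
open scoped Pointwise

/-- families fixed -/
def dodPt3L : List (List ℕ) := [[28637], [1], [4], [8]]

/-- generators -/
def dodPt3Gens : List ℕ := [941614056237450619649227785948465632,
  639610286319111978096701805941590720,
  901822542813354591381483251612879232,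
  639610286319111978096701805941590720,
  944193807339712080090060532964493984,
  727722307436267043100849304015833664]

/-- part 0 of dodPt3T0 -/
def dodPt3T0_0 : List (ℕ × ℕ × ℕ) := [
]

/-- tree dodPt3T0 -/
def dodPt3T0 : List (ℕ × ℕ × ℕ) :=
  dodPt3T0_0

/-- part 0 of dodPt3T1 -/
def dodPt3T1_0 : List (ℕ × ℕ × ℕ) := [
]

/-- tree dodPt3T1 -/
def dodPt3T1 : List (ℕ × ℕ × ℕ) :=
  dodPt3T1_0

/-- part 0 of dodPt3T2 -/
def dodPt3T2_0 : List (ℕ × ℕ × ℕ) := [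
]

/-- tree dodPt3T2 -/
def dodPt3T2 : List (ℕ × ℕ × ℕ) :=
  dodPt3T2_0

/-- part 0 of dodPt3T3 -/
def dodPt3T3_0 : List (ℕ × ℕ × ℕ) := [
   (13, 0, 0), (9, 0, 0), (14, 0, 0), (11, 2, 0), (6, 0, 0), (10, 0, 0), (7, 0, 0),
   (8, 5, 0)]

/-- tree dodPt3T3 -/
def dodPt3T3 : List (ℕ × ℕ × ℕ) :=
  dodPt3T3_0

/-- part 0 of dodPt3T4 -/
def dodPt3T4_0 : List (ℕ × ℕ × ℕ) := [
   (15, 0, 0), (21, 1, 0), (12, 0, 0), (23, 0, 0), (22, 0, 0), (16, 5, 0), (19, 0, 0),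
   (17, 1, 0), (5, 0, 0), (20, 0, 0), (18, 0, 0)]

/-- tree dodPt3T4 -/
def dodPt3T4 : List (ℕ × ℕ × ℕ) :=
  dodPt3T4_0

/-- the orbit classes -/
def dodPt3Cls : List (ℕ × List (ℕ × ℕ × ℕ)) :=
  [(0, dodPt3T0), (2, dodPt3T1), (3, dodPt3T2), (4, dodPt3T3), (1, dodPt3T4)]

theorem dodPt3_ok : ptK.splitOK dodPt3L dodPt3Gens dodPt3Cls = true := by decide +kernel

theorem dodPt3_sizes : (dodPt3Cls.map fun c =>
    (classList ptK.ix.n fun i => decide (ptK.invsIx dodPt3L i = ptK.invsIx dodPt3L c.1)).length) = [1, 1, 1, 9, 12] := by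
  decide +kernel

end CfsgLib.Spor
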