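import Cfsg.Agent.Lib.Spor.OrbitDuum

/-!
Certificate: orbits on indexed objects of kind dodK.
-/

set_option autoImplicit false
set_option maxRecDepth 100000

namespace CfsgLib.Spor

open Cfsg
open scoped Pointwise

/-- families fixed -/
def transDodL : List (List ℕ) := []

/-- generators -/
def transDodGens : List ℕ := [956302485175575353788796878166559809,
  1795248432537898728475572672376535,
  974380510768821363662145534143076928]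

/-- part 0 of transDodT0 -/
def transDodT0_0 : List (ℕ × ℕ × ℕ) := [
   (1, 0, 0), (4, 0, 0), (12, 0, 0), (37, 0, 0), (95, 0, 0), (233, 0, 0), (527, 0, 0),
   (1126, 0, 0), (950, 0, 0), (612, 0, 0), (1283, 0, 0), (1275, 0, 0), (1256, 0, 0), (1210, 0, 0),
   (1115, 0, 0), (922, 0, 0), (550, 0, 0), (1174, 0, 0), (1040, 0, 0), (776, 0, 0), (280, 0, 0),
   (616, 0, 0), (1237, 1, 0), (1167, 0, 0), (1025, 0, 0), (744, 0, 0), (216, 0, 0), (495, 0, 0),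
   (1070, 0, 0), (834, 0, 0), (379, 0, 0), (833, 0, 0), (377, 0, 0), (830, 0, 0), (372, 0, 0),
   (820, 0, 0), (356, 0, 0), (786, 0, 0), (297, 0, 0), (662, 0, 0), (74, 0, 0), (186, 0, 0),
   (431, 0, 0), (938, 0, 0), (586, 0, 0), (1958, 1, 0), (2573, 0, 0), (2567, 0, 0), (2551, 0, 0),
   (2510, 0, 0), (2409, 0, 0), (2185, 0, 0), (1718, 0, 0), (2151, 0, 0), (1649, 0, 0), (2015, 0, 0),
   (1379, 0, 0), (1495, 0, 0), (1722, 0, 0), (2161, 0, 0), (1668, 0, 0), (2052, 0, 0), (1455, 0, 0),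
   (1643, 0, 0), (2001, 0, 0), (1359, 0, 0), (1447, 0, 0), (1623, 0, 0), (2393, 2, 0), (2152, 0, 0),
   (1651, 0, 0), (2020, 0, 0), (1388, 0, 0), (1511, 0, 0), (1754, 0, 0), (2218, 0, 0), (1788, 0, 0),
   (2277, 0, 0), (1911, 0, 0), (2495, 0, 0), (2376, 0, 0), (2117, 0, 0), (1584, 0, 0), (1893, 0, 0),
   (2466, 0, 0), (2313, 0, 0), (1991, 0, 0), (1341, 0, 0), (1414, 0, 0), (1561, 0, 0), (1850, 0, 0),
   (526, 1, 0), (1125, 0, 0), (946, 0, 0), (604, 0, 0), (1270, 0, 0), (1245, 0, 0), (1183, 0, 0),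
   (1057, 0, 0), (807, 0, 0), (331, 0, 0), (735, 0, 0), (200, 0, 0), (460, 0, 0), (994, 0, 0),
   (689, 0, 0), (122, 0, 0), (285, 0, 0), (633, 0, 0), (26, 0, 0), (70, 0, 0), (177, 0, 0),
   (415, 0, 0), (909, 0, 0), (169, 1, 0), (396, 0, 0), (870, 0, 0), (449, 0, 0), (975, 0, 0),
   (651, 0, 0), (54, 0, 0), (138, 0, 0), (327, 0, 0), (726, 0, 0), (184, 0, 0), (427, 0, 0),
   (931, 0, 0), (571, 0, 0), (1213, 0, 0), (1121, 0, 0), (934, 0, 0), (578, 0, 0), (1225, 0, 0),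
   (1143, 0, 0), (979, 0, 0), (657, 0, 0), (66, 0, 0), (995, 2, 0), (690, 0, 0), (123, 0, 0),
   (288, 0, 0), (641, 0, 0), (38, 0, 0), (98, 0, 0), (239, 0, 0), (542, 0, 0), (1160, 0, 0),
   (1012, 0, 0), (721, 0, 0), (174, 0, 0)]

/-- part 1 of transDodT0 -/
def transDodT0_1 : List (ℕ × ℕ × ℕ) := [
   (408, 0, 0), (897, 0, 0), (502, 0, 0), (1084, 0, 0), (860, 0, 0), (430, 0, 0), (936, 0, 0),
   (581, 0, 0), (1228, 0, 0), (1150, 0, 0), (1656, 1, 0), (2032, 0, 0), (1412, 0, 0), (1557, 0, 0),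
   (1843, 0, 0), (2380, 0, 0), (2125, 0, 0), (1599, 0, 0), (1923, 0, 0), (2518, 0, 0), (2430, 0, 0),
   (2232, 0, 0), (1815, 0, 0), (2329, 0, 0), (2021, 0, 0), (1391, 0, 0), (1516, 0, 0), (1763, 0, 0),
   (2237, 0, 0), (1824, 0, 0), (2346, 0, 0), (2055, 0, 0), (1461, 0, 0), (2477, 1, 0), (2336, 0, 0),
   (2033, 0, 0), (1415, 0, 0), (1563, 0, 0), (1854, 0, 0), (2401, 0, 0), (2167, 0, 0), (1678, 0, 0),
   (2073, 0, 0), (1491, 0, 0), (1715, 0, 0), (2145, 0, 0), (1639, 0, 0), (1994, 0, 0), (1347, 0, 0),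
   (1425, 0, 0), (1580, 0, 0), (1885, 0, 0), (2452, 0, 0), (2287, 0, 0), (1934, 0, 0), (2537, 0, 0),
   (2214, 2, 0), (1778, 0, 0), (2261, 0, 0), (1877, 0, 0), (2440, 0, 0), (2255, 0, 0), (1862, 0, 0),
   (2415, 0, 0), (2197, 0, 0), (1743, 0, 0), (2199, 0, 0), (1746, 0, 0), (2204, 0, 0), (1758, 0, 0),
   (2225, 0, 0), (1801, 0, 0), (2301, 0, 0), (1970, 0, 0), (1304, 0, 0), (1327, 0, 0), (1387, 0, 0),
   (1510, 0, 0), (1752, 0, 0), (31, 1, 0), (79, 0, 0), (197, 0, 0), (455, 0, 0), (986, 0, 0),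
   (673, 0, 0), (93, 0, 0), (228, 0, 0), (517, 0, 0), (1109, 0, 0), (908, 0, 0), (525, 0, 0),
   (1124, 0, 0), (941, 0, 0), (592, 0, 0), (1247, 0, 0), (1186, 0, 0), (1062, 0, 0), (818, 0, 0),
   (353, 0, 0), (780, 0, 0), (287, 0, 0), (637, 0, 0), (1486, 1, 1), (1706, 0, 0), (2127, 0, 0),
   (1603, 0, 0), (1929, 0, 0), (2527, 0, 0), (2455, 0, 0), (2292, 0, 0), (1948, 0, 0), (2559, 0, 0),
   (2530, 0, 0), (2461, 0, 0), (2303, 0, 0), (1973, 0, 0), (1308, 0, 0), (1336, 0, 0), (1403, 0, 0),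
   (1537, 0, 0), (1804, 0, 0), (2307, 0, 0), (1980, 0, 0), (1322, 0, 0), (1375, 0, 0), (2134, 2, 0),
   (1620, 0, 0), (1955, 0, 0), (2569, 0, 0), (2555, 0, 0), (2519, 0, 0), (2432, 0, 0), (2234, 0, 0),
   (1820, 0, 0), (2339, 0, 0), (2038, 0, 0), (1426, 0, 0), (1582, 0, 0), (1889, 0, 0), (2458, 0, 0),
   (2298, 0, 0), (1964, 0, 0), (1293, 0, 0), (1302, 0, 0), (1323, 0, 0), (1377, 0, 0), (1489, 0, 0),
   (1710, 0, 0), (398, 1, 0), (874, 0, 0)]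

/-- part 2 of transDodT0 -/
def transDodT0_2 : List (ℕ × ℕ × ℕ) := [
   (457, 0, 0), (990, 0, 0), (679, 0, 0), (104, 0, 0), (251, 0, 0), (562, 0, 0), (1199, 0, 0),
   (1088, 0, 0), (868, 0, 0), (446, 0, 0), (969, 0, 0), (642, 0, 0), (40, 0, 0), (102, 0, 0),
   (248, 0, 0), (558, 0, 0), (1192, 0, 0), (1072, 0, 0), (837, 0, 0), (384, 0, 0), (844, 0, 0),
   (1137, 1, 0), (966, 0, 0), (638, 0, 0), (32, 0, 0), (82, 0, 0), (202, 0, 0), (463, 0, 0),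
   (1001, 0, 0), (702, 0, 0), (141, 0, 0), (337, 0, 0), (750, 0, 0), (227, 0, 0), (515, 0, 0),
   (1107, 0, 0), (904, 0, 0), (516, 0, 0), (1108, 0, 0), (905, 0, 0), (518, 0, 0), (1111, 0, 0),
   (913, 0, 0), (532, 0, 0), (842, 2, 0), (394, 0, 0), (864, 0, 0), (440, 0, 0), (953, 0, 0),
   (618, 0, 0), (3, 0, 0), (10, 0, 0), (33, 0, 0), (88, 0, 0), (217, 0, 0), (496, 0, 0),
   (1073, 0, 0), (841, 0, 0), (393, 0, 0), (863, 0, 0), (437, 0, 0), (947, 0, 0), (606, 0, 0),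
   (1272, 0, 0), (1250, 0, 0), (1193, 0, 0), (1074, 0, 0), (2247, 1, 0), (1848, 0, 0), (2390, 0, 0),
   (2146, 0, 0), (1640, 0, 0), (1995, 0, 0), (1348, 0, 0), (1428, 0, 0), (1588, 0, 0), (1901, 0, 0),
   (2479, 0, 0), (2340, 0, 0), (2040, 0, 0), (1429, 0, 0), (1590, 0, 0), (1905, 0, 0), (2488, 0, 0),
   (2360, 0, 0), (2082, 0, 0), (1509, 0, 0), (1750, 0, 0), (2211, 0, 0), (1770, 0, 0), (1316, 1, 0),
   (1355, 0, 0), (1440, 0, 0), (1613, 0, 0), (1944, 0, 0), (2552, 0, 0), (2513, 0, 0), (2420, 0, 0),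
   (2209, 0, 0), (1767, 0, 0), (2243, 0, 0), (1837, 0, 0), (2369, 0, 0), (2101, 0, 0), (1549, 0, 0),
   (1829, 0, 0), (2354, 0, 0), (2072, 0, 0), (1490, 0, 0), (1713, 0, 0), (2140, 0, 0), (1631, 0, 0),
   (1977, 0, 0), (1799, 2, 0), (2295, 0, 0), (1959, 0, 0), (2575, 0, 0), (2574, 0, 0), (2571, 0, 0),
   (2563, 0, 0), (2538, 0, 0), (2480, 0, 0), (2342, 0, 0), (2048, 0, 0), (1449, 0, 0), (1625, 0, 0),
   (1963, 0, 0), (1292, 0, 0), (1300, 0, 0), (1319, 0, 0), (1365, 0, 0), (1460, 0, 0), (1653, 0, 0),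
   (2025, 0, 0), (1401, 0, 0), (1535, 0, 0), (1176, 1, 0), (1043, 0, 0), (782, 0, 0), (290, 0, 0),
   (647, 0, 0), (49, 0, 0), (125, 0, 0), (294, 0, 0), (658, 0, 0), (68, 0, 0), (172, 0, 0),
   (403, 0, 0), (886, 0, 0), (479, 0, 0)]

/-- part 3 of transDodT0 -/
def transDodT0_3 : List (ℕ × ℕ × ℕ) := [
   (1034, 0, 0), (765, 0, 0), (256, 0, 0), (572, 0, 0), (1214, 0, 0), (1123, 0, 0), (939, 0, 0),
   (589, 0, 0), (1241, 0, 0), (692, 1, 0), (126, 0, 0), (296, 0, 0), (660, 0, 0), (72, 0, 0),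
   (181, 0, 0), (422, 0, 0), (921, 0, 0), (549, 0, 0), (1173, 0, 0), (1039, 0, 0), (773, 0, 0),
   (271, 0, 0), (601, 0, 0), (1264, 0, 0), (1231, 0, 0), (1156, 0, 0), (1006, 0, 0), (708, 0, 0),
   (153, 0, 0), (360, 0, 0), (795, 0, 0), (311, 0, 0), (71, 1, 1), (179, 0, 0), (418, 0, 0),
   (915, 0, 0), (534, 0, 0), (1144, 0, 0), (980, 0, 0), (661, 0, 0), (73, 0, 0), (183, 0, 0),
   (426, 0, 0), (930, 0, 0), (568, 0, 0), (1207, 0, 0), (1105, 0, 0), (898, 0, 0), (504, 0, 0),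
   (1087, 0, 0), (866, 0, 0), (443, 0, 0), (964, 0, 0), (634, 0, 0), (27, 0, 0), (44, 2, 0),
   (111, 0, 0), (265, 0, 0), (588, 0, 0), (1240, 0, 0), (1175, 0, 0), (1041, 0, 0), (777, 0, 0),
   (281, 0, 0), (622, 0, 0), (9, 0, 0), (29, 0, 0), (77, 0, 0), (191, 0, 0), (439, 0, 0),
   (949, 0, 0), (608, 0, 0), (1277, 0, 0), (1260, 0, 0), (1222, 0, 0), (1139, 0, 0), (970, 0, 0),
   (644, 0, 0), (2449, 1, 0), (2279, 0, 0), (1915, 0, 0), (2503, 0, 0), (2394, 0, 0), (2153, 0, 0),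
   (1654, 0, 0), (2026, 0, 0), (1402, 0, 0), (1536, 0, 0), (1802, 0, 0), (2304, 0, 0), (1974, 0, 0),
   (1311, 0, 0), (1344, 0, 0), (1419, 0, 0), (1569, 0, 0), (1867, 0, 0), (2422, 0, 0), (2215, 0, 0),
   (1780, 0, 0), (2264, 0, 0), (1883, 0, 0), (1334, 1, 0), (1399, 0, 0), (1532, 0, 0), (1793, 0, 0),
   (2285, 0, 0), (1928, 0, 0), (2526, 0, 0), (2450, 0, 0), (2281, 0, 0), (1917, 0, 0), (2507, 0, 0),
   (2403, 0, 0), (2172, 0, 0), (1689, 0, 0), (2096, 0, 0), (1541, 0, 0), (1810, 0, 0), (2319, 0, 0),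
   (2003, 0, 0), (1361, 0, 0), (1452, 0, 0), (1636, 0, 0), (1986, 0, 0), (596, 1, 1), (1254, 0, 0),
   (1204, 0, 0), (1098, 0, 0), (885, 0, 0), (477, 0, 0), (1030, 0, 0), (756, 0, 0), (238, 0, 0),
   (540, 0, 0), (1155, 0, 0), (1004, 0, 0), (706, 0, 0), (150, 0, 0), (352, 0, 0), (779, 0, 0),
   (286, 0, 0), (635, 0, 0), (28, 0, 0), (75, 0, 0), (188, 0, 0), (434, 0, 0), (943, 0, 0),
   (715, 2, 0), (164, 0, 0), (388, 0, 0)]

/-- part 4 of transDodT0 -/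
def transDodT0_4 : List (ℕ × ℕ × ℕ) := [
   (852, 0, 0), (413, 0, 0), (906, 0, 0), (519, 0, 0), (1113, 0, 0), (917, 0, 0), (538, 0, 0),
   (1153, 0, 0), (1000, 0, 0), (699, 0, 0), (137, 0, 0), (324, 0, 0), (720, 0, 0), (173, 0, 0),
   (405, 0, 0), (891, 0, 0), (488, 0, 0), (1054, 0, 0), (801, 0, 0), (321, 0, 0), (2114, 1, 0),
   (1579, 0, 0), (1884, 0, 0), (2451, 0, 0), (2282, 0, 0), (1919, 0, 0), (2511, 0, 0), (2412, 0, 0),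
   (2189, 0, 0), (1726, 0, 0), (2168, 0, 0), (1680, 0, 0), (2076, 0, 0), (1496, 0, 0), (1724, 0, 0),
   (2163, 0, 0), (1672, 0, 0), (2061, 0, 0), (1469, 0, 0), (1675, 0, 0), (2068, 0, 0), (1482, 0, 0),
   (1699, 0, 0), (1612, 2, 0), (1943, 0, 0), (2550, 0, 0), (2508, 0, 0), (2405, 0, 0), (2175, 0, 0),
   (1695, 0, 0), (2106, 0, 0), (1560, 0, 0), (1847, 0, 0), (2388, 0, 0), (2143, 0, 0), (1635, 0, 0),
   (1984, 0, 0), (1329, 0, 0), (1390, 0, 0), (1515, 0, 0), (1762, 0, 0), (2235, 0, 0), (1821, 0, 0),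
   (2341, 0, 0), (2044, 0, 0), (1439, 0, 0), (2202, 1, 0), (1753, 0, 0), (2217, 0, 0), (1784, 0, 0),
   (2270, 0, 0), (1895, 0, 0), (2469, 0, 0), (2320, 0, 0), (2005, 0, 0), (1364, 0, 0), (1458, 0, 0),
   (1650, 0, 0), (2018, 0, 0), (1385, 0, 0), (1506, 0, 0), (1744, 0, 0), (2201, 0, 0), (1751, 0, 0),
   (2213, 0, 0), (1775, 0, 0), (2256, 0, 0), (1864, 0, 0), (2417, 0, 0), (649, 1, 0), (52, 0, 0),
   (132, 0, 0), (313, 0, 0), (696, 0, 0), (133, 0, 0), (315, 0, 0), (700, 0, 0), (139, 0, 0),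
   (329, 0, 0), (729, 0, 0), (190, 0, 0), (438, 0, 0), (948, 0, 0), (607, 0, 0), (1274, 0, 0),
   (1255, 0, 0), (1209, 0, 0), (1112, 0, 0), (914, 0, 0), (533, 0, 0), (1141, 0, 0), (974, 0, 0),
   (566, 2, 0), (1205, 0, 0), (1101, 0, 0), (890, 0, 0), (487, 0, 0), (1050, 0, 0), (794, 0, 0),
   (310, 0, 0), (688, 0, 0), (121, 0, 0), (284, 0, 0), (630, 0, 0), (21, 0, 0), (58, 0, 0),
   (148, 0, 0), (349, 0, 0), (772, 0, 0), (269, 0, 0), (597, 0, 0), (1257, 0, 0), (1212, 0, 0),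
   (1119, 0, 0), (929, 0, 0), (1969, 1, 0), (1303, 0, 0), (1325, 0, 0), (1382, 0, 0), (1501, 0, 0),
   (1733, 0, 0), (2181, 0, 0), (1711, 0, 0), (2135, 0, 0), (1622, 0, 0), (1957, 0, 0), (2572, 0, 0),
   (2565, 0, 0), (2542, 0, 0), (2487, 0, 0)]

/-- part 5 of transDodT0 -/
def transDodT0_5 : List (ℕ × ℕ × ℕ) := [
   (2358, 0, 0), (2079, 0, 0), (1502, 0, 0), (1734, 0, 0), (2182, 0, 0), (1712, 0, 0), (2138, 0, 0),
   (1628, 0, 0), (1548, 1, 0), (1828, 0, 0), (2353, 0, 0), (2070, 0, 0), (1485, 0, 0), (1704, 0, 0),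
   (2124, 0, 0), (1597, 0, 0), (1920, 0, 0), (2512, 0, 0), (2414, 0, 0), (2195, 0, 0), (1740, 0, 0),
   (2193, 0, 0), (1736, 0, 0), (2188, 0, 0), (1725, 0, 0), (2165, 0, 0), (1674, 0, 0), (2066, 0, 0),
   (1478, 0, 0), (1691, 0, 0), (2100, 0, 0), (2069, 2, 0), (1483, 0, 0), (1700, 0, 0), (2116, 0, 0),
   (1583, 0, 0), (1891, 0, 0), (2462, 0, 0), (2305, 0, 0), (1976, 0, 0), (1313, 0, 0), (1351, 0, 0),
   (1433, 0, 0), (1598, 0, 0), (1921, 0, 0), (2514, 0, 0), (2421, 0, 0), (2212, 0, 0), (1772, 0, 0),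
   (2250, 0, 0), (1853, 0, 0), (2400, 0, 0), (2166, 0, 0), (1676, 0, 0), (2105, 1, 0), (1558, 0, 0),
   (1844, 0, 0), (2382, 0, 0), (2130, 0, 0), (1608, 0, 0), (1936, 0, 0), (2541, 0, 0), (2485, 0, 0),
   (2355, 0, 0), (2074, 0, 0), (1492, 0, 0), (1717, 0, 0), (2150, 0, 0), (1647, 0, 0), (2010, 0, 0),
   (1372, 0, 0), (1479, 0, 0), (1693, 0, 0), (2103, 0, 0), (1554, 0, 0), (1838, 0, 0), (2370, 0, 0),
   (1575, 2, 0), (1876, 0, 0), (2438, 0, 0), (2251, 0, 0), (1855, 0, 0), (2402, 0, 0), (2170, 0, 0),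
   (1684, 0, 0), (2087, 0, 0), (1521, 0, 0), (1774, 0, 0), (2254, 0, 0), (1860, 0, 0), (2411, 0, 0),
   (2187, 0, 0), (1723, 0, 0), (2162, 0, 0), (1669, 0, 0), (2056, 0, 0), (1462, 0, 0), (1658, 0, 0),
   (2037, 0, 0), (1422, 0, 0), (1464, 1, 0), (1662, 0, 0), (2043, 0, 0), (1438, 0, 0), (1609, 0, 0),
   (1937, 0, 0), (2543, 0, 0), (2493, 0, 0), (2373, 0, 0), (2112, 0, 0), (1574, 0, 0), (1873, 0, 0),
   (2434, 0, 0), (2238, 0, 0), (1825, 0, 0), (2348, 0, 0), (2060, 0, 0), (1468, 0, 0), (1671, 0, 0),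
   (2059, 0, 0), (1467, 0, 0), (1670, 0, 0), (2057, 0, 0), (574, 1, 0), (1216, 0, 0), (1128, 0, 0),
   (952, 0, 0), (617, 0, 0), (2, 0, 0), (8, 0, 0), (24, 0, 0), (65, 0, 0), (166, 0, 0),
   (390, 0, 0), (857, 0, 0), (424, 0, 0), (926, 0, 0), (560, 0, 0), (1196, 0, 0), (1080, 0, 0),
   (853, 0, 0), (414, 0, 0), (907, 0, 0), (523, 0, 0), (1120, 0, 0), (932, 0, 0), (962, 2, 0),
   (631, 0, 0), (23, 0, 0), (62, 0, 0)]

/-- part 6 of transDodT0 -/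
def transDodT0_6 : List (ℕ × ℕ × ℕ) := [
   (155, 0, 0), (366, 0, 0), (808, 0, 0), (332, 0, 0), (738, 0, 0), (206, 0, 0), (474, 0, 0),
   (1026, 0, 0), (746, 0, 0), (221, 0, 0), (503, 0, 0), (1085, 0, 0), (862, 0, 0), (435, 0, 0),
   (944, 0, 0), (598, 0, 0), (1259, 0, 0), (1220, 0, 0), (1135, 0, 0), (490, 2, 0), (1058, 0, 0),
   (810, 0, 0), (335, 0, 0), (745, 0, 0), (219, 0, 0), (498, 0, 0), (1077, 0, 0), (847, 0, 0),
   (404, 0, 0), (888, 0, 0), (484, 0, 0), (1045, 0, 0), (785, 0, 0), (295, 0, 0), (659, 0, 0),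
   (69, 0, 0), (176, 0, 0), (411, 0, 0), (902, 0, 0), (512, 0, 0), (1102, 0, 0), (892, 0, 0),
   (1738, 1, 2), (2191, 0, 0), (1731, 0, 0), (2177, 0, 0), (1701, 0, 0), (2118, 0, 0), (1585, 0, 0),
   (1896, 0, 0), (2471, 0, 0), (2324, 0, 0), (2013, 0, 0), (1376, 0, 0), (1487, 0, 0), (1707, 0, 0),
   (2129, 0, 0), (1606, 0, 0), (1933, 0, 0), (2535, 0, 0), (2473, 0, 0), (2327, 0, 0), (2017, 0, 0),
   (1383, 0, 0), (1503, 0, 0), (2099, 2, 1), (1546, 0, 0), (1823, 0, 0), (2344, 0, 0), (2053, 0, 0),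
   (1457, 0, 0), (1648, 0, 0), (2012, 0, 0), (1374, 0, 0), (1484, 0, 0), (1702, 0, 0), (2121, 0, 0),
   (1591, 0, 0), (1906, 0, 0), (2489, 0, 0), (2363, 0, 0), (2090, 0, 0), (1529, 0, 0), (1787, 0, 0),
   (2275, 0, 0), (1908, 0, 0), (2491, 0, 0), (2368, 0, 0), (1420, 1, 0), (1571, 0, 0), (1869, 0, 0),
   (2425, 0, 0), (2223, 0, 0), (1796, 0, 0), (2289, 0, 0), (1940, 0, 0), (2547, 0, 0), (2500, 0, 0),
   (2387, 0, 0), (2141, 0, 0), (1632, 0, 0), (1979, 0, 0), (1321, 0, 0), (1371, 0, 0), (1477, 0, 0),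
   (1690, 0, 0), (2098, 0, 0), (1545, 0, 0), (1819, 0, 0), (2337, 0, 0), (2035, 0, 0), (318, 1, 1),
   (710, 0, 0), (157, 0, 0), (370, 0, 0), (816, 0, 0), (347, 0, 0), (766, 0, 0), (259, 0, 0),
   (577, 0, 0), (1221, 0, 0), (1138, 0, 0), (968, 0, 0), (640, 0, 0), (36, 0, 0), (94, 0, 0),
   (230, 0, 0), (521, 0, 0), (1116, 0, 0), (923, 0, 0), (553, 0, 0), (1181, 0, 0), (1053, 0, 0),
   (799, 0, 0), (84, 2, 0), (207, 0, 0), (476, 0, 0), (1029, 0, 0), (752, 0, 0), (231, 0, 0),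
   (522, 0, 0), (1118, 0, 0), (927, 0, 0), (563, 0, 0), (1201, 0, 0), (1091, 0, 0), (873, 0, 0),
   (454, 0, 0), (984, 0, 0), (669, 0, 0)]

/-- part 7 of transDodT0 -/
def transDodT0_7 : List (ℕ × ℕ × ℕ) := [
   (86, 0, 0), (212, 0, 0), (485, 0, 0), (1046, 0, 0), (788, 0, 0), (300, 0, 0), (667, 0, 0),
   (2539, 1, 1), (2481, 0, 0), (2345, 0, 0), (2054, 0, 0), (1459, 0, 0), (1652, 0, 0), (2022, 0, 0),
   (1394, 0, 0), (1522, 0, 0), (1776, 0, 0), (2257, 0, 0), (1865, 0, 0), (2418, 0, 0), (2205, 0, 0),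
   (1759, 0, 0), (2228, 0, 0), (1809, 0, 0), (2316, 0, 0), (1998, 0, 0), (1354, 0, 0), (1437, 0, 0),
   (1607, 0, 0), (1935, 0, 0), (167, 1, 1), (392, 0, 0), (861, 0, 0), (433, 0, 0), (942, 0, 0),
   (594, 0, 0), (1251, 0, 0), (1195, 0, 0), (1078, 0, 0), (848, 0, 0), (406, 0, 0), (893, 0, 0),
   (492, 0, 0), (1063, 0, 0), (819, 0, 0), (355, 0, 0), (783, 0, 0), (291, 0, 0), (650, 0, 0),
   (53, 0, 0), (136, 0, 0), (322, 0, 0), (717, 0, 0), (991, 2, 0), (682, 0, 0), (109, 0, 0),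
   (262, 0, 0), (584, 0, 0), (1234, 0, 0), (1161, 0, 0), (1014, 0, 0), (725, 0, 0), (182, 0, 0),
   (423, 0, 0), (924, 0, 0), (555, 0, 0), (1187, 0, 0), (1064, 0, 0), (821, 0, 0), (357, 0, 0),
   (787, 0, 0), (298, 0, 0), (664, 0, 0), (80, 0, 0), (199, 0, 0), (458, 0, 0), (272, 1, 0),
   (602, 0, 0), (1267, 0, 0), (1239, 0, 0), (1172, 0, 0), (1038, 0, 0), (771, 0, 0), (268, 0, 0),
   (595, 0, 0), (1253, 0, 0), (1200, 0, 0), (1089, 0, 0), (869, 0, 0), (448, 0, 0), (972, 0, 0),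
   (646, 0, 0), (48, 0, 0), (120, 0, 0), (283, 0, 0), (627, 0, 0), (16, 0, 0), (45, 0, 0),
   (114, 0, 0), (363, 1, 0), (803, 0, 0), (325, 0, 0), (722, 0, 0), (175, 0, 0), (409, 0, 0),
   (899, 0, 0), (506, 0, 0), (1092, 0, 0), (875, 0, 0), (459, 0, 0), (992, 0, 0), (684, 0, 0),
   (113, 0, 0), (270, 0, 0), (599, 0, 0), (1262, 0, 0), (1224, 0, 0), (1142, 0, 0), (977, 0, 0),
   (654, 0, 0), (61, 0, 0), (154, 0, 0), (2521, 1, 1), (2437, 0, 0), (2248, 0, 0), (1849, 0, 0),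
   (2391, 0, 0), (2148, 0, 0), (1644, 0, 0), (2004, 0, 0), (1362, 0, 0), (1454, 0, 0), (1641, 0, 0),
   (1997, 0, 0), (1350, 0, 0), (1432, 0, 0), (1596, 0, 0), (1918, 0, 0), (2509, 0, 0), (2406, 0, 0),
   (2179, 0, 0), (1705, 0, 0), (2126, 0, 0), (1600, 0, 0), (1924, 0, 0), (1305, 1, 1), (1330, 0, 0),
   (1392, 0, 0), (1518, 0, 0), (1768, 0, 0)]

/-- part 8 of transDodT0 -/
def transDodT0_8 : List (ℕ × ℕ × ℕ) := [
   (2244, 0, 0), (1840, 0, 0), (2375, 0, 0), (2115, 0, 0), (1581, 0, 0), (1886, 0, 0), (2453, 0, 0),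
   (2290, 0, 0), (1942, 0, 0), (2549, 0, 0), (2505, 0, 0), (2398, 0, 0), (2160, 0, 0), (1666, 0, 0),
   (2049, 0, 0), (1450, 0, 0), (1629, 0, 0), (1971, 0, 0), (1248, 1, 1), (1188, 0, 0), (1065, 0, 0),
   (823, 0, 0), (361, 0, 0), (797, 0, 0), (314, 0, 0), (698, 0, 0), (135, 0, 0), (320, 0, 0),
   (713, 0, 0), (160, 0, 0), (378, 0, 0), (832, 0, 0), (376, 0, 0), (829, 0, 0), (371, 0, 0),
   (817, 0, 0), (350, 0, 0), (774, 0, 0), (274, 0, 0), (605, 0, 0), (1271, 0, 0), (903, 2, 0),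
   (514, 0, 0), (1106, 0, 0), (900, 0, 0), (507, 0, 0), (1093, 0, 0), (876, 0, 0), (461, 0, 0),
   (996, 0, 0), (691, 0, 0), (124, 0, 0), (293, 0, 0), (656, 0, 0), (64, 0, 0), (163, 0, 0),
   (386, 0, 0), (849, 0, 0), (407, 0, 0), (895, 0, 0), (499, 0, 0), (1079, 0, 0), (851, 0, 0),
   (412, 0, 0), (1182, 2, 0), (1055, 0, 0), (802, 0, 0), (323, 0, 0), (719, 0, 0), (171, 0, 0),
   (401, 0, 0), (881, 0, 0), (471, 0, 0), (1019, 0, 0), (733, 0, 0), (196, 0, 0), (453, 0, 0),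
   (983, 0, 0), (668, 0, 0), (85, 0, 0), (209, 0, 0), (481, 0, 0), (1037, 0, 0), (770, 0, 0),
   (266, 0, 0), (590, 0, 0), (1244, 0, 0), (489, 1, 0), (1056, 0, 0), (804, 0, 0), (326, 0, 0),
   (724, 0, 0), (180, 0, 0), (420, 0, 0), (918, 0, 0), (541, 0, 0), (1157, 0, 0), (1009, 0, 0),
   (714, 0, 0), (162, 0, 0), (381, 0, 0), (838, 0, 0), (385, 0, 0), (846, 0, 0), (402, 0, 0),
   (883, 0, 0), (473, 0, 0), (1024, 0, 0), (742, 0, 0), (213, 0, 0), (2362, 1, 0), (2086, 0, 0),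
   (1519, 0, 0), (1771, 0, 0), (2249, 0, 0), (1851, 0, 0), (2395, 0, 0), (2155, 0, 0), (1657, 0, 0),
   (2034, 0, 0), (1418, 0, 0), (1566, 0, 0), (1861, 0, 0), (2413, 0, 0), (2194, 0, 0), (1737, 0, 0),
   (2190, 0, 0), (1729, 0, 0), (2173, 0, 0), (1692, 0, 0), (2102, 0, 0), (1551, 0, 0), (1833, 0, 0),
   (1427, 1, 1), (1586, 0, 0), (1898, 0, 0), (2474, 0, 0), (2330, 0, 0), (2023, 0, 0), (1396, 0, 0),
   (1524, 0, 0), (1779, 0, 0), (2263, 0, 0), (1881, 0, 0), (2446, 0, 0), (2271, 0, 0), (1897, 0, 0),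
   (2472, 0, 0), (2325, 0, 0), (2014, 0, 0)]

/-- part 9 of transDodT0 -/
def transDodT0_9 : List (ℕ × ℕ × ℕ) := [
   (1378, 0, 0), (1494, 0, 0), (1720, 0, 0), (2156, 0, 0), (1659, 0, 0), (2039, 0, 0), (1910, 2, 1),
   (2494, 0, 0), (2374, 0, 0), (2113, 0, 0), (1577, 0, 0), (1880, 0, 0), (2444, 0, 0), (2266, 0, 0),
   (1888, 0, 0), (2456, 0, 0), (2296, 0, 0), (1960, 0, 0), (1288, 0, 0), (1290, 0, 0), (1297, 0, 0),
   (1314, 0, 0), (1352, 0, 0), (1435, 0, 0), (1602, 0, 0), (1927, 0, 0), (2525, 0, 0), (2448, 0, 0),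
   (2276, 0, 0), (1326, 1, 1), (1384, 0, 0), (1504, 0, 0), (1739, 0, 0), (2192, 0, 0), (1735, 0, 0),
   (2184, 0, 0), (1716, 0, 0), (2147, 0, 0), (1642, 0, 0), (1999, 0, 0), (1356, 0, 0), (1442, 0, 0),
   (1615, 0, 0), (1947, 0, 0), (2557, 0, 0), (2524, 0, 0), (2445, 0, 0), (2268, 0, 0), (1892, 0, 0),
   (2463, 0, 0), (2308, 0, 0), (1982, 0, 0), (1708, 1, 1), (2131, 0, 0), (1610, 0, 0), (1939, 0, 0),
   (2545, 0, 0), (2497, 0, 0), (2381, 0, 0), (2128, 0, 0), (1604, 0, 0), (1930, 0, 0), (2528, 0, 0),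
   (2457, 0, 0), (2297, 0, 0), (1961, 0, 0), (1289, 0, 0), (1296, 0, 0), (1310, 0, 0), (1342, 0, 0),
   (1416, 0, 0), (1564, 0, 0), (1857, 0, 0), (2407, 0, 0), (2180, 0, 0), (159, 1, 1), (375, 0, 0),
   (827, 0, 0), (367, 0, 0), (809, 0, 0), (334, 0, 0), (743, 0, 0), (214, 0, 0), (491, 0, 0),
   (1061, 0, 0), (814, 0, 0), (344, 0, 0), (762, 0, 0), (249, 0, 0), (559, 0, 0), (1194, 0, 0),
   (1076, 0, 0), (845, 0, 0), (399, 0, 0), (879, 0, 0), (467, 0, 0), (1008, 0, 0), (712, 0, 0),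
   (1047, 2, 0), (789, 0, 0), (302, 0, 0), (672, 0, 0), (91, 0, 0), (223, 0, 0), (508, 0, 0),
   (1095, 0, 0), (878, 0, 0), (465, 0, 0), (1005, 0, 0), (707, 0, 0), (152, 0, 0), (359, 0, 0),
   (793, 0, 0), (308, 0, 0), (685, 0, 0), (115, 0, 0), (273, 0, 0), (603, 0, 0), (1268, 0, 0),
   (1242, 0, 0), (1177, 0, 0), (600, 2, 0), (1263, 0, 0), (1229, 0, 0), (1151, 0, 0), (997, 0, 0),
   (693, 0, 0), (128, 0, 0), (301, 0, 0), (671, 0, 0), (89, 0, 0), (218, 0, 0), (497, 0, 0),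
   (1075, 0, 0), (843, 0, 0), (397, 0, 0), (872, 0, 0), (452, 0, 0), (981, 0, 0), (663, 0, 0),
   (76, 0, 0), (189, 0, 0), (436, 0, 0), (945, 0, 0), (447, 1, 1), (971, 0, 0), (645, 0, 0),
   (47, 0, 0), (118, 0, 0), (278, 0, 0)]

/-- part 10 of transDodT0 -/
def transDodT0_10 : List (ℕ × ℕ × ℕ) := [
   (614, 0, 0), (1286, 0, 0), (1279, 0, 0), (1265, 0, 0), (1233, 0, 0), (1159, 0, 0), (1011, 0, 0),
   (718, 0, 0), (168, 0, 0), (395, 0, 0), (867, 0, 0), (444, 0, 0), (965, 0, 0), (636, 0, 0),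
   (30, 0, 0), (78, 0, 0), (194, 0, 0), (1168, 1, 1), (1028, 0, 0), (749, 0, 0), (225, 0, 0),
   (511, 0, 0), (1100, 0, 0), (889, 0, 0), (486, 0, 0), (1048, 0, 0), (790, 0, 0), (303, 0, 0),
   (675, 0, 0), (97, 0, 0), (237, 0, 0), (539, 0, 0), (1154, 0, 0), (1002, 0, 0), (703, 0, 0),
   (144, 0, 0), (342, 0, 0), (757, 0, 0), (241, 0, 0), (546, 0, 0), (1698, 1, 1), (2111, 0, 0),
   (1572, 0, 0), (1870, 0, 0), (2428, 0, 0), (2227, 0, 0), (1807, 0, 0), (2314, 0, 0), (1993, 0, 0),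
   (1345, 0, 0), (1423, 0, 0), (1576, 0, 0), (1878, 0, 0), (2441, 0, 0), (2258, 0, 0), (1871, 0, 0),
   (2429, 0, 0), (2230, 0, 0), (1812, 0, 0), (2323, 0, 0), (2011, 0, 0), (1373, 0, 0), (1481, 0, 0),
   (2008, 2, 1), (1369, 0, 0), (1471, 0, 0), (1679, 0, 0), (2075, 0, 0), (1493, 0, 0), (1719, 0, 0),
   (2154, 0, 0), (1655, 0, 0), (2030, 0, 0), (1409, 0, 0), (1552, 0, 0), (1835, 0, 0), (2365, 0, 0),
   (2093, 0, 0), (1533, 0, 0), (1797, 0, 0), (2293, 0, 0), (1950, 0, 0), (2561, 0, 0), (2534, 0, 0),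
   (2470, 0, 0), (2322, 0, 0), (1530, 2, 0), (1790, 0, 0), (2280, 0, 0), (1916, 0, 0), (2506, 0, 0),
   (2399, 0, 0), (2164, 0, 0), (1673, 0, 0), (2063, 0, 0), (1473, 0, 0), (1683, 0, 0), (2085, 0, 0),
   (1517, 0, 0), (1765, 0, 0), (2240, 0, 0), (1830, 0, 0), (2356, 0, 0), (2077, 0, 0), (1498, 0, 0),
   (1728, 0, 0), (2171, 0, 0), (1687, 0, 0), (2091, 0, 0), (1792, 1, 1), (2284, 0, 0), (1925, 0, 0),
   (2522, 0, 0), (2439, 0, 0), (2253, 0, 0), (1858, 0, 0), (2408, 0, 0), (2183, 0, 0), (1714, 0, 0),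
   (2142, 0, 0), (1633, 0, 0), (1981, 0, 0), (1324, 0, 0), (1380, 0, 0), (1497, 0, 0), (1727, 0, 0),
   (2169, 0, 0), (1682, 0, 0), (2083, 0, 0), (1512, 0, 0), (1756, 0, 0), (2220, 0, 0), (1145, 1, 1),
   (982, 0, 0), (666, 0, 0), (83, 0, 0), (203, 0, 0), (466, 0, 0), (1007, 0, 0), (709, 0, 0),
   (156, 0, 0), (368, 0, 0), (811, 0, 0), (336, 0, 0), (748, 0, 0), (224, 0, 0), (510, 0, 0),
   (1099, 0, 0), (887, 0, 0), (480, 0, 0)]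

/-- part 11 of transDodT0 -/
def transDodT0_11 : List (ℕ × ℕ × ℕ) := [
   (1035, 0, 0), (767, 0, 0), (260, 0, 0), (579, 0, 0), (1226, 0, 0), (1208, 2, 1), (1110, 0, 0),
   (911, 0, 0), (529, 0, 0), (1131, 0, 0), (957, 0, 0), (623, 0, 0), (11, 0, 0), (35, 0, 0),
   (92, 0, 0), (226, 0, 0), (513, 0, 0), (1103, 0, 0), (894, 0, 0), (494, 0, 0), (1068, 0, 0),
   (828, 0, 0), (369, 0, 0), (815, 0, 0), (346, 0, 0), (764, 0, 0), (254, 0, 0), (569, 0, 0),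
   (989, 2, 1), (677, 0, 0), (101, 0, 0), (245, 0, 0), (552, 0, 0), (1179, 0, 0), (1051, 0, 0),
   (796, 0, 0), (312, 0, 0), (694, 0, 0), (129, 0, 0), (304, 0, 0), (678, 0, 0), (103, 0, 0),
   (250, 0, 0), (561, 0, 0), (1197, 0, 0), (1081, 0, 0), (855, 0, 0), (419, 0, 0), (916, 0, 0),
   (536, 0, 0), (1148, 0, 0), (1520, 1, 1), (1773, 0, 0), (2252, 0, 0), (1856, 0, 0), (2404, 0, 0),
   (2174, 0, 0), (1694, 0, 0), (2104, 0, 0), (1556, 0, 0), (1842, 0, 0), (2379, 0, 0), (2122, 0, 0),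
   (1592, 0, 0), (1907, 0, 0), (2490, 0, 0), (2366, 0, 0), (2094, 0, 0), (1538, 0, 0), (1805, 0, 0),
   (2309, 0, 0), (1985, 0, 0), (1331, 0, 0), (1393, 0, 0), (1875, 1, 2), (2436, 0, 0), (2246, 0, 0),
   (1846, 0, 0), (2385, 0, 0), (2137, 0, 0), (1627, 0, 0), (1968, 0, 0), (1301, 0, 0), (1320, 0, 0),
   (1366, 0, 0), (1463, 0, 0), (1661, 0, 0), (2042, 0, 0), (1434, 0, 0), (1601, 0, 0), (1926, 0, 0),
   (2523, 0, 0), (2443, 0, 0), (2262, 0, 0), (1879, 0, 0), (2442, 0, 0), (2260, 0, 0), (619, 1, 1),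
   (5, 0, 0), (17, 0, 0), (46, 0, 0), (116, 0, 0), (275, 0, 0), (609, 0, 0), (1280, 0, 0),
   (1266, 0, 0), (1236, 0, 0), (1164, 0, 0), (1020, 0, 0), (736, 0, 0), (204, 0, 0), (468, 0, 0),
   (1013, 0, 0), (723, 0, 0), (178, 0, 0), (416, 0, 0), (910, 0, 0), (528, 0, 0), (1129, 0, 0),
   (954, 0, 0), (1163, 1, 1), (1018, 0, 0), (732, 0, 0), (195, 0, 0), (450, 0, 0), (976, 0, 0),
   (652, 0, 0), (57, 0, 0), (145, 0, 0), (343, 0, 0), (760, 0, 0), (246, 0, 0), (554, 0, 0),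
   (1184, 0, 0), (1059, 0, 0), (812, 0, 0), (338, 0, 0), (751, 0, 0), (229, 0, 0), (520, 0, 0),
   (1114, 0, 0), (919, 0, 0), (543, 0, 0), (493, 2, 3), (1066, 0, 0), (825, 0, 0), (364, 0, 0),
   (805, 0, 0), (328, 0, 0), (727, 0, 0)]

/-- part 12 of transDodT0 -/
def transDodT0_12 : List (ℕ × ℕ × ℕ) := [
   (185, 0, 0), (429, 0, 0), (935, 0, 0), (580, 0, 0), (1227, 0, 0), (1147, 0, 0), (987, 0, 0),
   (674, 0, 0), (96, 0, 0), (235, 0, 0), (535, 0, 0), (1146, 0, 0), (985, 0, 0), (670, 0, 0),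
   (87, 0, 0), (215, 0, 0), (2272, 1, 1), (1900, 0, 0), (2478, 0, 0), (2338, 0, 0), (2036, 0, 0),
   (1421, 0, 0), (1573, 0, 0), (1872, 0, 0), (2431, 0, 0), (2233, 0, 0), (1818, 0, 0), (2334, 0, 0),
   (2029, 0, 0), (1407, 0, 0), (1547, 0, 0), (1826, 0, 0), (2350, 0, 0), (2064, 0, 0), (1475, 0, 0),
   (1686, 0, 0), (2089, 0, 0), (1527, 0, 0), (1785, 0, 0), (2499, 2, 0), (2386, 0, 0), (2139, 0, 0),
   (1630, 0, 0), (1975, 0, 0), (1312, 0, 0), (1346, 0, 0), (1424, 0, 0), (1578, 0, 0), (1882, 0, 0),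
   (2447, 0, 0), (2274, 0, 0), (1904, 0, 0), (2486, 0, 0), (2357, 0, 0), (2078, 0, 0), (1500, 0, 0),
   (1732, 0, 0), (2178, 0, 0), (1703, 0, 0), (2123, 0, 0), (1594, 0, 0), (1912, 0, 0), (884, 1, 0),
   (475, 0, 0), (1027, 0, 0), (747, 0, 0), (222, 0, 0), (505, 0, 0), (1090, 0, 0), (871, 0, 0),
   (451, 0, 0), (978, 0, 0), (655, 0, 0), (63, 0, 0), (161, 0, 0), (380, 0, 0), (835, 0, 0),
   (382, 0, 0), (839, 0, 0), (387, 0, 0), (850, 0, 0), (410, 0, 0), (901, 0, 0), (509, 0, 0),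
   (1097, 0, 0), (1003, 1, 0), (705, 0, 0), (147, 0, 0), (348, 0, 0), (768, 0, 0), (261, 0, 0),
   (582, 0, 0), (1230, 0, 0), (1152, 0, 0), (999, 0, 0), (697, 0, 0), (134, 0, 0), (317, 0, 0),
   (704, 0, 0), (146, 0, 0), (345, 0, 0), (763, 0, 0), (252, 0, 0), (564, 0, 0), (1202, 0, 0),
   (1094, 0, 0), (877, 0, 0), (464, 0, 0), (567, 2, 3), (1206, 0, 0), (1104, 0, 0), (896, 0, 0),
   (500, 0, 0), (1082, 0, 0), (856, 0, 0), (421, 0, 0), (920, 0, 0), (545, 0, 0), (1166, 0, 0),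
   (1023, 0, 0), (740, 0, 0), (210, 0, 0), (482, 0, 0), (1042, 0, 0), (778, 0, 0), (282, 0, 0),
   (625, 0, 0), (14, 0, 0), (41, 0, 0), (105, 0, 0), (253, 0, 0), (56, 1, 0), (143, 0, 0),
   (341, 0, 0), (755, 0, 0), (236, 0, 0), (537, 0, 0), (1149, 0, 0), (993, 0, 0), (686, 0, 0),
   (117, 0, 0), (277, 0, 0), (611, 0, 0), (1282, 0, 0), (1273, 0, 0), (1252, 0, 0), (1198, 0, 0),
   (1086, 0, 0), (865, 0, 0), (441, 0, 0)]

/-- part 13 of transDodT0 -/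
def transDodT0_13 : List (ℕ × ℕ × ℕ) := [
   (955, 0, 0), (620, 0, 0), (6, 0, 0), (20, 0, 0), (340, 2, 1), (754, 0, 0), (234, 0, 0),
   (531, 0, 0), (1136, 0, 0), (963, 0, 0), (632, 0, 0), (25, 0, 0), (67, 0, 0), (170, 0, 0),
   (400, 0, 0), (880, 0, 0), (469, 0, 0), (1015, 0, 0), (728, 0, 0), (187, 0, 0), (432, 0, 0),
   (940, 0, 0), (591, 0, 0), (1246, 0, 0), (1185, 0, 0), (1060, 0, 0), (813, 0, 0), (279, 2, 9),
   (615, 0, 0), (1287, 0, 0), (1285, 0, 0), (1278, 0, 0), (1261, 0, 0), (1223, 0, 0), (1140, 0, 0),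
   (973, 0, 0), (648, 0, 0), (50, 0, 0), (127, 0, 0), (299, 0, 0), (665, 0, 0), (81, 0, 0),
   (201, 0, 0), (462, 0, 0), (998, 0, 0), (695, 0, 0), (131, 0, 0), (309, 0, 0), (687, 0, 0),
   (119, 0, 0), (267, 2, 2), (593, 0, 0), (1249, 0, 0), (1191, 0, 0), (1071, 0, 0), (836, 0, 0),
   (383, 0, 0), (840, 0, 0), (391, 0, 0), (859, 0, 0), (428, 0, 0), (933, 0, 0), (576, 0, 0),
   (1219, 0, 0), (1133, 0, 0), (960, 0, 0), (628, 0, 0), (18, 0, 0), (51, 0, 0), (130, 0, 0),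
   (307, 0, 0), (683, 0, 0), (112, 0, 0), (478, 2, 2), (1033, 0, 0), (761, 0, 0), (247, 0, 0),
   (556, 0, 0), (1189, 0, 0), (1067, 0, 0), (826, 0, 0), (365, 0, 0), (806, 0, 0), (330, 0, 0),
   (734, 0, 0), (198, 0, 0), (456, 0, 0), (988, 0, 0), (676, 0, 0), (99, 0, 0), (240, 0, 0),
   (544, 0, 0), (1165, 0, 0), (1022, 0, 0), (739, 0, 0), (208, 0, 0), (2294, 1, 6), (1953, 0, 0),
   (2566, 0, 0), (2546, 0, 0), (2498, 0, 0), (2384, 0, 0), (2136, 0, 0), (1626, 0, 0), (1967, 0, 0),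
   (1298, 0, 0), (1315, 0, 0), (1353, 0, 0), (1436, 0, 0), (1605, 0, 0), (1931, 0, 0), (2531, 0, 0),
   (2464, 0, 0), (2310, 0, 0), (1987, 0, 0), (1335, 0, 0), (1400, 0, 0), (1534, 0, 0), (1798, 0, 0),
   (1343, 2, 3), (1417, 0, 0), (1565, 0, 0), (1859, 0, 0), (2410, 0, 0), (2186, 0, 0), (1721, 0, 0),
   (2158, 0, 0), (1663, 0, 0), (2045, 0, 0), (1441, 0, 0), (1614, 0, 0), (1946, 0, 0), (2556, 0, 0),
   (2520, 0, 0), (2433, 0, 0), (2236, 0, 0), (1822, 0, 0), (2343, 0, 0), (2051, 0, 0), (1453, 0, 0),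
   (1638, 0, 0), (1992, 0, 0), (583, 1, 0), (1232, 0, 0), (1158, 0, 0), (1010, 0, 0), (716, 0, 0),
   (165, 0, 0), (389, 0, 0), (854, 0, 0)]

/-- part 14 of transDodT0 -/
def transDodT0_14 : List (ℕ × ℕ × ℕ) := [
   (417, 0, 0), (912, 0, 0), (530, 0, 0), (1134, 0, 0), (961, 0, 0), (629, 0, 0), (19, 0, 0),
   (55, 0, 0), (142, 0, 0), (339, 0, 0), (753, 0, 0), (232, 0, 0), (524, 0, 0), (1122, 0, 0),
   (937, 0, 0), (1868, 1, 0), (2423, 0, 0), (2216, 0, 0), (1782, 0, 0), (2267, 0, 0), (1890, 0, 0),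
   (2460, 0, 0), (2302, 0, 0), (1972, 0, 0), (1307, 0, 0), (1333, 0, 0), (1398, 0, 0), (1528, 0, 0),
   (1786, 0, 0), (2273, 0, 0), (1903, 0, 0), (2484, 0, 0), (2352, 0, 0), (2067, 0, 0), (1480, 0, 0),
   (1697, 0, 0), (2110, 0, 0), (1570, 0, 0), (425, 1, 1), (928, 0, 0), (565, 0, 0), (1203, 0, 0),
   (1096, 0, 0), (882, 0, 0), (472, 0, 0), (1021, 0, 0), (737, 0, 0), (205, 0, 0), (470, 0, 0),
   (1017, 0, 0), (731, 0, 0), (193, 0, 0), (445, 0, 0), (967, 0, 0), (639, 0, 0), (34, 0, 0),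
   (90, 0, 0), (220, 0, 0), (501, 0, 0), (1083, 0, 0), (858, 0, 0), (292, 2, 0), (653, 0, 0),
   (59, 0, 0), (149, 0, 0), (351, 0, 0), (775, 0, 0), (276, 0, 0), (610, 0, 0), (1281, 0, 0),
   (1269, 0, 0), (1243, 0, 0), (1180, 0, 0), (1052, 0, 0), (798, 0, 0), (316, 0, 0), (701, 0, 0),
   (140, 0, 0), (333, 0, 0), (741, 0, 0), (211, 0, 0), (483, 0, 0), (1044, 0, 0), (784, 0, 0),
   (1238, 2, 1), (1170, 0, 0), (1032, 0, 0), (759, 0, 0), (244, 0, 0), (551, 0, 0), (1178, 0, 0),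
   (1049, 0, 0), (792, 0, 0), (306, 0, 0), (681, 0, 0), (108, 0, 0), (258, 0, 0), (575, 0, 0),
   (1218, 0, 0), (1132, 0, 0), (959, 0, 0), (626, 0, 0), (15, 0, 0), (43, 0, 0), (110, 0, 0),
   (264, 0, 0), (587, 0, 0), (100, 1, 0), (242, 0, 0), (547, 0, 0), (1169, 0, 0), (1031, 0, 0),
   (758, 0, 0), (243, 0, 0), (548, 0, 0), (1171, 0, 0), (1036, 0, 0), (769, 0, 0), (263, 0, 0),
   (585, 0, 0), (1235, 0, 0), (1162, 0, 0), (1016, 0, 0), (730, 0, 0), (192, 0, 0), (442, 0, 0),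
   (958, 0, 0), (624, 0, 0), (13, 0, 0), (39, 0, 0), (2419, 1, 1), (2207, 0, 0), (1764, 0, 0),
   (2239, 0, 0), (1827, 0, 0), (2351, 0, 0), (2065, 0, 0), (1476, 0, 0), (1688, 0, 0), (2095, 0, 0),
   (1540, 0, 0), (1808, 0, 0), (2315, 0, 0), (1996, 0, 0), (1349, 0, 0), (1430, 0, 0), (1593, 0, 0),
   (1909, 0, 0), (2492, 0, 0), (2372, 0, 0)]

/-- part 15 of transDodT0 -/
def transDodT0_15 : List (ℕ × ℕ × ℕ) := [
   (2109, 0, 0), (1568, 0, 0), (1866, 0, 0), (2133, 2, 1), (1617, 0, 0), (1951, 0, 0), (2562, 0, 0),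
   (2536, 0, 0), (2475, 0, 0), (2333, 0, 0), (2028, 0, 0), (1406, 0, 0), (1544, 0, 0), (1817, 0, 0),
   (2332, 0, 0), (2027, 0, 0), (1404, 0, 0), (1539, 0, 0), (1806, 0, 0), (2312, 0, 0), (1990, 0, 0),
   (1340, 0, 0), (1413, 0, 0), (1559, 0, 0), (1845, 0, 0), (2383, 0, 0), (2532, 1, 9), (2465, 0, 0),
   (2311, 0, 0), (1988, 0, 0), (1337, 0, 0), (1405, 0, 0), (1543, 0, 0), (1816, 0, 0), (2331, 0, 0),
   (2024, 0, 0), (1397, 0, 0), (1526, 0, 0), (1783, 0, 0), (2269, 0, 0), (1894, 0, 0), (2467, 0, 0),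
   (2317, 0, 0), (2000, 0, 0), (1357, 0, 0), (1443, 0, 0), (1616, 0, 0), (1949, 0, 0), (2560, 0, 0),
   (2050, 2, 9), (1451, 0, 0), (1634, 0, 0), (1983, 0, 0), (1328, 0, 0), (1389, 0, 0), (1513, 0, 0),
   (1757, 0, 0), (2222, 0, 0), (1795, 0, 0), (2288, 0, 0), (1938, 0, 0), (2544, 0, 0), (2496, 0, 0),
   (2378, 0, 0), (2120, 0, 0), (1589, 0, 0), (1902, 0, 0), (2482, 0, 0), (2347, 0, 0), (2058, 0, 0),
   (1466, 0, 0), (1667, 0, 0), (1595, 2, 0), (1914, 0, 0), (2502, 0, 0), (2392, 0, 0), (2149, 0, 0),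
   (1645, 0, 0), (2007, 0, 0), (1368, 0, 0), (1470, 0, 0), (1677, 0, 0), (2071, 0, 0), (1488, 0, 0),
   (1709, 0, 0), (2132, 0, 0), (1611, 0, 0), (1941, 0, 0), (2548, 0, 0), (2504, 0, 0), (2396, 0, 0),
   (2157, 0, 0), (1660, 0, 0), (2041, 0, 0), (1431, 0, 0), (1339, 2, 1), (1411, 0, 0), (1555, 0, 0),
   (1839, 0, 0), (2371, 0, 0), (2107, 0, 0), (1562, 0, 0), (1852, 0, 0), (2397, 0, 0), (2159, 0, 0),
   (1665, 0, 0), (2047, 0, 0), (1446, 0, 0), (1621, 0, 0), (1956, 0, 0), (2570, 0, 0), (2558, 0, 0),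
   (2529, 0, 0), (2459, 0, 0), (2300, 0, 0), (1966, 0, 0), (1295, 0, 0), (1309, 0, 0), (1766, 2, 1),
   (2241, 0, 0), (1832, 0, 0), (2361, 0, 0), (2084, 0, 0), (1514, 0, 0), (1761, 0, 0), (2231, 0, 0),
   (1813, 0, 0), (2326, 0, 0), (2016, 0, 0), (1381, 0, 0), (1499, 0, 0), (1730, 0, 0), (2176, 0, 0),
   (1696, 0, 0), (2108, 0, 0), (1567, 0, 0), (1863, 0, 0), (2416, 0, 0), (2200, 0, 0), (1748, 0, 0),
   (2208, 0, 0), (2265, 2, 3), (1887, 0, 0), (2454, 0, 0), (2291, 0, 0), (1945, 0, 0), (2554, 0, 0),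
   (2517, 0, 0), (2427, 0, 0), (2226, 0, 0)]

/-- part 16 of transDodT0 -/
def transDodT0_16 : List (ℕ × ℕ × ℕ) := [
   (1803, 0, 0), (2306, 0, 0), (1978, 0, 0), (1318, 0, 0), (1363, 0, 0), (1456, 0, 0), (1646, 0, 0),
   (2009, 0, 0), (1370, 0, 0), (1474, 0, 0), (1685, 0, 0), (2088, 0, 0), (1525, 0, 0), (1781, 0, 0),
   (1794, 2, 10), (2286, 0, 0), (1932, 0, 0), (2533, 0, 0), (2468, 0, 0), (2318, 0, 0), (2002, 0, 0),
   (1360, 0, 0), (1448, 0, 0), (1624, 0, 0), (1962, 0, 0), (1291, 0, 0), (1299, 0, 0), (1317, 0, 0),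
   (1358, 0, 0), (1445, 0, 0), (1619, 0, 0), (1954, 0, 0), (2568, 0, 0), (2553, 0, 0), (2515, 0, 0),
   (2424, 0, 0), (2221, 0, 0), (362, 1, 5), (800, 0, 0), (319, 0, 0), (711, 0, 0), (158, 0, 0),
   (373, 0, 0), (822, 0, 0), (358, 0, 0), (791, 0, 0), (305, 0, 0), (680, 0, 0), (106, 0, 0),
   (255, 0, 0), (570, 0, 0), (1211, 0, 0), (1117, 0, 0), (925, 0, 0), (557, 0, 0), (1190, 0, 0),
   (1069, 0, 0), (831, 0, 0), (374, 0, 0), (824, 0, 0), (60, 1, 9), (151, 0, 0), (354, 0, 0),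
   (781, 0, 0), (289, 0, 0), (643, 0, 0), (42, 0, 0), (107, 0, 0), (257, 0, 0), (573, 0, 0),
   (1215, 0, 0), (1127, 0, 0), (951, 0, 0), (613, 0, 0), (1284, 0, 0), (1276, 0, 0), (1258, 0, 0),
   (1217, 0, 0), (1130, 0, 0), (956, 0, 0), (621, 0, 0), (7, 0, 0), (22, 0, 0), (2435, 1, 4),
   (2242, 0, 0), (1834, 0, 0), (2364, 0, 0), (2092, 0, 0), (1531, 0, 0), (1791, 0, 0), (2283, 0, 0),
   (1922, 0, 0), (2516, 0, 0), (2426, 0, 0), (2224, 0, 0), (1800, 0, 0), (2299, 0, 0), (1965, 0, 0),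
   (1294, 0, 0), (1306, 0, 0), (1332, 0, 0), (1395, 0, 0), (1523, 0, 0), (1777, 0, 0), (2259, 0, 0),
   (1874, 0, 0), (1989, 2, 4), (1338, 0, 0), (1408, 0, 0), (1550, 0, 0), (1831, 0, 0), (2359, 0, 0),
   (2080, 0, 0), (1505, 0, 0), (1741, 0, 0), (2196, 0, 0), (1742, 0, 0), (2198, 0, 0), (1745, 0, 0),
   (2203, 0, 0), (1755, 0, 0), (2219, 0, 0), (1789, 0, 0), (2278, 0, 0), (1913, 0, 0), (2501, 0, 0),
   (2389, 0, 0), (2144, 0, 0), (1637, 0, 0), (2229, 2, 75), (1811, 0, 0), (2321, 0, 0), (2006, 0, 0),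
   (1367, 0, 0), (1465, 0, 0), (1664, 0, 0), (2046, 0, 0), (1444, 0, 0), (1618, 0, 0), (1952, 0, 0),
   (2564, 0, 0), (2540, 0, 0), (2483, 0, 0), (2349, 0, 0), (2062, 0, 0), (1472, 0, 0), (1681, 0, 0),
   (2081, 0, 0), (1507, 0, 0), (1747, 0, 0)]

/-- part 17 of transDodT0 -/
def transDodT0_17 : List (ℕ × ℕ × ℕ) := [
   (2206, 0, 0), (1760, 0, 0), (1841, 2, 71), (2377, 0, 0), (2119, 0, 0), (1587, 0, 0), (1899, 0, 0),
   (2476, 0, 0), (2335, 0, 0), (2031, 0, 0), (1410, 0, 0), (1553, 0, 0), (1836, 0, 0), (2367, 0, 0),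
   (2097, 0, 0), (1542, 0, 0), (1814, 0, 0), (2328, 0, 0), (2019, 0, 0), (1386, 0, 0), (1508, 0, 0),
   (1749, 0, 0), (2210, 0, 0), (1769, 0, 0), (2245, 0, 0)]

/-- tree transDodT0 -/
def transDodT0 : List (ℕ × ℕ × ℕ) :=
  transDodT0_0 ++ transDodT0_1 ++ transDodT0_2 ++ transDodT0_3 ++ transDodT0_4 ++ transDodT0_5 ++ transDodT0_6 ++ transDodT0_7 ++ transDodT0_8 ++ transDodT0_9 ++ transDodT0_10 ++ transDodT0_11 ++ transDodT0_12 ++ transDodT0_13 ++ transDodT0_14 ++ transDodT0_15 ++ transDodT0_16 ++ transDodT0_17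

/-- the orbit classes -/
def transDodCls : List (ℕ × List (ℕ × ℕ × ℕ)) :=
  [(0, transDodT0)]

theorem transDod_ok : dodK.splitOK transDodL transDodGens transDodCls = true := by decide +kernel

theorem transDod_sizes : (transDodCls.map fun c =>
    (classList dodK.ix.n fun i => decide (dodK.invsIx transDodL i = dodK.invsIx transDodL c.1)).length) = [2576] := by
  decide +kernel

end CfsgLib.Spor
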