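import Cfsg.Agent.Lib.Spor.OrbitDuum

/-!
Certificate: orbits on indexed objects of kind dodK.
-/

set_option autoImplicit false
set_option maxRecDepth 100000

namespace CfsgLib.Spor

open Cfsg
open scoped Pointwise

/-- families fixed -/
def dod23L : List (List ℕ) := [[1], [28637]]

/-- generators -/
def dod23Gens : List ℕ := [70845838531305927709287022165434080,
  687175272784862918043231009248580192,
  237125116330092838752112623745415552,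
  957386171759232180737619331209662944,
  957539791274861167954214897348519424,
  649830322982456539890837153279058592]

/-- part 0 of dod23T0 -/
def dod23T0_0 : List (ℕ × ℕ × ℕ) := [
]

/-- tree dod23T0 -/
def dod23T0 : List (ℕ × ℕ × ℕ) :=
  dod23T0_0

/-- part 0 of dod23T1 -/
def dod23T1_0 : List (ℕ × ℕ × ℕ) := [
]

/-- tree dod23T1 -/
def dod23T1 : List (ℕ × ℕ × ℕ) :=
  dod23T1_0

/-- part 0 of dod23T2 -/
def dod23T2_0 : List (ℕ × ℕ × ℕ) := [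
   (1802, 0, 0), (317, 0, 0), (1319, 0, 0), (442, 0, 0), (1497, 0, 0), (130, 1, 0), (294, 0, 0),
   (396, 0, 0), (322, 0, 0), (170, 0, 0), (197, 0, 0), (958, 1, 0), (994, 0, 0), (998, 0, 0),
   (822, 0, 0), (779, 0, 0), (781, 0, 0), (33, 1, 0), (354, 0, 0), (493, 0, 0), (37, 0, 0),
   (194, 0, 0), (458, 0, 0), (483, 2, 0), (1323, 0, 0), (120, 0, 0), (1806, 0, 0), (20, 0, 0),
   (1624, 0, 0), (363, 2, 0), (343, 0, 0), (100, 0, 0), (202, 0, 0), (143, 0, 0), (65, 0, 0),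
   (2012, 1, 0), (616, 0, 0), (2458, 0, 0), (650, 0, 0), (1962, 0, 0), (1131, 0, 0), (60, 1, 0),
   (542, 0, 0), (46, 0, 0), (1454, 1, 0), (1290, 0, 0), (1625, 0, 0), (1667, 0, 0), (1320, 0, 0),
   (1448, 0, 0), (24, 2, 0), (462, 0, 0), (242, 0, 0), (4, 0, 0), (463, 0, 0), (403, 0, 0),
   (720, 3, 0), (1979, 1, 0), (2049, 0, 0), (1969, 0, 0), (67, 1, 0), (1395, 0, 0), (1300, 2, 0),
   (1715, 0, 0), (1327, 0, 0), (1302, 0, 0), (1539, 0, 0), (1296, 0, 0), (58, 1, 0), (1310, 0, 0),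
   (375, 0, 0), (1419, 0, 0), (10, 0, 0), (1561, 0, 0), (1971, 1, 0), (972, 0, 0), (2098, 0, 0),
   (622, 0, 0), (2163, 0, 0), (694, 0, 0), (713, 1, 0), (696, 0, 0), (986, 0, 0), (757, 0, 0),
   (700, 0, 0), (811, 0, 0), (667, 2, 0), (2050, 0, 0), (783, 0, 0), (1986, 0, 0), (688, 0, 0),
   (2309, 0, 0), (953, 2, 0), (2344, 0, 0), (647, 0, 0), (2140, 0, 0), (780, 0, 0), (1963, 0, 0),
   (867, 2, 0), (967, 0, 0), (665, 0, 0), (1042, 0, 0), (835, 0, 0), (633, 0, 0), (1650, 1, 0),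
   (79, 0, 0), (1636, 0, 0), (169, 0, 0), (1365, 0, 0), (125, 0, 0), (78, 2, 0), (1460, 0, 0),
   (138, 0, 0), (1366, 0, 0), (285, 0, 0), (1693, 0, 0), (1720, 4, 0), (22, 0, 0), (1646, 0, 0),
   (235, 0, 0), (1297, 0, 0), (132, 0, 0), (1403, 1, 0), (284, 0, 0), (1518, 0, 0), (51, 0, 0),
   (1456, 0, 0), (296, 0, 0), (220, 3, 0), (56, 0, 0), (299, 0, 0), (418, 0, 0), (88, 0, 0),
   (142, 0, 0), (41, 2, 0), (1382, 0, 0), (203, 0, 0), (1317, 0, 0), (62, 0, 0), (1722, 0, 0),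
   (627, 4, 1), (795, 0, 0), (1046, 0, 0), (656, 0, 0), (976, 0, 0), (910, 0, 0), (1537, 5, 3),
   (288, 0, 0), (1339, 0, 0), (352, 0, 0)]

/-- part 1 of dod23T2 -/
def dod23T2_1 : List (ℕ × ℕ × ℕ) := [
   (1504, 0, 0), (8, 0, 0), (660, 5, 3), (630, 0, 0), (1221, 0, 0), (151, 5, 2), (447, 0, 0),
   (155, 0, 0), (283, 0, 0), (485, 0, 0), (313, 0, 0), (552, 4, 0), (92, 0, 0), (12, 0, 0)]

/-- tree dod23T2 -/
def dod23T2 : List (ℕ × ℕ × ℕ) :=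
  dod23T2_0 ++ dod23T2_1

/-- part 0 of dod23T3 -/
def dod23T3_0 : List (ℕ × ℕ × ℕ) := [
   (1925, 0, 0), (613, 0, 0), (1444, 0, 0), (563, 0, 0), (1959, 0, 0), (2157, 1, 0), (2487, 0, 0),
   (2433, 0, 0), (2355, 0, 0), (2519, 0, 0), (2276, 0, 0), (1255, 1, 0), (1127, 0, 0), (1121, 0, 0),
   (1285, 0, 0), (950, 0, 0), (908, 0, 0), (2373, 1, 0), (2432, 0, 0), (2510, 0, 0), (2212, 0, 0),
   (2232, 0, 0), (2475, 0, 0), (1258, 2, 0), (2513, 0, 0), (853, 0, 0), (2534, 0, 0), (1193, 0, 0),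
   (2372, 0, 0), (1887, 1, 0), (266, 0, 0), (1908, 0, 0), (525, 0, 0), (1792, 0, 0), (589, 0, 0),
   (1780, 2, 0), (1529, 0, 0), (1919, 0, 0), (1599, 0, 0), (1665, 0, 0), (1948, 0, 0), (2279, 1, 0),
   (1172, 0, 0), (2291, 0, 0), (1057, 0, 0), (2524, 0, 0), (1119, 0, 0), (2553, 1, 0), (929, 0, 0),
   (2340, 0, 0), (1278, 0, 0), (2443, 0, 0), (855, 0, 0), (773, 2, 0), (2258, 0, 0), (1256, 0, 0),
   (2133, 0, 0), (1078, 0, 0), (2574, 0, 0), (2172, 1, 0), (2551, 0, 0), (2113, 0, 0), (2333, 0, 0),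
   (2571, 0, 0), (2112, 0, 0), (2292, 4, 0), (2090, 0, 0), (2262, 0, 0), (2424, 0, 0), (2128, 0, 0),
   (2420, 0, 0), (1533, 3, 0), (1740, 0, 0), (1942, 0, 0), (1708, 0, 0), (1608, 0, 0), (1910, 0, 0),
   (1862, 2, 0), (1879, 0, 0), (1589, 0, 0), (1818, 0, 0), (1875, 0, 0), (1764, 0, 0), (1275, 1, 0),
   (860, 0, 0), (1248, 0, 0), (1273, 0, 0), (1036, 0, 0), (1279, 0, 0), (2517, 1, 0), (1265, 0, 0),
   (2200, 0, 0), (1156, 0, 0), (2565, 0, 0), (1014, 0, 0), (604, 1, 0), (1603, 0, 0), (477, 0, 0),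
   (1953, 0, 0), (412, 0, 0), (1881, 0, 0), (435, 2, 0), (1795, 0, 0), (612, 0, 0), (1622, 0, 0),
   (231, 0, 0), (1928, 0, 0), (2023, 1, 0), (2483, 0, 0), (2563, 0, 0), (2508, 2, 0), (1180, 0, 0),
   (606, 1, 0), (596, 0, 0), (526, 0, 0), (1855, 1, 0), (2450, 3, 0), (925, 0, 0), (2496, 0, 0),
   (939, 0, 0), (2406, 0, 0), (1210, 0, 0), (1038, 1, 1), (2287, 0, 0), (1236, 0, 0), (2223, 0, 0),
   (1071, 0, 0), (2567, 0, 0), (2290, 5, 0), (882, 0, 0), (2497, 0, 0), (1115, 0, 0), (2437, 0, 0),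
   (1209, 0, 0), (1915, 1, 0), (1945, 0, 0), (1354, 0, 0), (2092, 3, 1), (1252, 0, 0), (2455, 0, 0),
   (769, 0, 0), (2555, 0, 0), (951, 0, 0), (2253, 1, 0), (2405, 0, 0), (2378, 0, 0), (2445, 0, 0),
   (2281, 0, 0), (2179, 0, 0), (1753, 1, 0)]

/-- part 1 of dod23T3 -/
def dod23T3_1 : List (ℕ × ℕ × ℕ) := [
   (1796, 0, 0), (1794, 0, 0), (1617, 0, 0), (1581, 0, 0), (1577, 0, 0), (2538, 1, 2), (2381, 0, 0),
   (2117, 0, 0), (2542, 0, 0), (2221, 0, 0), (2082, 0, 0), (2515, 3, 3), (2033, 0, 0), (2529, 0, 0)]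

/-- tree dod23T3 -/
def dod23T3 : List (ℕ × ℕ × ℕ) :=
  dod23T3_0 ++ dod23T3_1

/-- part 0 of dod23T4 -/
def dod23T4_0 : List (ℕ × ℕ × ℕ) := [
   (1827, 0, 0), (83, 0, 0), (1292, 0, 0), (461, 0, 0), (1412, 0, 0), (790, 1, 0), (634, 0, 0),
   (1040, 0, 0), (1004, 0, 0), (668, 0, 0), (866, 0, 0), (974, 1, 0), (1091, 0, 0), (655, 0, 0),
   (794, 0, 0), (871, 0, 0), (624, 0, 0), (36, 1, 0), (1362, 0, 0), (448, 0, 0), (1343, 0, 0),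
   (48, 0, 0), (1813, 0, 0), (310, 2, 0), (1668, 0, 0), (152, 0, 0), (1455, 0, 0), (123, 0, 0),
   (1628, 0, 0), (26, 1, 0), (133, 0, 0), (536, 0, 0), (28, 0, 0), (291, 0, 0), (576, 0, 0),
   (778, 1, 0), (1133, 0, 0), (652, 0, 0), (954, 0, 0), (1176, 0, 0), (651, 0, 0), (467, 1, 0),
   (81, 0, 0), (286, 0, 0), (509, 0, 0), (84, 0, 0), (126, 0, 0), (87, 2, 0), (1312, 0, 0),
   (210, 0, 0), (1374, 0, 0), (11, 0, 0), (1736, 0, 0), (1970, 1, 0), (798, 0, 0), (2055, 0, 0),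
   (621, 0, 0), (2320, 0, 0), (732, 0, 0), (892, 1, 0), (705, 0, 0), (636, 0, 0), (1067, 0, 0),
   (742, 0, 0), (639, 0, 0), (1645, 1, 0), (1406, 0, 0), (1293, 0, 0), (1468, 0, 0), (1364, 0, 0),
   (1294, 0, 0), (1328, 4, 0), (134, 0, 0), (1541, 0, 0), (3, 0, 0), (1647, 0, 0), (394, 0, 0),
   (1631, 2, 0), (150, 0, 0), (234, 1, 0), (289, 0, 0), (171, 0, 0), (356, 0, 0), (160, 0, 0),
   (297, 0, 0), (473, 2, 0), (106, 0, 0), (53, 0, 0), (997, 1, 0), (2006, 0, 0), (777, 0, 0),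
   (2146, 0, 0), (617, 0, 0), (2298, 0, 0), (42, 1, 0), (214, 0, 0), (206, 0, 0), (16, 0, 0),
   (372, 0, 0), (407, 0, 0), (1627, 2, 0), (1318, 0, 0), (1626, 0, 0), (1492, 0, 0), (1289, 0, 0),
   (1449, 0, 0), (89, 1, 0), (298, 0, 0), (261, 0, 0), (59, 0, 0), (140, 0, 0), (377, 0, 0),
   (1965, 1, 0), (776, 0, 0), (2305, 0, 0), (648, 0, 0), (2296, 0, 0), (821, 0, 0), (211, 1, 0),
   (367, 0, 0), (38, 0, 0), (376, 0, 0), (249, 0, 0), (14, 0, 0), (141, 2, 0), (1388, 0, 0),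
   (52, 0, 0), (1655, 0, 0), (99, 0, 0), (1368, 0, 0), (962, 1, 0), (2029, 0, 0), (690, 0, 0),
   (2148, 0, 0), (632, 0, 0), (2051, 0, 0), (679, 1, 0), (707, 0, 0), (878, 0, 0), (642, 0, 0),
   (709, 0, 0), (1053, 0, 0), (628, 1, 0), (2227, 0, 0), (626, 0, 0), (1978, 0, 0), (1041, 0, 0),
   (2019, 0, 0), (1961, 3, 0), (2300, 0, 0)]

/-- part 1 of dod23T4 -/
def dod23T4_1 : List (ℕ × ℕ × ℕ) := [
   (2002, 0, 0), (1960, 0, 0), (2139, 0, 0), (1966, 0, 0), (74, 1, 0), (69, 0, 0), (387, 0, 0),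
   (108, 0, 0), (68, 0, 0), (227, 0, 0), (1337, 2, 0), (1361, 0, 0), (1459, 0, 0), (1307, 0, 0),
   (1360, 0, 0), (1635, 0, 0), (54, 1, 0), (1478, 0, 0), (63, 0, 0), (1370, 0, 0), (302, 0, 0),
   (1427, 0, 0), (1305, 2, 0), (353, 0, 0), (1680, 0, 0), (30, 0, 0), (1540, 0, 0), (128, 0, 0),
   (50, 1, 0), (1633, 0, 0), (331, 0, 0), (1402, 0, 0), (124, 0, 0), (1473, 0, 0), (1298, 1, 0),
   (290, 0, 0), (1760, 0, 0), (23, 0, 0), (1467, 0, 0), (196, 0, 0), (691, 1, 0), (963, 0, 0),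
   (1018, 0, 0), (731, 0, 0), (784, 0, 0), (804, 0, 0), (843, 2, 0), (695, 0, 0), (785, 0, 0),
   (980, 0, 0), (733, 0, 0), (961, 0, 0), (292, 1, 0), (1585, 0, 0), (5, 0, 0), (1469, 0, 0),
   (357, 0, 0), (1324, 0, 0), (162, 1, 0), (1303, 0, 0), (193, 0, 0), (1642, 0, 0), (32, 0, 0),
   (1716, 0, 0), (1350, 3, 0), (61, 0, 0), (1551, 0, 0), (15, 0, 0), (1379, 0, 0), (361, 0, 0),
   (1974, 5, 1), (629, 0, 0), (2389, 0, 0), (654, 0, 0), (1980, 0, 0), (865, 0, 0), (619, 2, 2),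
   (2137, 0, 0), (956, 0, 0), (2003, 0, 0), (952, 0, 0), (2183, 0, 0), (175, 5, 0), (49, 0, 0),
   (449, 0, 0), (336, 0, 0), (80, 0, 0), (452, 0, 0), (280, 1, 0), (1851, 0, 0), (19, 0, 0),
   (1450, 0, 0), (446, 0, 0), (1321, 0, 0), (167, 1, 0), (9, 0, 0), (530, 0, 0), (328, 0, 0),
   (31, 0, 0), (528, 0, 0), (1381, 5, 0), (1369, 0, 0), (1308, 0, 0), (6, 2, 0), (1890, 0, 0),
   (27, 0, 0), (1301, 0, 0), (532, 0, 0), (1329, 0, 0), (21, 5, 0), (440, 0, 0), (488, 0, 0),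
   (121, 1, 0), (444, 0, 0), (314, 0, 0), (311, 0, 0), (484, 0, 0), (157, 0, 0), (398, 3, 5),
   (158, 0, 0), (139, 0, 0), (198, 0, 0), (287, 0, 0), (332, 0, 0), (1491, 1, 0), (122, 0, 0),
   (1451, 0, 0), (282, 0, 0), (1669, 0, 0), (312, 0, 0), (669, 3, 0), (689, 0, 0), (1143, 0, 0),
   (2060, 2, 1), (638, 0, 0), (2072, 0, 0), (699, 0, 0), (1993, 0, 0), (708, 0, 0), (1322, 4, 1),
   (1288, 0, 0), (1800, 0, 0), (1674, 3, 1), (18, 0, 0), (1801, 0, 0), (153, 0, 0), (1291, 0, 0),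
   (441, 0, 0), (200, 2, 1), (308, 0, 0)]

/-- part 2 of dod23T4 -/
def dod23T4_2 : List (ℕ × ℕ × ℕ) := [
   (97, 0, 0), (362, 0, 0), (180, 0, 0), (64, 0, 0), (646, 4, 5), (1132, 0, 0), (828, 0, 0),
   (618, 0, 0), (1128, 0, 0), (1002, 0, 0), (135, 1, 3), (358, 0, 0), (319, 0, 0), (330, 0, 0),
   (236, 0, 0), (129, 0, 0), (1338, 3, 12), (192, 0, 0), (1464, 0, 0), (7, 0, 0), (1712, 0, 0),
   (321, 0, 0), (281, 2, 0), (1493, 0, 0), (737, 5, 21), (620, 0, 0), (1152, 0, 0), (957, 4, 175),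
   (819, 0, 0)]

/-- tree dod23T4 -/
def dod23T4 : List (ℕ × ℕ × ℕ) :=
  dod23T4_0 ++ dod23T4_1 ++ dod23T4_2

/-- part 0 of dod23T5 -/
def dod23T5_0 : List (ℕ × ℕ × ℕ) := [
   (1921, 0, 0), (595, 0, 0), (1710, 0, 0), (601, 0, 0), (1946, 0, 0), (1148, 1, 0), (2521, 0, 0),
   (1097, 0, 0), (2512, 0, 0), (1205, 0, 0), (2273, 0, 0), (1214, 1, 0), (1116, 0, 0), (1268, 0, 0),
   (1215, 0, 0), (940, 0, 0), (1238, 0, 0), (1024, 1, 0), (2560, 0, 0), (1196, 0, 0), (2214, 0, 0),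
   (1225, 0, 0), (2514, 0, 0), (1263, 2, 0), (2365, 0, 0), (1201, 0, 0), (2564, 0, 0), (839, 0, 0),
   (2488, 0, 0), (1286, 2, 0), (1126, 0, 0), (948, 0, 0), (1257, 0, 0), (949, 0, 0), (1083, 0, 0),
   (2375, 1, 0), (2267, 0, 0), (2478, 0, 0), (2213, 0, 0), (2395, 0, 0), (2511, 0, 0), (270, 1, 0),
   (1927, 0, 0), (279, 0, 0), (1754, 0, 0), (610, 0, 0), (1799, 0, 0), (1844, 2, 0), (1791, 0, 0),
   (1771, 0, 0), (1884, 0, 0), (1612, 0, 0), (1557, 0, 0), (1108, 1, 0), (2379, 0, 0), (1277, 0, 0),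
   (2285, 0, 0), (815, 0, 0), (2552, 0, 0), (2043, 1, 0), (1246, 0, 0), (2569, 0, 0), (685, 0, 0),
   (2548, 0, 0), (1274, 0, 0), (895, 1, 0), (2545, 0, 0), (1035, 0, 0), (2447, 0, 0), (1270, 0, 0),
   (2222, 0, 0), (859, 2, 0), (2413, 0, 0), (1272, 0, 0), (2382, 0, 0), (933, 0, 0), (2543, 0, 0),
   (990, 1, 0), (2570, 0, 0), (1106, 0, 0), (2218, 0, 0), (1251, 0, 0), (2283, 0, 0), (2277, 2, 0),
   (2314, 0, 0), (2516, 0, 0), (2435, 0, 0), (2198, 0, 0), (2486, 0, 0), (1211, 2, 0), (1281, 0, 0),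
   (930, 0, 0), (1169, 0, 0), (1282, 0, 0), (1107, 0, 0), (2544, 2, 0), (2047, 0, 0), (2408, 0, 0),
   (2566, 0, 0), (2045, 0, 0), (2247, 0, 0), (2453, 1, 0), (1124, 0, 0), (2293, 0, 0), (906, 0, 0),
   (2263, 0, 0), (1084, 0, 0), (2126, 1, 0), (2239, 0, 0), (2495, 0, 0), (2123, 0, 0), (2400, 0, 0),
   (2526, 0, 0), (1573, 1, 0), (1929, 0, 0), (1443, 0, 0), (1747, 0, 0), (1957, 0, 0), (1447, 0, 0),
   (1484, 2, 0), (1920, 0, 0), (1781, 0, 0), (1704, 0, 0), (1951, 0, 0), (1601, 0, 0), (1237, 1, 0),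
   (2383, 0, 0), (1111, 0, 0), (2568, 0, 0), (863, 0, 0), (2254, 0, 0), (2294, 2, 0), (1082, 0, 0),
   (2415, 1, 0), (2278, 0, 0), (2341, 0, 0), (2286, 0, 0), (2404, 0, 0), (2219, 0, 0), (1618, 1, 0),
   (1756, 0, 0), (1838, 2, 0), (1955, 0, 0), (1423, 0, 0), (2441, 3, 0), (1034, 0, 0), (2572, 0, 0),
   (928, 0, 0), (2181, 0, 0), (1247, 0, 0)]

/-- part 1 of dod23T5 -/
def dod23T5_1 : List (ℕ × ℕ × ℕ) := [
   (2127, 1, 0), (1232, 0, 0), (2527, 0, 0), (762, 0, 0), (2539, 0, 0), (1213, 0, 0), (1571, 1, 0),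
   (1907, 0, 0), (1709, 0, 0), (1785, 0, 0), (1941, 0, 0), (1535, 0, 0), (1623, 4, 0), (392, 0, 0),
   (1956, 0, 0), (438, 0, 0), (1619, 0, 0), (572, 0, 0), (275, 3, 0), (573, 0, 0), (615, 0, 0),
   (436, 0, 0), (609, 0, 0), (614, 0, 0), (2467, 1, 0), (2507, 0, 0), (2348, 0, 0), (2501, 0, 0),
   (2506, 0, 0), (2188, 0, 0), (1207, 5, 0), (2434, 0, 0), (1187, 0, 0), (2523, 0, 0), (920, 0, 0),
   (2476, 0, 0), (348, 1, 0), (1949, 0, 0), (597, 0, 0), (1534, 0, 0), (556, 0, 0), (1947, 0, 0),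
   (1936, 2, 0), (1683, 0, 0), (1870, 0, 0), (1939, 0, 0), (1508, 0, 0), (1833, 0, 0), (1777, 1, 0),
   (520, 0, 0), (1954, 0, 0), (255, 0, 0), (1843, 0, 0), (605, 0, 0), (1876, 4, 1), (582, 0, 0),
   (1867, 0, 0), (515, 0, 0), (1937, 0, 0), (503, 0, 0), (1194, 1, 1), (1206, 0, 0), (1267, 0, 0),
   (1287, 2, 1), (775, 0, 0), (1253, 0, 0), (2369, 1, 0), (2559, 0, 0), (2203, 0, 0), (2168, 0, 0),
   (2533, 0, 0), (2361, 0, 0), (277, 1, 0), (1578, 0, 0), (569, 0, 0), (1798, 0, 0), (429, 0, 0),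
   (1958, 0, 0), (2469, 1, 0), (2522, 0, 0), (2102, 0, 0), (2244, 2, 0), (1173, 0, 0), (2451, 0, 0),
   (1102, 0, 0), (2525, 0, 0), (942, 0, 0), (907, 4, 0), (2423, 0, 0), (1120, 0, 0), (2452, 0, 0),
   (947, 0, 0), (2265, 0, 0), (2339, 1, 0), (2446, 0, 0), (2440, 0, 0), (2217, 0, 0), (2256, 0, 0),
   (2245, 0, 0), (774, 1, 0), (2422, 0, 0), (1284, 0, 0), (2134, 0, 0), (901, 0, 0), (2557, 0, 0),
   (1999, 1, 0), (2549, 0, 0), (2442, 0, 0), (2039, 0, 0), (2547, 0, 0), (2284, 0, 0), (2066, 3, 0),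
   (2491, 0, 0), (2449, 0, 0), (2108, 0, 0), (2494, 0, 0), (2289, 0, 0), (2243, 3, 0), (2177, 0, 0),
   (2417, 0, 0), (2436, 0, 0), (2377, 0, 0), (2288, 0, 0), (2556, 1, 0), (1125, 0, 0), (2129, 0, 0),
   (1254, 0, 0), (2295, 0, 0), (724, 0, 0), (2261, 2, 0), (2264, 0, 0), (2091, 0, 0), (2418, 0, 0),
   (2454, 0, 0), (2131, 0, 0), (2554, 1, 0), (2135, 0, 0), (2087, 0, 0), (1868, 3, 0), (1697, 0, 0),
   (1933, 0, 0), (1866, 0, 0), (1522, 0, 0), (1896, 0, 0), (1943, 2, 0), (524, 0, 0), (1613, 0, 0),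
   (546, 0, 0), (1885, 0, 0), (427, 0, 0)]

/-- part 2 of dod23T5 -/
def dod23T5_2 : List (ℕ × ℕ × ℕ) := [
   (2492, 4, 6), (1283, 0, 0), (2114, 0, 0), (1163, 0, 0), (2573, 0, 0), (748, 0, 0), (2199, 3, 15),
   (2326, 0, 0), (2561, 0, 0), (2364, 0, 0), (2208, 0, 0), (2537, 0, 0), (1399, 4, 1), (1924, 0, 0),
   (1797, 0, 0), (1442, 0, 0), (1923, 0, 0), (1621, 0, 0), (2425, 5, 4), (944, 0, 0), (1842, 4, 7),
   (1614, 0, 0), (1732, 0, 0), (1880, 0, 0), (1790, 0, 0), (1595, 0, 0), (1906, 2, 3), (1886, 0, 0),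
   (1432, 0, 0)]

/-- tree dod23T5 -/
def dod23T5 : List (ℕ × ℕ × ℕ) :=
  dod23T5_0 ++ dod23T5_1 ++ dod23T5_2

/-- part 0 of dod23T6 -/
def dod23T6_0 : List (ℕ × ℕ × ℕ) := [
   (1916, 0, 0), (414, 0, 0), (1348, 0, 0), (553, 0, 0), (1600, 0, 0), (792, 1, 0), (2325, 0, 0),
   (1089, 0, 0), (2357, 0, 0), (845, 0, 0), (2230, 0, 0), (989, 1, 0), (1110, 0, 0), (1104, 0, 0),
   (856, 0, 0), (894, 0, 0), (887, 0, 0), (670, 1, 0), (2386, 0, 0), (1188, 0, 0), (2035, 0, 0),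
   (868, 0, 0), (2477, 0, 0), (1177, 2, 0), (2352, 0, 0), (818, 0, 0), (2464, 0, 0), (826, 0, 0),
   (2302, 0, 0), (350, 1, 0), (259, 0, 0), (549, 0, 0), (185, 0, 0), (382, 0, 0), (594, 0, 0),
   (1767, 2, 0), (1326, 0, 0), (1822, 0, 0), (1592, 0, 0), (1295, 0, 0), (1825, 0, 0), (1418, 1, 0),
   (472, 0, 0), (1611, 0, 0), (57, 0, 0), (1837, 0, 0), (425, 0, 0), (1830, 2, 0), (238, 0, 0),
   (1639, 0, 0), (507, 0, 0), (1766, 0, 0), (159, 0, 0), (574, 1, 0), (1687, 0, 0), (168, 0, 0),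
   (1900, 0, 0), (165, 0, 0), (1649, 0, 0), (568, 2, 0), (437, 0, 0), (112, 0, 0), (565, 0, 0),
   (276, 0, 0), (72, 0, 0), (2349, 1, 0), (2005, 0, 0), (2459, 0, 0), (2189, 0, 0), (1964, 0, 0),
   (2461, 0, 0), (1088, 2, 0), (1191, 0, 0), (851, 0, 0), (875, 0, 0), (1147, 0, 0), (1023, 0, 0),
   (1525, 1, 0), (195, 0, 0), (1821, 0, 0), (338, 0, 0), (1758, 0, 0), (494, 0, 0), (529, 1, 0),
   (1865, 0, 0), (34, 0, 0), (1894, 0, 0), (500, 0, 0), (1347, 0, 0), (232, 2, 0), (391, 0, 0),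
   (428, 0, 0), (433, 0, 0), (274, 0, 0), (229, 0, 0), (2303, 1, 0), (2342, 0, 0), (2345, 0, 0),
   (2185, 0, 0), (2141, 0, 0), (2144, 0, 0), (115, 1, 0), (385, 0, 0), (608, 0, 0), (119, 0, 0),
   (224, 0, 0), (571, 0, 0), (1871, 2, 0), (1407, 0, 0), (1457, 0, 0), (1834, 0, 0), (1410, 0, 0),
   (1632, 0, 0), (404, 1, 0), (1527, 0, 0), (221, 0, 0), (1556, 0, 0), (306, 0, 0), (1784, 0, 0),
   (2194, 1, 0), (799, 0, 0), (2233, 0, 0), (970, 0, 0), (2368, 0, 0), (1086, 0, 0), (1242, 1, 0),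
   (927, 0, 0), (645, 0, 0), (1245, 0, 0), (1105, 0, 0), (676, 0, 0), (725, 2, 0), (2086, 0, 0),
   (1074, 0, 0), (2130, 0, 0), (721, 0, 0), (2260, 0, 0), (1991, 1, 0), (2409, 0, 0), (2109, 0, 0),
   (1988, 0, 0), (2248, 0, 0), (2067, 0, 0), (2136, 2, 0), (2465, 0, 0), (2008, 0, 0), (2297, 0, 0),
   (2498, 0, 0), (2013, 0, 0), (788, 2, 0)]

/-- part 1 of dod23T6 -/
def dod23T6_1 : List (ℕ × ℕ × ℕ) := [
   (1161, 0, 0), (1096, 0, 0), (1009, 0, 0), (1204, 0, 0), (917, 0, 0), (2202, 2, 0), (631, 0, 0),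
   (2532, 0, 0), (1011, 0, 0), (2027, 0, 0), (1222, 0, 0), (1064, 1, 0), (1269, 0, 0), (682, 0, 0),
   (889, 0, 0), (1239, 0, 0), (684, 0, 0), (1519, 1, 0), (1367, 0, 0), (1815, 0, 0), (1695, 0, 0),
   (1404, 0, 0), (1812, 0, 0), (364, 1, 0), (1883, 0, 0), (101, 0, 0), (1548, 0, 0), (480, 0, 0),
   (1431, 0, 0), (1570, 2, 0), (365, 0, 0), (1703, 0, 0), (419, 0, 0), (1597, 0, 0), (144, 0, 0),
   (1718, 1, 0), (1678, 0, 0), (1694, 0, 0), (1584, 0, 0), (1461, 0, 0), (1475, 0, 0), (1422, 1, 0),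
   (300, 0, 0), (1950, 0, 0), (93, 0, 0), (1482, 0, 0), (557, 0, 0), (2053, 1, 0), (1142, 0, 0),
   (2374, 0, 0), (730, 0, 0), (2473, 0, 0), (848, 0, 0), (873, 3, 0), (2155, 0, 0), (979, 0, 0),
   (2426, 0, 0), (1010, 0, 0), (2205, 0, 0), (1386, 4, 0), (1726, 0, 0), (1705, 0, 0), (1429, 0, 0),
   (1546, 0, 0), (1485, 0, 0), (1376, 1, 0), (1654, 0, 0), (1782, 0, 0), (1420, 0, 0), (1480, 0, 0),
   (1568, 0, 0), (2065, 1, 0), (982, 0, 0), (2448, 0, 0), (744, 0, 0), (2174, 0, 0), (896, 0, 0),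
   (2080, 1, 0), (1055, 0, 0), (2376, 0, 0), (758, 0, 0), (2242, 0, 0), (813, 0, 0), (471, 5, 0),
   (607, 0, 0), (91, 0, 0), (1183, 1, 0), (2011, 0, 0), (1130, 0, 0), (2505, 0, 0), (649, 0, 0),
   (2457, 0, 0), (346, 1, 0), (598, 0, 0), (252, 0, 0), (146, 0, 0), (555, 0, 0), (413, 0, 0),
   (823, 1, 0), (2143, 0, 0), (1135, 0, 0), (2347, 0, 0), (995, 0, 0), (2504, 0, 0), (1012, 2, 0),
   (1022, 0, 0), (1260, 0, 0), (841, 0, 0), (801, 0, 0), (1224, 0, 0), (673, 1, 0), (1220, 0, 0),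
   (1195, 0, 0), (137, 1, 0), (1895, 0, 0), (326, 0, 0), (1692, 0, 0), (578, 0, 0), (1512, 0, 0),
   (454, 1, 0), (1696, 0, 0), (397, 0, 0), (1864, 0, 0), (174, 0, 0), (1545, 0, 0), (1594, 2, 0),
   (303, 0, 0), (1606, 0, 0), (369, 0, 0), (1530, 0, 0), (383, 0, 0), (2392, 1, 0), (831, 0, 0),
   (2330, 0, 0), (914, 0, 0), (2317, 0, 0), (842, 0, 0), (765, 2, 0), (876, 0, 0), (1170, 0, 0),
   (761, 0, 0), (1051, 0, 0), (1212, 0, 0), (1466, 1, 0), (1897, 0, 0), (1331, 0, 0), (1644, 0, 0),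
   (1934, 0, 0), (1335, 0, 0), (543, 1, 0)]

/-- part 2 of dod23T6 -/
def dod23T6_2 : List (ℕ × ℕ × ℕ) := [
   (1359, 0, 0), (374, 0, 0), (1940, 0, 0), (47, 0, 0), (1560, 0, 0), (2360, 1, 0), (1020, 0, 0),
   (2271, 0, 0), (789, 0, 0), (2167, 0, 0), (1043, 0, 0), (2530, 2, 0), (837, 0, 0), (1985, 0, 0),
   (1217, 0, 0), (2363, 0, 0), (666, 0, 0), (728, 2, 0), (900, 0, 0), (1081, 0, 0), (770, 0, 0),
   (1080, 0, 0), (946, 0, 0), (2160, 1, 0), (2396, 0, 0), (2017, 0, 0), (2322, 0, 0), (2268, 0, 0),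
   (1976, 0, 0), (393, 1, 0), (1441, 0, 0), (384, 0, 0), (1620, 0, 0), (73, 0, 0), (1572, 0, 0),
   (1426, 2, 0), (1723, 0, 0), (1531, 0, 0), (1383, 0, 0), (1549, 0, 0), (1660, 0, 0), (1373, 1, 0),
   (1476, 0, 0), (1743, 0, 0), (1415, 0, 0), (1657, 0, 0), (1604, 0, 0), (2238, 1, 0), (987, 0, 0),
   (2122, 0, 0), (1052, 0, 0), (2216, 0, 0), (714, 0, 0), (2414, 1, 0), (740, 0, 0), (2335, 0, 0),
   (934, 0, 0), (2070, 0, 0), (807, 0, 0), (443, 3, 0), (1856, 0, 0), (316, 0, 0), (1848, 0, 0),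
   (490, 0, 0), (1496, 0, 0), (502, 1, 0), (334, 0, 0), (580, 0, 0), (499, 0, 0), (173, 0, 0),
   (534, 0, 0), (1000, 1, 0), (1175, 0, 0), (1182, 0, 0), (825, 0, 0), (1138, 0, 0), (1185, 0, 0),
   (1266, 2, 0), (663, 0, 0), (1150, 0, 0), (1123, 2, 0), (767, 0, 0), (904, 0, 0), (905, 0, 0),
   (723, 0, 0), (1076, 0, 0), (2028, 1, 0), (2224, 0, 0), (2153, 0, 0), (1982, 0, 0), (2387, 0, 0),
   (2358, 0, 0), (222, 1, 0), (1579, 0, 0), (76, 0, 0), (1746, 0, 0), (430, 0, 0), (1438, 0, 0),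
   (2470, 1, 0), (2036, 0, 0), (2048, 0, 0), (2064, 2, 0), (1164, 0, 0), (2125, 0, 0), (697, 0, 0),
   (2493, 0, 0), (759, 0, 0), (2255, 1, 0), (703, 0, 0), (2338, 0, 0), (1112, 0, 0), (2107, 0, 0),
   (812, 0, 0), (1737, 1, 0), (1772, 0, 0), (1349, 0, 0), (1562, 0, 0), (1558, 0, 0), (1313, 0, 0),
   (1421, 1, 0), (1311, 0, 0), (1917, 0, 0), (1488, 3, 0), (216, 0, 0), (1731, 0, 0), (340, 0, 0),
   (1788, 0, 0), (244, 0, 0), (1659, 2, 1), (421, 0, 0), (1775, 0, 0), (182, 0, 0), (1567, 0, 0),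
   (205, 0, 0), (739, 1, 0), (2308, 0, 0), (1198, 0, 0), (2105, 0, 0), (782, 0, 0), (2485, 0, 0),
   (1316, 1, 0), (550, 0, 0), (1778, 0, 0), (40, 0, 0), (1913, 0, 0), (256, 0, 0), (869, 1, 0),
   (2313, 0, 0), (1016, 0, 0), (2430, 0, 0)]

/-- part 3 of dod23T6 -/
def dod23T6_3 : List (ℕ × ℕ × ℕ) := [
   (836, 0, 0), (2170, 0, 0), (858, 2, 0), (1069, 0, 0), (923, 0, 0), (993, 0, 0), (932, 0, 0),
   (1059, 0, 0), (977, 1, 0), (2266, 0, 0), (968, 0, 0), (2207, 0, 0), (1047, 0, 0), (2197, 0, 0),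
   (178, 1, 0), (1742, 0, 0), (247, 0, 0), (1663, 0, 0), (263, 0, 0), (1729, 0, 0), (2520, 4, 0),
   (736, 0, 0), (2152, 0, 0), (1159, 0, 0), (2101, 0, 0), (960, 0, 0), (344, 4, 0), (1610, 0, 0),
   (208, 0, 0), (1483, 0, 0), (379, 0, 0), (1770, 0, 0), (1145, 4, 1), (847, 0, 0), (1049, 0, 0),
   (1186, 0, 0), (1028, 0, 0), (913, 0, 0), (1200, 1, 0), (1094, 0, 0), (834, 0, 0), (1158, 0, 0),
   (919, 0, 0), (966, 0, 0), (335, 1, 0), (1583, 0, 0), (459, 0, 0), (1521, 0, 0), (355, 0, 0),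
   (1860, 0, 0), (399, 2, 0), (1682, 0, 0), (504, 0, 0), (1591, 0, 0), (131, 0, 0), (1832, 0, 0),
   (1334, 1, 0), (464, 0, 0), (1938, 0, 0), (25, 0, 0), (1824, 0, 0), (583, 0, 0), (1853, 2, 0),
   (156, 0, 0), (1809, 0, 0), (487, 0, 0), (1672, 0, 0), (486, 0, 0), (410, 2, 0), (184, 0, 0),
   (560, 0, 0), (254, 0, 0), (305, 0, 0), (600, 0, 0), (2186, 1, 0), (1139, 0, 0), (2187, 0, 0),
   (959, 0, 0), (2500, 0, 0), (999, 0, 0), (566, 4, 0), (1446, 0, 0), (66, 0, 0), (1922, 0, 0),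
   (113, 0, 0), (1394, 0, 0), (1391, 2, 0), (1748, 0, 0), (1439, 0, 0), (1396, 0, 0), (1574, 0, 0),
   (1397, 0, 0), (2058, 1, 1), (2336, 0, 0), (2120, 0, 0), (2062, 0, 0), (2175, 0, 0), (2079, 0, 0),
   (2093, 1, 0), (718, 0, 0), (2421, 0, 0), (771, 0, 0), (2084, 0, 0), (898, 0, 0), (2074, 1, 0),
   (2398, 0, 0), (2040, 0, 0), (2078, 0, 0), (2236, 0, 0), (2000, 0, 0), (796, 2, 0), (2536, 0, 0),
   (657, 0, 0), (2324, 0, 0), (1261, 0, 0), (2021, 0, 0), (2094, 3, 0), (2310, 0, 0), (2209, 0, 0),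
   (2054, 0, 0), (2149, 0, 0), (2327, 0, 0), (1401, 1, 0), (225, 0, 0), (1755, 0, 0), (109, 0, 0),
   (1751, 0, 0), (271, 0, 0), (2226, 1, 0), (2311, 0, 0), (2031, 0, 0), (2384, 0, 0), (2195, 0, 0),
   (1987, 0, 0), (810, 2, 0), (1250, 0, 0), (747, 0, 0), (985, 0, 0), (1276, 0, 0), (752, 0, 0),
   (1490, 5, 0), (1807, 0, 0), (1500, 0, 0), (1630, 0, 0), (1849, 0, 0), (1673, 0, 0), (457, 2, 0),
   (514, 0, 0), (402, 0, 0), (492, 0, 0)]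

/-- part 4 of dod23T6 -/
def dod23T6_4 : List (ℕ × ℕ × ℕ) := [
   (512, 0, 0), (241, 0, 0), (523, 2, 1), (103, 0, 0), (541, 0, 0), (1453, 1, 2), (1803, 0, 0),
   (1676, 0, 0), (1666, 0, 0), (1846, 0, 0), (1498, 0, 0), (545, 1, 0), (347, 0, 0), (417, 0, 0),
   (591, 0, 0), (190, 0, 0), (219, 0, 0), (187, 2, 1), (1385, 0, 0), (538, 0, 0), (1711, 0, 0),
   (96, 0, 0), (1903, 0, 0), (2558, 1, 1), (661, 0, 0), (2166, 0, 0), (1223, 0, 0), (2024, 0, 0),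
   (973, 0, 0), (516, 3, 0), (1409, 0, 0), (451, 0, 0), (1877, 0, 0), (85, 0, 0), (1811, 0, 0),
   (318, 1, 0), (1874, 0, 0), (243, 0, 0), (1462, 0, 0), (465, 0, 0), (1769, 0, 0), (1517, 4, 2),
   (533, 0, 0), (1507, 0, 0), (295, 0, 0), (1932, 0, 0), (323, 0, 0), (479, 4, 2), (269, 0, 0),
   (371, 0, 0), (519, 0, 0), (424, 0, 0), (246, 0, 0), (756, 4, 0), (1229, 0, 0), (862, 0, 0),
   (712, 0, 0), (1231, 0, 0), (1039, 0, 0), (1472, 1, 0), (1542, 0, 0), (1640, 0, 0), (1689, 0, 0),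
   (1759, 0, 0), (1505, 0, 0), (2044, 3, 1), (706, 0, 0), (2540, 0, 0), (686, 0, 0), (2077, 0, 0),
   (1233, 0, 0), (1006, 4, 0), (2366, 0, 0), (911, 0, 0), (2159, 0, 0), (802, 0, 0), (2394, 0, 0),
   (937, 2, 1), (884, 0, 0), (814, 0, 0), (1072, 0, 0), (1101, 0, 0), (1031, 0, 0), (2546, 2, 2),
   (749, 0, 0), (1990, 0, 0), (1243, 0, 0), (2115, 0, 0), (640, 0, 0), (1140, 5, 0), (2215, 0, 0),
   (693, 0, 0), (2468, 0, 0), (1025, 0, 0), (2097, 0, 0), (1117, 1, 3), (746, 0, 0), (1167, 0, 0),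
   (941, 0, 0), (702, 0, 0), (1162, 0, 0), (1340, 1, 0), (1892, 0, 0), (1509, 0, 0), (1304, 0, 0),
   (1888, 0, 0), (1684, 0, 0), (1356, 3, 4), (213, 0, 0), (1911, 0, 0), (44, 0, 0), (1735, 0, 0),
   (592, 0, 0), (623, 1, 3), (2481, 0, 0), (1098, 0, 0), (2016, 0, 0), (1151, 0, 0), (2274, 0, 0),
   (518, 1, 2), (1434, 0, 0), (204, 0, 0), (1841, 0, 0), (104, 0, 0), (1725, 0, 0), (325, 3, 3),
   (506, 0, 0), (586, 0, 0), (164, 0, 0), (469, 0, 0), (581, 0, 0), (2282, 3, 7), (644, 0, 0),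
   (2246, 0, 0), (1060, 0, 0), (2038, 0, 0), (1062, 0, 0), (2412, 1, 0), (922, 0, 0), (1996, 0, 0),
   (890, 0, 0), (2403, 0, 0), (677, 0, 0), (2119, 2, 2), (877, 0, 0), (2180, 0, 0), (716, 0, 0),
   (2399, 0, 0), (1032, 0, 0), (674, 1, 1)]

/-- part 5 of dod23T6 -/
def dod23T6_5 : List (ℕ × ℕ × ℕ) := [
   (2251, 0, 0), (885, 0, 0), (1998, 0, 0), (1065, 0, 0), (2439, 0, 0), (2427, 4, 0), (2014, 0, 0),
   (2164, 0, 0), (2234, 0, 0), (1973, 0, 0), (2318, 0, 0), (1637, 4, 0), (1514, 0, 0), (1721, 0, 0),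
   (1502, 0, 0), (1651, 0, 0), (1587, 0, 0), (1372, 4, 4), (475, 0, 0), (1789, 0, 0), (86, 0, 0),
   (1840, 0, 0), (268, 0, 0), (1357, 1, 16), (1378, 0, 0), (1904, 0, 0), (1538, 3, 9), (1820, 0, 0),
   (1341, 0, 0), (1714, 0, 0), (1858, 0, 0), (1345, 0, 0), (1554, 4, 3), (147, 0, 0), (1745, 0, 0),
   (406, 0, 0), (1701, 0, 0), (260, 0, 0), (1972, 3, 21), (2480, 0, 0), (2099, 0, 0)]

/-- tree dod23T6 -/
def dod23T6 : List (ℕ × ℕ × ℕ) :=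
  dod23T6_0 ++ dod23T6_1 ++ dod23T6_2 ++ dod23T6_3 ++ dod23T6_4 ++ dod23T6_5

/-- part 0 of dod23T7 -/
def dod23T7_0 : List (ℕ × ℕ × ℕ) := [
   (1914, 0, 0), (409, 0, 0), (1352, 0, 0), (551, 0, 0), (1602, 0, 0), (787, 1, 0), (2331, 0, 0),
   (1087, 0, 0), (2359, 0, 0), (844, 0, 0), (2235, 0, 0), (991, 1, 0), (1114, 0, 0), (1100, 0, 0),
   (857, 0, 0), (897, 0, 0), (881, 0, 0), (672, 1, 0), (2388, 0, 0), (1190, 0, 0), (2037, 0, 0),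
   (864, 0, 0), (2479, 0, 0), (1174, 2, 0), (2350, 0, 0), (820, 0, 0), (2466, 0, 0), (824, 0, 0),
   (2304, 0, 0), (349, 1, 0), (264, 0, 0), (544, 0, 0), (191, 0, 0), (380, 0, 0), (588, 0, 0),
   (1765, 2, 0), (1325, 0, 0), (1828, 0, 0), (1590, 0, 0), (1299, 0, 0), (1823, 0, 0), (1416, 1, 0),
   (474, 0, 0), (1615, 0, 0), (55, 0, 0), (1839, 0, 0), (423, 0, 0), (1835, 2, 0), (240, 0, 0),
   (1641, 0, 0), (505, 0, 0), (1768, 0, 0), (161, 0, 0), (579, 1, 0), (1685, 0, 0), (172, 0, 0),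
   (1898, 0, 0), (163, 0, 0), (1653, 0, 0), (562, 2, 0), (439, 0, 0), (110, 0, 0), (567, 0, 0),
   (278, 0, 0), (77, 0, 0), (2351, 1, 0), (2004, 0, 0), (2460, 0, 0), (2190, 0, 0), (1967, 0, 0),
   (2456, 0, 0), (1090, 2, 0), (1189, 0, 0), (849, 0, 0), (870, 0, 0), (1146, 0, 0), (1029, 0, 0),
   (1520, 1, 0), (199, 0, 0), (1817, 0, 0), (333, 0, 0), (1762, 0, 0), (495, 0, 0), (531, 1, 0),
   (1869, 0, 0), (35, 0, 0), (1889, 0, 0), (498, 0, 0), (1342, 0, 0), (230, 2, 0), (390, 0, 0),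
   (434, 0, 0), (431, 0, 0), (272, 0, 0), (233, 0, 0), (2301, 1, 0), (2346, 0, 0), (2343, 0, 0),
   (2184, 0, 0), (2147, 0, 0), (2142, 0, 0), (116, 1, 0), (386, 0, 0), (611, 0, 0), (114, 0, 0),
   (226, 0, 0), (570, 0, 0), (1873, 2, 0), (1413, 0, 0), (1458, 0, 0), (1829, 0, 0), (1408, 0, 0),
   (1634, 0, 0), (408, 1, 0), (1532, 0, 0), (215, 0, 0), (1555, 0, 0), (304, 0, 0), (1786, 0, 0),
   (2196, 1, 0), (805, 0, 0), (2231, 0, 0), (965, 0, 0), (2367, 0, 0), (1092, 0, 0), (1244, 1, 0),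
   (931, 0, 0), (641, 0, 0), (1240, 0, 0), (1109, 0, 0), (678, 0, 0), (727, 2, 0), (2085, 0, 0),
   (1079, 0, 0), (2132, 0, 0), (719, 0, 0), (2259, 0, 0), (1989, 1, 0), (2411, 0, 0), (2106, 0, 0),
   (1994, 0, 0), (2250, 0, 0), (2069, 0, 0), (2138, 2, 0), (2463, 0, 0), (2010, 0, 0), (2299, 0, 0),
   (2503, 0, 0), (2007, 0, 0), (793, 2, 0)]

/-- part 1 of dod23T7 -/
def dod23T7_1 : List (ℕ × ℕ × ℕ) := [
   (1155, 0, 0), (1095, 0, 0), (1007, 0, 0), (1199, 0, 0), (921, 0, 0), (2201, 2, 0), (635, 0, 0),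
   (2528, 0, 0), (1015, 0, 0), (2032, 0, 0), (1216, 0, 0), (1066, 1, 0), (1271, 0, 0), (687, 0, 0),
   (891, 0, 0), (1235, 0, 0), (683, 0, 0), (1524, 1, 0), (1363, 0, 0), (1810, 0, 0), (1699, 0, 0),
   (1405, 0, 0), (1814, 0, 0), (360, 1, 0), (1882, 0, 0), (107, 0, 0), (1550, 0, 0), (478, 0, 0),
   (1435, 0, 0), (1565, 2, 0), (370, 0, 0), (1702, 0, 0), (420, 0, 0), (1596, 0, 0), (149, 0, 0),
   (1719, 1, 0), (1681, 0, 0), (1688, 0, 0), (1586, 0, 0), (1465, 0, 0), (1471, 0, 0), (1424, 1, 0),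
   (301, 0, 0), (1952, 0, 0), (94, 0, 0), (1477, 0, 0), (559, 0, 0), (2057, 1, 0), (1141, 0, 0),
   (2371, 0, 0), (734, 0, 0), (2471, 0, 0), (850, 0, 0), (872, 3, 0), (2156, 0, 0), (978, 0, 0),
   (2431, 0, 0), (1005, 0, 0), (2210, 0, 0), (1384, 4, 0), (1724, 0, 0), (1700, 0, 0), (1428, 0, 0),
   (1552, 0, 0), (1487, 0, 0), (1371, 1, 0), (1658, 0, 0), (1787, 0, 0), (1414, 0, 0), (1479, 0, 0),
   (1566, 0, 0), (2071, 1, 0), (984, 0, 0), (2444, 0, 0), (743, 0, 0), (2176, 0, 0), (893, 0, 0),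
   (2081, 1, 0), (1050, 0, 0), (2380, 0, 0), (754, 0, 0), (2237, 0, 0), (817, 0, 0), (476, 5, 0),
   (603, 0, 0), (95, 0, 0), (1181, 1, 0), (2009, 0, 0), (1129, 0, 0), (2509, 0, 0), (653, 0, 0),
   (2462, 0, 0), (341, 1, 0), (602, 0, 0), (257, 0, 0), (148, 0, 0), (561, 0, 0), (411, 0, 0),
   (829, 1, 0), (2145, 0, 0), (1137, 0, 0), (2353, 0, 0), (996, 0, 0), (2499, 0, 0), (1013, 2, 0),
   (1017, 0, 0), (1262, 0, 0), (838, 0, 0), (803, 0, 0), (1226, 0, 0), (671, 1, 0), (1218, 0, 0),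
   (1197, 0, 0), (136, 1, 0), (1901, 0, 0), (324, 0, 0), (1690, 0, 0), (577, 0, 0), (1510, 0, 0),
   (456, 1, 0), (1698, 0, 0), (395, 0, 0), (1859, 0, 0), (176, 0, 0), (1543, 0, 0), (1598, 2, 0),
   (309, 0, 0), (1607, 0, 0), (368, 0, 0), (1528, 0, 0), (378, 0, 0), (2397, 1, 0), (833, 0, 0),
   (2328, 0, 0), (912, 0, 0), (2312, 0, 0), (846, 0, 0), (760, 2, 0), (880, 0, 0), (1171, 0, 0),
   (763, 0, 0), (1056, 0, 0), (1208, 0, 0), (1470, 1, 0), (1899, 0, 0), (1333, 0, 0), (1648, 0, 0),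
   (1930, 0, 0), (1330, 0, 0), (548, 1, 0)]

/-- part 2 of dod23T7 -/
def dod23T7_2 : List (ℕ × ℕ × ℕ) := [
   (1353, 0, 0), (373, 0, 0), (1944, 0, 0), (43, 0, 0), (1564, 0, 0), (2354, 1, 0), (1019, 0, 0),
   (2269, 0, 0), (791, 0, 0), (2171, 0, 0), (1048, 0, 0), (2531, 2, 0), (840, 0, 0), (1983, 0, 0),
   (1219, 0, 0), (2362, 0, 0), (664, 0, 0), (726, 2, 0), (902, 0, 0), (1085, 0, 0), (768, 0, 0),
   (1075, 0, 0), (945, 0, 0), (2165, 1, 0), (2391, 0, 0), (2015, 0, 0), (2321, 0, 0), (2270, 0, 0),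
   (1975, 0, 0), (389, 1, 0), (1436, 0, 0), (388, 0, 0), (1616, 0, 0), (75, 0, 0), (1576, 0, 0),
   (1430, 2, 0), (1728, 0, 0), (1526, 0, 0), (1389, 0, 0), (1547, 0, 0), (1662, 0, 0), (1375, 1, 0),
   (1481, 0, 0), (1741, 0, 0), (1417, 0, 0), (1656, 0, 0), (1609, 0, 0), (2240, 1, 0), (992, 0, 0),
   (2116, 0, 0), (1054, 0, 0), (2220, 0, 0), (715, 0, 0), (2416, 1, 0), (745, 0, 0), (2337, 0, 0),
   (936, 0, 0), (2068, 0, 0), (809, 0, 0), (445, 3, 0), (1854, 0, 0), (315, 0, 0), (1850, 0, 0),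
   (489, 0, 0), (1501, 0, 0), (497, 1, 0), (339, 0, 0), (575, 0, 0), (501, 0, 0), (177, 0, 0),
   (535, 0, 0), (1001, 1, 0), (1178, 0, 0), (1184, 0, 0), (827, 0, 0), (1136, 0, 0), (1179, 0, 0),
   (1264, 2, 0), (658, 0, 0), (1154, 0, 0), (1122, 2, 0), (772, 0, 0), (899, 0, 0), (909, 0, 0),
   (729, 0, 0), (1077, 0, 0), (2030, 1, 0), (2228, 0, 0), (2158, 0, 0), (1984, 0, 0), (2385, 0, 0),
   (2356, 0, 0), (228, 1, 0), (1580, 0, 0), (71, 0, 0), (1752, 0, 0), (432, 0, 0), (1440, 0, 0),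
   (2472, 1, 0), (2034, 0, 0), (2052, 0, 0), (2059, 2, 0), (1166, 0, 0), (2124, 0, 0), (698, 0, 0),
   (2490, 0, 0), (764, 0, 0), (2257, 1, 0), (701, 0, 0), (2332, 0, 0), (1113, 0, 0), (2110, 0, 0),
   (806, 0, 0), (1734, 1, 0), (1774, 0, 0), (1351, 0, 0), (1563, 0, 0), (1553, 0, 0), (1315, 0, 0),
   (1425, 1, 0), (1309, 0, 0), (1912, 0, 0), (1486, 3, 0), (218, 0, 0), (1730, 0, 0), (345, 0, 0),
   (1783, 0, 0), (250, 0, 0), (1664, 2, 1), (416, 0, 0), (1773, 0, 0), (181, 0, 0), (1569, 0, 0),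
   (209, 0, 0), (735, 1, 0), (2307, 0, 0), (1203, 0, 0), (2100, 0, 0), (786, 0, 0), (2489, 0, 0),
   (1314, 1, 0), (554, 0, 0), (1779, 0, 0), (39, 0, 0), (1918, 0, 0), (251, 0, 0), (874, 1, 0),
   (2315, 0, 0), (1021, 0, 0), (2428, 0, 0)]

/-- part 3 of dod23T7 -/
def dod23T7_3 : List (ℕ × ℕ × ℕ) := [
   (830, 0, 0), (2169, 0, 0), (854, 2, 0), (1073, 0, 0), (924, 0, 0), (988, 0, 0), (938, 0, 0),
   (1061, 0, 0), (981, 1, 0), (2272, 0, 0), (969, 0, 0), (2206, 0, 0), (1045, 0, 0), (2192, 0, 0),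
   (183, 1, 0), (1744, 0, 0), (245, 0, 0), (1661, 0, 0), (258, 0, 0), (1733, 0, 0), (2518, 4, 0),
   (738, 0, 0), (2150, 0, 0), (1157, 0, 0), (2103, 0, 0), (964, 0, 0), (342, 4, 0), (1605, 0, 0),
   (207, 0, 0), (1489, 0, 0), (381, 0, 0), (1776, 0, 0), (1149, 4, 1), (852, 0, 0), (1044, 0, 0),
   (1192, 0, 0), (1026, 0, 0), (915, 0, 0), (1202, 1, 0), (1099, 0, 0), (832, 0, 0), (1160, 0, 0),
   (918, 0, 0), (971, 0, 0), (337, 1, 0), (1588, 0, 0), (453, 0, 0), (1523, 0, 0), (359, 0, 0),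
   (1861, 0, 0), (401, 2, 0), (1679, 0, 0), (510, 0, 0), (1593, 0, 0), (127, 0, 0), (1831, 0, 0),
   (1332, 1, 0), (460, 0, 0), (1935, 0, 0), (29, 0, 0), (1826, 0, 0), (585, 0, 0), (1857, 2, 0),
   (154, 0, 0), (1804, 0, 0), (491, 0, 0), (1677, 0, 0), (482, 0, 0), (415, 2, 0), (179, 0, 0),
   (558, 0, 0), (253, 0, 0), (307, 0, 0), (599, 0, 0), (2182, 1, 0), (1134, 0, 0), (2191, 0, 0),
   (955, 0, 0), (2502, 0, 0), (1003, 0, 0), (564, 4, 0), (1445, 0, 0), (70, 0, 0), (1926, 0, 0),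
   (118, 0, 0), (1392, 0, 0), (1393, 2, 0), (1750, 0, 0), (1437, 0, 0), (1390, 0, 0), (1575, 0, 0),
   (1400, 0, 0), (2063, 1, 1), (2334, 0, 0), (2118, 0, 0), (2061, 0, 0), (2173, 0, 0), (2083, 0, 0),
   (2089, 1, 0), (722, 0, 0), (2419, 0, 0), (766, 0, 0), (2088, 0, 0), (903, 0, 0), (2076, 1, 0),
   (2402, 0, 0), (2041, 0, 0), (2073, 0, 0), (2241, 0, 0), (1995, 0, 0), (797, 2, 0), (2535, 0, 0),
   (662, 0, 0), (2319, 0, 0), (1259, 0, 0), (2025, 0, 0), (2096, 3, 0), (2306, 0, 0), (2204, 0, 0),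
   (2056, 0, 0), (2151, 0, 0), (2329, 0, 0), (1398, 1, 0), (223, 0, 0), (1757, 0, 0), (111, 0, 0),
   (1749, 0, 0), (273, 0, 0), (2225, 1, 0), (2316, 0, 0), (2026, 0, 0), (2390, 0, 0), (2193, 0, 0),
   (1981, 0, 0), (808, 2, 0), (1249, 0, 0), (753, 0, 0), (983, 0, 0), (1280, 0, 0), (750, 0, 0),
   (1494, 5, 0), (1805, 0, 0), (1495, 0, 0), (1629, 0, 0), (1847, 0, 0), (1675, 0, 0), (455, 2, 0),
   (513, 0, 0), (400, 0, 0), (496, 0, 0)]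

/-- part 4 of dod23T7 -/
def dod23T7_4 : List (ℕ × ℕ × ℕ) := [
   (517, 0, 0), (239, 0, 0), (527, 2, 1), (105, 0, 0), (539, 0, 0), (1452, 1, 2), (1808, 0, 0),
   (1671, 0, 0), (1670, 0, 0), (1852, 0, 0), (1499, 0, 0), (547, 1, 0), (351, 0, 0), (422, 0, 0),
   (593, 0, 0), (188, 0, 0), (217, 0, 0), (189, 2, 1), (1387, 0, 0), (540, 0, 0), (1707, 0, 0),
   (98, 0, 0), (1905, 0, 0), (2562, 1, 1), (659, 0, 0), (2161, 0, 0), (1227, 0, 0), (2022, 0, 0),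
   (975, 0, 0), (511, 3, 0), (1411, 0, 0), (450, 0, 0), (1878, 0, 0), (82, 0, 0), (1816, 0, 0),
   (320, 1, 0), (1872, 0, 0), (237, 0, 0), (1463, 0, 0), (468, 0, 0), (1763, 0, 0), (1515, 4, 2),
   (537, 0, 0), (1513, 0, 0), (293, 0, 0), (1931, 0, 0), (329, 0, 0), (481, 4, 2), (265, 0, 0),
   (366, 0, 0), (521, 0, 0), (426, 0, 0), (248, 0, 0), (755, 4, 0), (1234, 0, 0), (861, 0, 0),
   (717, 0, 0), (1230, 0, 0), (1037, 0, 0), (1474, 1, 0), (1544, 0, 0), (1638, 0, 0), (1691, 0, 0),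
   (1761, 0, 0), (1503, 0, 0), (2046, 3, 1), (710, 0, 0), (2541, 0, 0), (681, 0, 0), (2075, 0, 0),
   (1228, 0, 0), (1008, 4, 0), (2370, 0, 0), (916, 0, 0), (2154, 0, 0), (800, 0, 0), (2393, 0, 0),
   (935, 2, 1), (886, 0, 0), (816, 0, 0), (1070, 0, 0), (1103, 0, 0), (1033, 0, 0), (2550, 2, 2),
   (751, 0, 0), (1992, 0, 0), (1241, 0, 0), (2111, 0, 0), (637, 0, 0), (1144, 5, 0), (2211, 0, 0),
   (692, 0, 0), (2474, 0, 0), (1027, 0, 0), (2095, 0, 0), (1118, 1, 3), (741, 0, 0), (1165, 0, 0),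
   (943, 0, 0), (704, 0, 0), (1168, 0, 0), (1336, 1, 0), (1891, 0, 0), (1511, 0, 0), (1306, 0, 0),
   (1893, 0, 0), (1686, 0, 0), (1358, 3, 4), (212, 0, 0), (1909, 0, 0), (45, 0, 0), (1738, 0, 0),
   (590, 0, 0), (625, 1, 3), (2482, 0, 0), (1093, 0, 0), (2018, 0, 0), (1153, 0, 0), (2275, 0, 0),
   (522, 1, 2), (1433, 0, 0), (201, 0, 0), (1845, 0, 0), (102, 0, 0), (1727, 0, 0), (327, 3, 3),
   (508, 0, 0), (584, 0, 0), (166, 0, 0), (466, 0, 0), (587, 0, 0), (2280, 3, 7), (643, 0, 0),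
   (2252, 0, 0), (1058, 0, 0), (2042, 0, 0), (1068, 0, 0), (2410, 1, 0), (926, 0, 0), (2001, 0, 0),
   (888, 0, 0), (2407, 0, 0), (675, 0, 0), (2121, 2, 2), (879, 0, 0), (2178, 0, 0), (711, 0, 0),
   (2401, 0, 0), (1030, 0, 0), (680, 1, 1)]

/-- part 5 of dod23T7 -/
def dod23T7_5 : List (ℕ × ℕ × ℕ) := [
   (2249, 0, 0), (883, 0, 0), (1997, 0, 0), (1063, 0, 0), (2438, 0, 0), (2429, 4, 0), (2020, 0, 0),
   (2162, 0, 0), (2229, 0, 0), (1977, 0, 0), (2323, 0, 0), (1643, 4, 0), (1516, 0, 0), (1717, 0, 0),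
   (1506, 0, 0), (1652, 0, 0), (1582, 0, 0), (1377, 4, 4), (470, 0, 0), (1793, 0, 0), (90, 0, 0),
   (1836, 0, 0), (267, 0, 0), (1355, 1, 16), (1380, 0, 0), (1902, 0, 0), (1536, 3, 9), (1819, 0, 0),
   (1346, 0, 0), (1713, 0, 0), (1863, 0, 0), (1344, 0, 0), (1559, 4, 3), (145, 0, 0), (1739, 0, 0),
   (405, 0, 0), (1706, 0, 0), (262, 0, 0), (1968, 3, 21), (2484, 0, 0), (2104, 0, 0)]

/-- tree dod23T7 -/
def dod23T7 : List (ℕ × ℕ × ℕ) :=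
  dod23T7_0 ++ dod23T7_1 ++ dod23T7_2 ++ dod23T7_3 ++ dod23T7_4 ++ dod23T7_5

/-- the orbit classes -/
def dod23Cls : List (ℕ × List (ℕ × ℕ × ℕ)) :=
  [(0, dod23T0), (2575, dod23T1), (1, dod23T2), (117, dod23T3), (2, dod23T4), (186, dod23T5), (13, dod23T6), (17, dod23T7)]

theorem dod23_ok : dodK.splitOK dod23L dod23Gens dod23Cls = true := by decide +kernel

theorem dod23_sizes : (dod23Cls.map fun c =>
    (classList dodK.ix.n fun i => decide (dodK.invsIx dod23L i = dodK.invsIx dod23L c.1)).length) = [1, 1, 165, 165, 330, 330, 792, 792] := by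
  decide +kernel

end CfsgLib.Spor
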