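import Cfsg.Agent.Lib.Spor.OrbitDuum

/-!
Certificate: orbits on indexed objects of kind pairK.
-/

set_option autoImplicit false
set_option maxRecDepth 100000

namespace CfsgLib.Spor

open Cfsg
open scoped Pointwise

/-- families fixed -/
def duad22L : List (List ℕ) := [[1], [2], [12], [5279, 622863, 3416079, 4196943, 8536111]]

/-- generators -/
def duad22Gens : List ℕ := [346192263790289609804492567986900000,
  183602969205897296383399042740226080,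
  275824787184072699676334022218319904,
  344490037891099063757771509091895328,
  605199655167948163116479590696029216,
  236549470521935578007317460224673824]

/-- part 0 of duad22T0 -/
def duad22T0_0 : List (ℕ × ℕ × ℕ) := [
]

/-- tree duad22T0 -/
def duad22T0 : List (ℕ × ℕ × ℕ) :=
  duad22T0_0

/-- part 0 of duad22T1 -/
def duad22T1_0 : List (ℕ × ℕ × ℕ) := [
]

/-- tree duad22T1 -/
def duad22T1 : List (ℕ × ℕ × ℕ) :=
  duad22T1_0

/-- part 0 of duad22T2 -/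
def duad22T2_0 : List (ℕ × ℕ × ℕ) := [
   (3, 0, 0)]

/-- tree duad22T2 -/
def duad22T2 : List (ℕ × ℕ × ℕ) :=
  duad22T2_0

/-- part 0 of duad22T3 -/
def duad22T3_0 : List (ℕ × ℕ × ℕ) := [
   (4, 0, 0)]

/-- tree duad22T3 -/
def duad22T3 : List (ℕ × ℕ × ℕ) :=
  duad22T3_0

/-- part 0 of duad22T4 -/
def duad22T4_0 : List (ℕ × ℕ × ℕ) := [
   (78, 0, 0), (15, 0, 0), (190, 1, 0), (36, 0, 0), (66, 0, 0), (210, 0, 0), (231, 0, 0),
   (45, 0, 0), (171, 1, 0), (136, 0, 0), (105, 3, 0), (10, 0, 0), (120, 0, 0), (253, 0, 0),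
   (28, 0, 0), (91, 0, 0), (21, 1, 0), (153, 0, 0), (55, 0, 0)]

/-- tree duad22T4 -/
def duad22T4 : List (ℕ × ℕ × ℕ) :=
  duad22T4_0

/-- part 0 of duad22T5 -/
def duad22T5_0 : List (ℕ × ℕ × ℕ) := [
   (79, 0, 0), (16, 0, 0), (191, 1, 0), (37, 0, 0), (67, 0, 0), (211, 0, 0), (232, 0, 0),
   (46, 0, 0), (172, 1, 0), (137, 0, 0), (106, 3, 0), (11, 0, 0), (121, 0, 0), (254, 0, 0),
   (29, 0, 0), (92, 0, 0), (22, 1, 0), (154, 0, 0), (56, 0, 0)]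

/-- tree duad22T5 -/
def duad22T5 : List (ℕ × ℕ × ℕ) :=
  duad22T5_0

/-- part 0 of duad22T6 -/
def duad22T6_0 : List (ℕ × ℕ × ℕ) := [
   (166, 0, 0), (61, 0, 0), (230, 1, 0), (240, 0, 0), (76, 0, 0), (186, 1, 0), (141, 0, 0),
   (187, 0, 0), (270, 0, 0), (179, 0, 0), (150, 0, 0), (73, 1, 0), (228, 0, 0), (242, 0, 0),
   (52, 0, 0), (208, 0, 0), (64, 0, 0), (237, 3, 0), (49, 0, 0), (203, 0, 0), (42, 0, 0),
   (70, 0, 0), (223, 0, 0), (267, 1, 0), (113, 0, 0), (96, 0, 0), (135, 0, 0), (258, 0, 0),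
   (128, 0, 0)]

/-- tree duad22T6 -/
def duad22T6 : List (ℕ × ℕ × ℕ) :=
  duad22T6_0

/-- part 0 of duad22T7 -/
def duad22T7_0 : List (ℕ × ℕ × ℕ) := [
   (81, 0, 0), (17, 0, 0), (9, 0, 0), (80, 0, 0), (18, 0, 0), (193, 1, 0), (38, 0, 0),
   (69, 0, 0), (212, 0, 0), (234, 0, 0), (47, 0, 0), (173, 1, 0), (139, 0, 0), (108, 3, 0),
   (12, 0, 0), (123, 0, 0), (255, 0, 0), (31, 0, 0), (93, 0, 0), (23, 1, 0), (156, 0, 0),
   (57, 0, 0), (24, 0, 0), (155, 0, 0), (58, 0, 0), (213, 1, 0), (233, 0, 0), (48, 0, 0),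
   (192, 0, 0), (39, 0, 0), (68, 0, 0), (107, 1, 0), (13, 0, 0), (122, 0, 0), (256, 0, 0),
   (30, 0, 0), (94, 0, 0), (174, 3, 0), (138, 0, 0)]

/-- tree duad22T7 -/
def duad22T7 : List (ℕ × ℕ × ℕ) :=
  duad22T7_0

/-- part 0 of duad22T8 -/
def duad22T8_0 : List (ℕ × ℕ × ℕ) := [
   (133, 0, 0), (259, 0, 0), (32, 0, 0), (104, 0, 0), (111, 0, 0), (199, 1, 0), (75, 0, 0),
   (222, 0, 0), (252, 0, 0), (241, 0, 0), (200, 0, 0), (176, 1, 0), (152, 0, 0), (272, 0, 0),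
   (144, 0, 0), (185, 0, 0), (151, 0, 0), (238, 2, 0), (163, 0, 0), (201, 0, 0), (43, 0, 0),
   (165, 0, 0), (221, 0, 0), (224, 1, 0), (246, 0, 0), (50, 0, 0), (206, 0, 0), (262, 0, 0),
   (74, 0, 0), (116, 1, 0), (26, 0, 0), (169, 0, 0), (264, 0, 0), (35, 0, 0), (167, 0, 0),
   (143, 1, 0), (189, 0, 0), (147, 0, 0), (178, 0, 0), (170, 0, 0), (182, 0, 0), (216, 1, 0),
   (235, 0, 0), (88, 0, 0), (196, 0, 0), (40, 0, 0), (90, 0, 0), (268, 1, 0), (33, 0, 0),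
   (134, 0, 0), (59, 2, 0), (85, 0, 0), (159, 0, 0), (207, 1, 0), (180, 0, 0), (148, 0, 0),
   (229, 0, 0), (248, 0, 0), (181, 0, 0), (177, 1, 0), (140, 0, 0), (184, 0, 0), (142, 0, 0),
   (175, 0, 0), (149, 0, 0), (265, 1, 0), (218, 0, 0), (245, 0, 0), (115, 0, 0), (195, 0, 0),
   (129, 0, 0), (249, 1, 0), (65, 0, 0), (197, 0, 0), (162, 0, 0), (77, 0, 0), (217, 0, 0),
   (99, 1, 0), (119, 0, 0), (110, 0, 0), (125, 0, 0), (269, 0, 0), (261, 0, 0), (51, 2, 0),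
   (194, 0, 0), (87, 0, 0), (72, 0, 0), (214, 0, 0), (244, 0, 0), (266, 1, 0), (34, 0, 0),
   (95, 0, 0), (118, 0, 0), (20, 0, 0), (124, 0, 0), (247, 1, 0), (263, 0, 0), (198, 0, 0),
   (100, 0, 0), (117, 0, 0), (215, 0, 0), (101, 1, 0), (205, 0, 0), (41, 0, 0), (132, 0, 0),
   (274, 0, 0), (239, 0, 0), (89, 1, 0), (27, 0, 0), (157, 0, 0), (82, 3, 0), (84, 0, 0),
   (19, 0, 0), (63, 5, 0), (98, 0, 0), (168, 0, 0), (60, 0, 0), (127, 0, 0), (271, 0, 0),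
   (126, 2, 0), (257, 0, 0), (86, 0, 0), (97, 0, 0), (109, 0, 0), (83, 0, 0), (44, 2, 0),
   (103, 0, 0), (225, 0, 0), (236, 0, 0), (130, 0, 0), (273, 0, 0), (53, 3, 0), (204, 0, 0),
   (114, 0, 0), (71, 0, 0), (226, 0, 0), (275, 0, 0), (145, 2, 2), (183, 0, 0), (227, 0, 0),
   (250, 0, 0), (146, 0, 0), (209, 0, 0), (202, 5, 0), (219, 0, 0), (243, 0, 0), (220, 0, 0),
   (251, 0, 0), (54, 0, 0), (112, 5, 2)]

/-- part 1 of duad22T8 -/
def duad22T8_1 : List (ℕ × ℕ × ℕ) := [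
   (158, 0, 0), (131, 0, 0), (260, 0, 0), (161, 0, 0), (102, 0, 0), (164, 2, 0), (62, 0, 0),
   (160, 0, 0), (188, 2, 12)]

/-- tree duad22T8 -/
def duad22T8 : List (ℕ × ℕ × ℕ) :=
  duad22T8_0 ++ duad22T8_1

/-- the orbit classes -/
def duad22Cls : List (ℕ × List (ℕ × ℕ × ℕ)) :=
  [(0, duad22T0), (5, duad22T1), (1, duad22T2), (2, duad22T3), (6, duad22T4), (7, duad22T5), (25, duad22T6), (8, duad22T7), (14, duad22T8)]

theorem duad22_ok : pairK.splitOK duad22L duad22Gens duad22Cls = true := by decide +kernel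

theorem duad22_sizes : (duad22Cls.map fun c =>
    (classList pairK.ix.n fun i => decide (pairK.invsIx duad22L i = pairK.invsIx duad22L c.1)).length) = [1, 1, 2, 2, 20, 20, 30, 40, 160] := by
  decide +kernel

end CfsgLib.Spor
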