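import Cfsg.Agent.Lib.Spor.OrbitDuum

/-!
Certificate: orbits on indexed objects of kind duumK.
-/

set_option autoImplicit false
set_option maxRecDepth 100000

namespace CfsgLib.Spor

open Cfsg
open scoped Pointwise

/-- families fixed -/
def duumDuumL : List (List ℕ) := [[28637, 16748578]]

/-- generators -/
def duumDuumGens : List ℕ := [861341466399497477793493932319385165,
  726986436173174245000820160376967854,
  791402564558736351324035893625691789,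
  376449691724552769877075027484493221,
  432276593353092424045249089532171511,
  7965021736833515417024964816060884]

/-- part 0 of duumDuumT0 -/
def duumDuumT0_0 : List (ℕ × ℕ × ℕ) := [
]

/-- tree duumDuumT0 -/
def duumDuumT0 : List (ℕ × ℕ × ℕ) :=
  duumDuumT0_0

/-- part 0 of duumDuumT1 -/
def duumDuumT1_0 : List (ℕ × ℕ × ℕ) := [
   (12, 0, 0), (14, 0, 0), (1167, 0, 0), (167, 0, 0), (1283, 0, 0), (785, 1, 0), (933, 0, 0),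
   (1168, 0, 0), (773, 0, 0), (428, 0, 0), (1009, 0, 0), (267, 1, 0), (350, 0, 0), (655, 0, 0),
   (92, 0, 0), (538, 0, 0), (501, 0, 0), (1285, 1, 0), (184, 0, 0), (1098, 1, 0), (1120, 0, 0),
   (1102, 0, 0), (70, 0, 0), (235, 0, 0), (1103, 0, 0), (627, 1, 0), (1204, 0, 0), (402, 0, 0),
   (744, 0, 0), (300, 0, 0), (573, 0, 0), (173, 2, 0), (1273, 0, 0), (18, 0, 0), (1153, 0, 0),
   (195, 0, 0), (177, 0, 0), (673, 1, 0), (1075, 0, 0), (1002, 0, 0), (854, 0, 0), (81, 0, 0),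
   (994, 0, 0), (1287, 2, 0), (179, 0, 0), (6, 0, 0), (163, 0, 0), (4, 0, 0), (1279, 0, 0),
   (337, 2, 0), (511, 0, 0), (80, 0, 0), (339, 0, 0), (672, 0, 0), (1227, 0, 0), (871, 1, 0),
   (1058, 0, 0), (979, 0, 0), (486, 0, 0), (1060, 0, 0), (555, 0, 0), (214, 1, 0), (42, 0, 0),
   (33, 0, 0), (1257, 0, 0), (49, 0, 0), (204, 0, 0), (1281, 1, 0), (1155, 0, 0), (1162, 0, 0),
   (171, 0, 0), (7, 0, 0), (15, 0, 0), (136, 1, 0), (775, 0, 0), (609, 0, 0), (327, 0, 0),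
   (575, 0, 0), (934, 0, 0), (211, 1, 0), (1128, 0, 0), (65, 0, 0), (1266, 0, 0), (226, 0, 0),
   (64, 0, 0), (687, 2, 0), (1238, 0, 0), (997, 0, 0), (691, 0, 0), (1093, 0, 0), (525, 0, 0),
   (75, 1, 0), (357, 0, 0), (657, 0, 0), (251, 0, 0), (837, 0, 0), (663, 0, 0), (771, 1, 0),
   (429, 0, 0), (1008, 0, 0), (787, 0, 0), (935, 0, 0), (1170, 0, 0), (86, 1, 0), (361, 0, 0),
   (692, 0, 0), (275, 0, 0), (528, 0, 0), (866, 0, 0), (666, 1, 0), (97, 0, 0), (338, 0, 0),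
   (874, 0, 0), (84, 0, 0), (520, 0, 0), (766, 1, 0), (448, 0, 0), (311, 0, 0), (420, 0, 0),
   (614, 0, 0), (1026, 0, 0), (35, 1, 1), (1256, 0, 0), (51, 0, 0), (206, 0, 0), (216, 0, 0),
   (43, 0, 0), (761, 1, 0), (426, 0, 0), (335, 0, 0), (108, 1, 0), (343, 0, 0), (493, 0, 0),
   (106, 0, 0), (842, 0, 0), (861, 0, 0), (168, 1, 0), (25, 0, 0), (3, 0, 0), (178, 0, 0),
   (1275, 0, 0), (164, 0, 0), (597, 1, 0), (625, 0, 0), (323, 0, 0), (943, 0, 0), (436, 0, 0),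
   (1040, 0, 0), (1269, 2, 0), (1118, 0, 0)]

/-- part 1 of duumDuumT1 -/
def duumDuumT1_1 : List (ℕ × ℕ × ℕ) := [
   (40, 0, 0), (1133, 0, 0), (38, 0, 0), (55, 0, 0), (1097, 1, 0), (246, 0, 0), (360, 3, 0),
   (852, 0, 0), (1085, 0, 0), (351, 0, 0), (677, 0, 0), (91, 0, 0), (585, 1, 0), (732, 0, 0),
   (1048, 0, 0), (390, 0, 0), (615, 0, 0), (117, 0, 0), (567, 2, 0), (432, 0, 0), (1171, 0, 0),
   (297, 2, 0), (945, 0, 0), (724, 0, 0), (683, 1, 0), (256, 0, 0), (345, 0, 0), (695, 0, 0),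
   (74, 0, 0), (825, 0, 0), (512, 2, 0), (650, 0, 0), (78, 0, 0), (847, 0, 0), (701, 0, 0),
   (1236, 0, 0), (808, 1, 0), (710, 0, 0), (1066, 0, 0), (814, 0, 0), (470, 0, 0), (269, 0, 0),
   (349, 1, 0), (676, 0, 0), (90, 0, 0), (359, 0, 0), (850, 0, 0), (1086, 0, 0), (539, 2, 0),
   (684, 0, 0), (1072, 0, 0), (347, 0, 0), (880, 0, 0), (1233, 0, 0), (34, 3, 0), (30, 0, 0),
   (48, 0, 0), (31, 0, 0), (1136, 0, 0), (1265, 0, 0), (760, 3, 0), (914, 0, 0), (334, 0, 0),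
   (937, 0, 0), (927, 0, 0), (1013, 0, 0), (709, 1, 0), (77, 0, 0), (535, 0, 0), (704, 0, 0),
   (1088, 0, 0), (839, 0, 0), (1166, 1, 0), (22, 0, 0), (17, 0, 0), (162, 0, 0), (190, 0, 0),
   (11, 0, 0), (764, 1, 0), (600, 0, 0), (1019, 0, 0), (596, 0, 0), (425, 0, 0), (1031, 0, 0),
   (919, 1, 0), (331, 0, 0), (786, 0, 0), (452, 0, 0), (1174, 0, 0), (951, 0, 0), (233, 2, 0),
   (39, 0, 0), (778, 2, 0), (932, 0, 0), (1030, 0, 0), (579, 0, 0), (603, 0, 0), (1181, 0, 0),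
   (1284, 1, 0), (1280, 0, 0), (13, 0, 0), (181, 0, 0), (170, 0, 0), (1160, 0, 0), (599, 1, 0),
   (447, 0, 0), (1011, 0, 0), (423, 0, 0), (434, 0, 0), (330, 0, 0), (32, 2, 0), (228, 0, 0),
   (1263, 0, 0), (208, 0, 0), (1264, 0, 0), (1254, 0, 0), (680, 3, 0), (76, 0, 0), (1007, 0, 0),
   (659, 0, 0), (72, 0, 0), (513, 0, 0), (98, 1, 0), (996, 0, 0), (877, 0, 0), (263, 0, 0),
   (832, 0, 0), (685, 0, 0), (503, 1, 0), (85, 0, 0), (1006, 0, 0), (690, 0, 0), (94, 0, 0),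
   (845, 0, 0), (510, 2, 0), (1220, 0, 0), (342, 0, 0), (848, 0, 0), (103, 0, 0), (1004, 0, 0),
   (696, 1, 0), (252, 0, 0), (547, 0, 0), (660, 0, 0), (253, 0, 0), (987, 0, 0), (518, 1, 0),
   (667, 0, 0), (95, 0, 0), (336, 0, 0)]

/-- part 2 of duumDuumT1 -/
def duumDuumT1_2 : List (ℕ × ℕ × ℕ) := [
   (873, 0, 0), (82, 0, 0), (1208, 1, 0), (558, 0, 0), (634, 0, 0), (119, 0, 0), (379, 0, 0),
   (623, 0, 0), (248, 3, 0), (1003, 0, 0), (675, 0, 0), (1239, 0, 0), (356, 0, 0), (674, 0, 0),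
   (1055, 2, 0), (807, 0, 0), (892, 0, 0), (292, 0, 0), (556, 0, 0), (471, 0, 0), (125, 1, 1),
   (972, 0, 0), (714, 0, 0), (139, 0, 0), (380, 0, 0), (896, 0, 0), (1252, 3, 0), (205, 0, 0),
   (1108, 0, 0), (46, 0, 0), (207, 0, 0), (60, 0, 0), (1232, 2, 0), (340, 0, 0), (658, 0, 0),
   (1225, 0, 0), (515, 0, 0), (862, 0, 0), (1142, 4, 1), (10, 0, 0), (185, 0, 0), (24, 0, 0),
   (189, 0, 0), (1161, 0, 0), (161, 1, 0), (192, 0, 0), (9, 0, 0), (1165, 0, 0), (20, 0, 0),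
   (19, 0, 0), (936, 1, 2), (459, 0, 0), (1016, 0, 0), (717, 2, 0), (317, 0, 0), (967, 0, 0),
   (464, 0, 0), (124, 0, 0), (408, 0, 0), (479, 4, 0), (293, 0, 0), (830, 0, 0), (474, 0, 0),
   (1213, 0, 0), (545, 0, 0), (138, 3, 0), (382, 0, 0), (894, 0, 0), (127, 0, 0), (974, 0, 0),
   (715, 0, 0), (5, 2, 1), (1151, 0, 0), (374, 2, 3), (670, 0, 0), (1076, 0, 0), (368, 0, 0),
   (859, 0, 0), (260, 0, 0), (1137, 1, 0), (59, 0, 0), (37, 0, 0), (202, 0, 0), (1248, 0, 0),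
   (1267, 0, 0), (762, 1, 0), (602, 0, 0), (1018, 0, 0), (594, 0, 0), (424, 0, 0), (1033, 0, 0),
   (384, 3, 0), (740, 0, 0), (1187, 0, 0), (802, 0, 0), (905, 0, 0), (134, 0, 0), (716, 1, 0),
   (1209, 0, 0), (378, 0, 0), (988, 2, 1), (669, 0, 0), (249, 0, 0), (367, 0, 0), (679, 0, 0),
   (1095, 0, 0), (639, 2, 1), (294, 0, 0), (391, 0, 0), (719, 0, 0), (115, 0, 0), (401, 0, 0),
   (344, 2, 0), (693, 0, 0), (73, 0, 0), (827, 0, 0), (681, 0, 0), (254, 0, 0), (160, 2, 2),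
   (21, 0, 0), (1286, 0, 0), (1140, 4, 0), (387, 4, 2), (468, 0, 0), (152, 0, 0), (27, 2, 0),
   (2, 0, 0), (180, 0, 0), (1277, 0, 0), (165, 0, 0), (166, 0, 0), (118, 3, 2), (805, 0, 0),
   (727, 0, 0), (1205, 0, 0), (977, 0, 0), (738, 0, 0), (389, 2, 0), (721, 0, 0), (114, 0, 0),
   (403, 0, 0), (640, 0, 0), (296, 0, 0), (907, 5, 1), (1012, 0, 0), (961, 0, 0), (440, 0, 0),
   (154, 0, 0), (772, 0, 0), (146, 2, 0)]

/-- part 3 of duumDuumT1 -/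
def duumDuumT1_3 : List (ℕ × ℕ × ℕ) := [
   (975, 0, 0), (918, 0, 0), (1197, 0, 0), (565, 0, 0), (728, 0, 0), (272, 4, 10), (348, 0, 0),
   (507, 0, 0), (1235, 0, 0), (362, 0, 0), (671, 0, 0), (700, 4, 2), (101, 0, 0), (514, 0, 0),
   (480, 0, 0), (1231, 0, 0), (519, 0, 0), (855, 1, 0), (1221, 0, 0), (991, 0, 0), (849, 0, 0),
   (285, 0, 0), (353, 0, 0), (1262, 5, 5), (54, 0, 0), (50, 0, 0), (1115, 0, 0), (217, 0, 0),
   (223, 0, 0), (465, 4, 9), (1042, 0, 0), (963, 0, 0), (720, 0, 0), (1191, 0, 0), (405, 0, 0),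
   (1164, 1, 7), (191, 0, 0), (1270, 0, 0), (769, 4, 0), (758, 0, 0), (1046, 0, 0), (122, 4, 25),
   (559, 0, 0), (751, 0, 0)]

/-- tree duumDuumT1 -/
def duumDuumT1 : List (ℕ × ℕ × ℕ) :=
  duumDuumT1_0 ++ duumDuumT1_1 ++ duumDuumT1_2 ++ duumDuumT1_3

/-- part 0 of duumDuumT2 -/
def duumDuumT2_0 : List (ℕ × ℕ × ℕ) := [
   (183, 0, 0), (23, 0, 0), (187, 0, 0), (1163, 0, 0), (1144, 0, 0), (224, 1, 0), (1123, 0, 0),
   (1243, 0, 0), (1251, 0, 0), (1116, 0, 0), (1104, 0, 0), (358, 1, 0), (489, 0, 0), (1084, 0, 0),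
   (530, 0, 0), (664, 0, 0), (1224, 0, 0), (1282, 1, 0), (1152, 0, 0), (1276, 0, 0), (1149, 0, 0),
   (169, 0, 0), (199, 0, 0), (1121, 1, 0), (221, 0, 0), (66, 0, 0), (57, 0, 0), (229, 0, 0),
   (241, 0, 0), (995, 1, 0), (875, 0, 0), (264, 0, 0), (834, 0, 0), (686, 0, 0), (96, 0, 0),
   (450, 2, 0), (1172, 0, 0), (949, 0, 0), (921, 0, 0), (332, 0, 0), (784, 0, 0), (678, 1, 0),
   (273, 0, 0), (986, 0, 0), (505, 0, 0), (1087, 0, 0), (983, 0, 0), (1125, 1, 0), (245, 0, 0),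
   (47, 0, 0), (1113, 0, 0), (63, 0, 0), (1110, 0, 0), (1034, 1, 0), (395, 0, 0), (747, 0, 0),
   (140, 0, 0), (777, 0, 0), (455, 0, 0), (1234, 1, 0), (541, 0, 0), (682, 0, 0), (1070, 0, 0),
   (346, 0, 0), (881, 0, 0), (1132, 1, 0), (215, 0, 0), (1244, 0, 0), (36, 0, 0), (1119, 0, 0),
   (1246, 0, 0), (321, 2, 0), (595, 0, 0), (915, 0, 0), (1035, 0, 0), (940, 0, 0), (748, 0, 0),
   (143, 1, 0), (406, 0, 0), (920, 0, 0), (1037, 0, 0), (790, 0, 0), (628, 0, 0), (137, 2, 0),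
   (564, 0, 0), (610, 0, 0), (147, 0, 0), (801, 0, 0), (433, 0, 0), (989, 1, 0), (698, 0, 0),
   (250, 0, 0), (549, 0, 0), (662, 0, 0), (255, 0, 0), (999, 1, 0), (508, 0, 0), (102, 0, 0),
   (365, 0, 0), (509, 0, 0), (1064, 0, 0), (494, 1, 0), (1081, 0, 0), (373, 0, 0), (699, 0, 0),
   (1073, 0, 0), (552, 0, 0), (364, 1, 0), (878, 0, 0), (1059, 0, 0), (829, 0, 0), (867, 0, 0),
   (1214, 0, 0), (1271, 1, 0), (186, 0, 0), (196, 0, 0), (1139, 0, 0), (176, 0, 0), (1143, 0, 0),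
   (708, 3, 0), (1223, 0, 0), (536, 0, 0), (888, 0, 0), (270, 0, 0), (529, 0, 0), (417, 1, 0),
   (458, 0, 0), (306, 0, 0), (938, 0, 0), (638, 0, 0), (318, 0, 0), (584, 1, 0), (608, 0, 0),
   (1045, 0, 0), (570, 0, 0), (757, 0, 0), (1203, 0, 0), (443, 1, 0), (310, 0, 0), (578, 0, 0),
   (735, 0, 0), (1186, 0, 0), (955, 0, 0), (544, 1, 0), (864, 0, 0), (290, 0, 0), (998, 0, 0),
   (879, 0, 0), (105, 0, 0), (482, 3, 0)]

/-- part 1 of duumDuumT2 -/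
def duumDuumT2_1 : List (ℕ × ℕ × ℕ) := [
   (1229, 0, 0), (517, 0, 0), (702, 0, 0), (99, 0, 0), (516, 0, 0), (280, 1, 0), (551, 0, 0),
   (893, 0, 0), (1079, 0, 0), (554, 0, 0), (643, 0, 0), (145, 1, 0), (404, 0, 0), (922, 0, 0),
   (1039, 0, 0), (789, 0, 0), (630, 0, 0), (492, 2, 0), (104, 0, 0), (840, 0, 0), (860, 0, 0),
   (110, 0, 0), (341, 0, 0), (388, 1, 0), (617, 0, 0), (116, 0, 0), (583, 0, 0), (730, 0, 0),
   (1050, 0, 0), (533, 1, 0), (497, 0, 0), (109, 0, 0), (990, 0, 0), (490, 0, 0), (287, 0, 0),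
   (475, 1, 0), (87, 0, 0), (540, 0, 0), (648, 0, 0), (1069, 0, 0), (526, 0, 0), (1148, 1, 0),
   (1147, 0, 0), (201, 0, 0), (1158, 0, 0), (198, 0, 0), (28, 0, 0), (768, 2, 0), (759, 0, 0),
   (1044, 0, 0), (897, 1, 0), (1015, 0, 0), (397, 0, 0), (461, 0, 0), (1179, 0, 0), (413, 0, 0),
   (1043, 1, 0), (421, 0, 0), (723, 0, 0), (1027, 0, 0), (944, 0, 0), (903, 0, 0), (776, 1, 0),
   (731, 0, 0), (324, 0, 0), (394, 0, 0), (439, 0, 0), (1198, 0, 0), (299, 1, 0), (571, 0, 0),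
   (629, 0, 0), (1206, 0, 0), (400, 0, 0), (742, 0, 0), (899, 1, 0), (153, 0, 0), (950, 0, 0),
   (466, 0, 0), (328, 0, 0), (958, 0, 0), (661, 2, 0), (1071, 0, 0), (985, 0, 0), (883, 0, 0),
   (1083, 0, 0), (809, 0, 0), (841, 2, 0), (481, 0, 0), (113, 0, 0), (523, 0, 0), (886, 0, 0),
   (1210, 0, 0), (1141, 1, 0), (1272, 0, 0), (188, 0, 0), (194, 0, 0), (1138, 0, 0), (174, 0, 0),
   (1249, 2, 0), (56, 0, 0), (1135, 0, 0), (238, 0, 0), (1258, 0, 0), (1134, 0, 0), (399, 1, 0),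
   (463, 0, 0), (1178, 0, 0), (411, 0, 0), (898, 0, 0), (1017, 0, 0), (1226, 3, 0), (824, 0, 0),
   (863, 0, 0), (1080, 0, 0), (1000, 0, 0), (694, 0, 0), (1268, 1, 0), (227, 0, 0), (62, 0, 0),
   (213, 0, 0), (1129, 0, 0), (67, 0, 0), (1122, 1, 0), (1100, 0, 0), (68, 0, 0), (237, 0, 0),
   (1105, 0, 0), (1096, 0, 0), (1010, 1, 0), (959, 0, 0), (438, 0, 0), (155, 0, 0), (770, 0, 0),
   (909, 0, 0), (483, 3, 0), (111, 0, 0), (522, 0, 0), (884, 0, 0), (1212, 0, 0), (843, 0, 0),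
   (414, 1, 0), (636, 0, 0), (1053, 0, 0), (316, 1, 0), (418, 0, 0), (460, 0, 0), (307, 0, 0),
   (939, 0, 0), (637, 0, 0), (722, 3, 0)]

/-- part 2 of duumDuumT2 -/
def duumDuumT2_2 : List (ℕ × ℕ × ℕ) := [
   (295, 0, 0), (946, 0, 0), (88, 3, 0), (844, 0, 0), (651, 0, 0), (1222, 0, 0), (846, 0, 0),
   (885, 0, 0), (798, 2, 0), (635, 0, 0), (1185, 0, 0), (381, 0, 0), (444, 0, 0), (129, 0, 0),
   (141, 1, 0), (562, 0, 0), (456, 0, 0), (1195, 0, 0), (973, 0, 0), (622, 0, 0), (882, 2, 0),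
   (288, 0, 0), (806, 0, 0), (495, 0, 0), (289, 0, 0), (377, 0, 0), (592, 2, 0), (737, 0, 0),
   (301, 0, 0), (415, 0, 0), (749, 0, 0), (1051, 0, 0), (1260, 3, 0), (231, 0, 0), (1247, 0, 0),
   (234, 0, 0), (218, 0, 0), (1101, 0, 0), (315, 1, 0), (788, 0, 0), (756, 0, 0), (149, 0, 0),
   (588, 0, 0), (427, 0, 0), (913, 2, 0), (1196, 0, 0), (409, 0, 0), (621, 0, 0), (322, 0, 0),
   (792, 0, 0), (1237, 1, 0), (826, 0, 0), (649, 0, 0), (258, 0, 0), (524, 0, 0), (645, 0, 0),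
   (1130, 1, 0), (1107, 0, 0), (1241, 0, 0), (212, 0, 0), (240, 0, 0), (71, 0, 0), (239, 3, 0),
   (69, 0, 0), (1131, 0, 0), (1109, 0, 0), (1242, 0, 0), (210, 0, 0), (419, 1, 0), (725, 0, 0),
   (1028, 0, 0), (942, 0, 0), (902, 0, 0), (1041, 0, 0), (1057, 2, 0), (354, 0, 0), (487, 0, 0),
   (1218, 0, 0), (819, 0, 0), (500, 0, 0), (112, 3, 0), (818, 0, 0), (887, 0, 0), (1054, 0, 0),
   (531, 0, 0), (891, 0, 0), (1182, 1, 0), (561, 0, 0), (929, 0, 0), (1192, 0, 0), (800, 0, 0),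
   (752, 0, 0), (491, 2, 0), (286, 0, 0), (532, 0, 0), (498, 0, 0), (107, 0, 0), (992, 0, 0),
   (126, 1, 0), (410, 0, 0), (718, 0, 0), (319, 0, 0), (965, 0, 0), (462, 0, 0), (796, 1, 0),
   (457, 0, 0), (158, 0, 0), (971, 0, 0), (445, 0, 0), (1176, 0, 0), (707, 2, 0), (79, 0, 0),
   (534, 0, 0), (706, 0, 0), (1090, 0, 0), (838, 0, 0), (278, 1, 0), (369, 0, 0), (485, 0, 0),
   (262, 0, 0), (553, 0, 0), (688, 0, 0), (407, 1, 0), (619, 0, 0), (320, 0, 0), (791, 0, 0),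
   (911, 0, 0), (1194, 0, 0), (916, 1, 0), (1199, 0, 0), (563, 0, 0), (726, 0, 0), (144, 0, 0),
   (976, 0, 0), (1068, 4, 0), (812, 0, 0), (472, 0, 0), (271, 0, 0), (810, 0, 0), (712, 0, 0),
   (546, 2, 0), (711, 0, 0), (257, 0, 0), (816, 0, 0), (644, 0, 0), (1091, 0, 0), (442, 1, 0),
   (1014, 0, 0), (581, 0, 0), (912, 0, 0)]

/-- part 3 of duumDuumT2 -/
def duumDuumT2_3 : List (ℕ × ℕ × ℕ) := [
   (157, 0, 0), (412, 0, 0), (151, 1, 0), (948, 0, 0), (467, 0, 0), (329, 0, 0), (960, 0, 0),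
   (901, 0, 0), (618, 3, 0), (1188, 0, 0), (586, 0, 0), (910, 0, 0), (312, 0, 0), (962, 0, 0),
   (941, 1, 0), (435, 0, 0), (1038, 0, 0), (598, 0, 0), (624, 0, 0), (325, 0, 0), (1061, 4, 0),
   (831, 0, 0), (865, 0, 0), (1215, 0, 0), (363, 0, 0), (876, 0, 0), (968, 5, 0), (925, 0, 0),
   (128, 0, 0), (590, 0, 0), (633, 0, 0), (1020, 0, 0), (1078, 1, 0), (833, 0, 0), (646, 0, 0),
   (100, 0, 0), (823, 0, 0), (478, 0, 0), (437, 1, 0), (1200, 0, 0), (774, 0, 0), (729, 0, 0),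
   (326, 0, 0), (393, 0, 0), (230, 2, 0), (1126, 0, 0), (1124, 0, 0), (41, 0, 0), (1253, 0, 0),
   (1255, 0, 0), (1259, 1, 1), (232, 0, 0), (1245, 0, 0), (236, 0, 0), (220, 0, 0), (1099, 0, 0),
   (1157, 2, 0), (1159, 0, 0), (26, 0, 0), (1278, 0, 0), (182, 0, 0), (1145, 0, 0), (449, 1, 0),
   (131, 0, 0), (952, 0, 0), (741, 0, 0), (1023, 0, 0), (574, 0, 0), (376, 3, 0), (504, 0, 0),
   (284, 0, 0), (978, 0, 0), (858, 0, 0), (1063, 0, 0), (582, 1, 0), (607, 0, 0), (1047, 0, 0),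
   (572, 0, 0), (755, 0, 0), (1202, 0, 0), (982, 1, 0), (652, 0, 0), (276, 0, 0), (811, 0, 0),
   (870, 0, 0), (268, 0, 0), (980, 1, 0), (856, 0, 0), (1065, 0, 0), (375, 0, 0), (506, 0, 0),
   (282, 0, 0), (781, 1, 0), (753, 0, 0), (305, 0, 0), (795, 0, 0), (604, 0, 0), (121, 0, 0),
   (371, 1, 0), (697, 0, 0), (1074, 0, 0), (550, 0, 0), (496, 0, 0), (1082, 0, 0), (1219, 2, 1),
   (993, 0, 0), (851, 0, 0), (283, 0, 0), (355, 0, 0), (853, 0, 0), (385, 1, 0), (469, 0, 0),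
   (150, 0, 0), (869, 1, 0), (1056, 0, 0), (981, 0, 0), (484, 0, 0), (1062, 0, 0), (557, 0, 0),
   (803, 1, 1), (431, 0, 0), (135, 0, 0), (566, 0, 0), (611, 0, 0), (148, 0, 0), (924, 3, 0),
   (1175, 0, 0), (591, 0, 0), (454, 0, 0), (333, 0, 0), (398, 0, 0), (782, 2, 0), (632, 0, 0),
   (302, 0, 0), (969, 0, 0), (746, 0, 0), (1207, 0, 0), (159, 5, 0), (797, 0, 0), (928, 0, 0),
   (767, 4, 0), (626, 0, 0), (1049, 0, 0), (947, 0, 0), (613, 0, 0), (298, 0, 0), (895, 4, 0),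
   (1177, 0, 0), (970, 0, 0), (793, 1, 0)]

/-- part 4 of duumDuumT2 -/
def duumDuumT2_4 : List (ℕ × ℕ × ℕ) := [
   (606, 0, 0), (123, 0, 0), (783, 0, 0), (754, 0, 0), (304, 0, 0), (734, 3, 0), (120, 0, 0),
   (957, 0, 0), (620, 0, 0), (1052, 0, 0), (794, 0, 0), (631, 1, 3), (1022, 0, 0), (966, 0, 0),
   (923, 0, 0), (130, 0, 0), (589, 0, 0), (745, 4, 0), (142, 0, 0), (779, 0, 0), (453, 0, 0),
   (1036, 0, 0), (396, 0, 0), (200, 2, 1), (1156, 0, 0), (197, 0, 0), (29, 0, 0), (1150, 0, 0),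
   (1146, 0, 0), (430, 4, 0), (1169, 0, 0), (569, 0, 0), (954, 2, 0), (641, 0, 0), (1029, 0, 0),
   (392, 0, 0), (900, 0, 0), (1201, 0, 0), (277, 3, 0), (1001, 0, 0), (488, 0, 0), (83, 0, 0),
   (821, 0, 0), (665, 0, 0), (219, 1, 1), (222, 0, 0), (1261, 0, 0), (53, 0, 0), (52, 0, 0),
   (1117, 0, 0), (1112, 2, 1), (242, 0, 0), (247, 0, 0), (225, 0, 0), (244, 0, 0), (1240, 0, 0),
   (890, 3, 3), (1228, 0, 0), (820, 0, 0), (705, 0, 0), (281, 0, 0), (835, 0, 0), (689, 5, 1),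
   (1092, 0, 0), (366, 0, 0), (653, 0, 0), (1094, 0, 0), (817, 0, 0), (45, 2, 1), (1114, 0, 0),
   (61, 0, 0), (1111, 0, 0), (1127, 0, 0), (243, 0, 0), (175, 2, 0), (172, 0, 0), (1274, 0, 0),
   (16, 0, 0), (1154, 0, 0), (193, 0, 0), (868, 4, 0), (266, 0, 0), (984, 0, 0), (654, 0, 0),
   (274, 0, 0), (813, 0, 0), (156, 2, 0), (568, 0, 0), (906, 0, 0), (1173, 0, 0), (386, 0, 0),
   (917, 0, 0), (815, 1, 0), (642, 0, 0), (1089, 0, 0), (548, 0, 0), (713, 0, 0), (259, 0, 0),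
   (542, 1, 2), (647, 0, 0), (1067, 0, 0), (527, 0, 0), (473, 0, 0), (89, 0, 0), (416, 4, 1),
   (926, 0, 0), (309, 0, 0), (763, 0, 0), (736, 0, 0), (1021, 0, 0), (930, 3, 0), (1193, 0, 0),
   (799, 0, 0), (750, 0, 0), (1180, 0, 0), (560, 0, 0), (383, 3, 1), (739, 0, 0), (1189, 0, 0),
   (804, 0, 0), (904, 0, 0), (132, 0, 0), (291, 3, 4), (828, 0, 0), (476, 0, 0), (1211, 0, 0),
   (543, 0, 0), (477, 0, 0), (1184, 5, 1), (956, 0, 0), (441, 0, 0), (308, 0, 0), (580, 0, 0),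
   (733, 0, 0), (953, 3, 1), (743, 0, 0), (1025, 0, 0), (576, 0, 0), (451, 0, 0), (133, 0, 0),
   (502, 5, 5), (1216, 0, 0), (1005, 0, 0), (872, 0, 0), (1217, 0, 0), (521, 0, 0), (612, 5, 10),
   (1024, 0, 0), (765, 0, 0), (446, 0, 0)]

/-- part 5 of duumDuumT2 -/
def duumDuumT2_5 : List (ℕ × ℕ × ℕ) := [
   (313, 0, 0), (422, 0, 0), (314, 3, 1), (964, 0, 0), (616, 0, 0), (1190, 0, 0), (587, 0, 0),
   (908, 0, 0), (93, 2, 0), (537, 0, 0), (499, 0, 0), (265, 0, 0), (352, 0, 0), (656, 0, 0),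
   (370, 5, 4), (857, 0, 0), (261, 0, 0), (372, 0, 0), (668, 0, 0), (1077, 0, 0), (931, 4, 4),
   (1032, 0, 0), (577, 0, 0), (605, 0, 0), (1183, 0, 0), (780, 0, 0), (1250, 5, 1), (203, 0, 0),
   (1106, 0, 0), (44, 0, 0), (209, 0, 0), (58, 0, 0), (593, 5, 46), (601, 0, 0), (303, 0, 0),
   (279, 5, 9), (836, 0, 0), (889, 0, 0), (1230, 0, 0), (822, 0, 0), (703, 0, 0)]

/-- tree duumDuumT2 -/
def duumDuumT2 : List (ℕ × ℕ × ℕ) :=
  duumDuumT2_0 ++ duumDuumT2_1 ++ duumDuumT2_2 ++ duumDuumT2_3 ++ duumDuumT2_4 ++ duumDuumT2_5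

/-- the orbit classes -/
def duumDuumCls : List (ℕ × List (ℕ × ℕ × ℕ)) :=
  [(0, duumDuumT0), (1, duumDuumT1), (8, duumDuumT2)]

theorem duumDuum_ok : duumK.splitOK duumDuumL duumDuumGens duumDuumCls = true := by decide +kernel

theorem duumDuum_sizes : (duumDuumCls.map fun c =>
    (classList duumK.ix.n fun i => decide (duumK.invsIx duumDuumL i = duumK.invsIx duumDuumL c.1)).length) = [1, 495, 792] := by
  decide +kernel

/-- part 0 of duumDuumU0 -/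
def duumDuumU0_0 : List (ℕ × ℕ × ℕ) := [
   (1, 0, 0), (1267, 0, 0), (720, 0, 0), (342, 0, 0), (343, 0, 0), (46, 0, 0), (10, 0, 0),
   (565, 0, 0), (210, 0, 0), (492, 0, 0), (482, 0, 0), (557, 0, 0), (416, 0, 0), (310, 0, 0),
   (787, 0, 0), (4, 0, 0), (1279, 0, 0), (510, 0, 0), (675, 0, 0), (1238, 0, 0), (679, 0, 0),
   (18, 0, 0), (1153, 1, 0), (1168, 0, 0), (1206, 0, 0), (536, 0, 0), (1086, 0, 0), (538, 0, 0),
   (344, 0, 0), (1229, 0, 0), (450, 0, 0), (923, 0, 0), (604, 0, 0), (481, 0, 0), (1211, 0, 0),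
   (1046, 0, 0), (227, 0, 0), (1126, 0, 0), (192, 0, 0), (58, 0, 0), (1052, 0, 0), (156, 0, 0),
   (220, 0, 0), (776, 0, 0), (71, 0, 0), (1130, 1, 0), (880, 0, 0), (424, 0, 0), (76, 0, 0),
   (1243, 0, 0), (691, 0, 0), (512, 0, 0), (1286, 0, 0), (583, 0, 0), (724, 0, 0), (185, 0, 0),
   (380, 0, 0), (123, 0, 0), (963, 0, 0), (1039, 0, 0), (576, 0, 0), (45, 0, 0), (739, 0, 0),
   (1177, 0, 0), (333, 0, 0), (128, 0, 0), (667, 0, 0), (780, 0, 0), (931, 1, 0), (437, 0, 0),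
   (750, 0, 0), (426, 0, 0), (844, 0, 0), (644, 0, 0), (772, 0, 0), (163, 0, 0), (1150, 0, 0),
   (808, 0, 0), (75, 0, 0), (994, 0, 0), (743, 0, 0), (40, 0, 0), (1006, 0, 0), (151, 0, 0),
   (736, 0, 0), (134, 0, 0), (523, 0, 0), (591, 0, 0), (124, 0, 0), (442, 0, 0), (771, 0, 0),
   (429, 1, 0), (176, 0, 0), (65, 0, 0), (249, 0, 0), (521, 0, 0), (1183, 0, 0), (775, 0, 0),
   (364, 0, 0), (1115, 0, 0), (729, 0, 0), (884, 0, 0), (104, 0, 0), (1095, 0, 0), (488, 0, 0),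
   (580, 0, 0), (807, 0, 0), (1278, 0, 0), (311, 0, 0), (715, 0, 0), (1283, 0, 0), (286, 0, 0),
   (903, 0, 0), (350, 0, 0), (655, 1, 0), (683, 0, 0), (35, 0, 0), (1133, 0, 0), (1015, 0, 0),
   (479, 0, 0), (7, 0, 0), (376, 0, 0), (205, 0, 0), (171, 0, 0), (930, 0, 0), (989, 0, 0),
   (68, 0, 0), (452, 0, 0), (561, 0, 0), (1242, 0, 0), (187, 0, 0), (1221, 0, 0), (761, 0, 0),
   (1152, 0, 0), (623, 0, 0), (763, 0, 0), (1004, 0, 0), (696, 2, 0), (117, 0, 0), (37, 0, 0),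
   (949, 0, 0), (1058, 0, 0), (396, 0, 0), (958, 0, 0), (1227, 0, 0), (581, 0, 0), (620, 0, 0),
   (658, 0, 0), (335, 0, 0), (668, 0, 0)]

/-- part 1 of duumDuumU0 -/
def duumDuumU0_1 : List (ℕ × ℕ × ℕ) := [
   (627, 0, 0), (677, 0, 0), (520, 0, 0), (33, 0, 0), (85, 0, 0), (340, 0, 0), (184, 0, 0),
   (5, 0, 0), (78, 0, 0), (1164, 0, 0), (191, 1, 0), (356, 0, 0), (1094, 0, 0), (626, 0, 0),
   (571, 0, 0), (1174, 0, 0), (57, 0, 0), (1197, 0, 0), (1061, 0, 0), (774, 0, 0), (1067, 0, 0),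
   (493, 0, 0), (828, 0, 0), (1207, 0, 0), (262, 0, 0), (312, 0, 0), (1019, 0, 0), (1261, 0, 0),
   (494, 0, 0), (1217, 0, 0), (254, 0, 0), (441, 0, 0), (148, 0, 0), (803, 1, 0), (63, 0, 0),
   (228, 0, 0), (846, 0, 0), (240, 0, 0), (537, 0, 0), (713, 0, 0), (588, 0, 0), (204, 0, 0),
   (922, 0, 0), (194, 0, 0), (935, 0, 0), (417, 0, 0), (606, 0, 0), (831, 0, 0), (562, 0, 0),
   (992, 0, 0), (235, 0, 0), (686, 0, 0), (1099, 0, 0), (897, 0, 0), (610, 0, 0), (932, 0, 0),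
   (1030, 1, 0), (80, 0, 0), (1282, 0, 0), (435, 0, 0), (849, 0, 0), (428, 0, 0), (1202, 0, 0),
   (759, 0, 0), (402, 0, 0), (513, 0, 0), (961, 0, 0), (534, 0, 0), (1189, 0, 0), (544, 0, 0),
   (309, 0, 0), (135, 0, 0), (730, 0, 0), (1228, 0, 0), (154, 0, 0), (879, 0, 0), (125, 0, 0),
   (120, 0, 0), (819, 0, 0), (500, 1, 0), (153, 0, 0), (414, 0, 0), (826, 0, 0), (149, 0, 0),
   (585, 0, 0), (400, 0, 0), (882, 0, 0), (275, 0, 0), (114, 0, 0), (1185, 0, 0), (270, 0, 0),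
   (1079, 0, 0), (1001, 0, 0), (316, 0, 0), (495, 0, 0), (866, 0, 0), (301, 0, 0), (304, 0, 0),
   (499, 0, 0), (447, 0, 0), (366, 0, 0), (1246, 0, 0), (1132, 1, 0), (219, 0, 0), (1143, 0, 0),
   (29, 0, 0), (945, 0, 0), (851, 0, 0), (790, 0, 0), (552, 0, 0), (1257, 0, 0), (412, 0, 0),
   (285, 0, 0), (346, 0, 0), (1020, 0, 0), (457, 0, 0), (1128, 0, 0), (707, 0, 0), (711, 0, 0),
   (900, 0, 0), (896, 0, 0), (1102, 0, 0), (198, 0, 0), (1277, 0, 0), (980, 0, 0), (856, 1, 0),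
   (1231, 0, 0), (766, 0, 0), (236, 0, 0), (50, 0, 0), (471, 0, 0), (1005, 0, 0), (250, 0, 0),
   (731, 0, 0), (533, 0, 0), (797, 0, 0), (957, 0, 0), (489, 0, 0), (326, 0, 0), (594, 0, 0),
   (497, 0, 0), (749, 0, 0), (297, 0, 0), (339, 0, 0), (908, 0, 0), (727, 0, 0), (26, 0, 0),
   (845, 0, 0), (503, 1, 0), (656, 0, 0)]

/-- part 2 of duumDuumU0 -/
def duumDuumU0_2 : List (ℕ × ℕ × ℕ) := [
   (371, 0, 0), (723, 0, 0), (907, 0, 0), (1009, 0, 0), (67, 0, 0), (1264, 0, 0), (1175, 0, 0),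
   (843, 0, 0), (778, 0, 0), (89, 0, 0), (189, 0, 0), (226, 0, 0), (72, 0, 0), (888, 0, 0),
   (613, 0, 0), (1050, 0, 0), (382, 0, 0), (1156, 0, 0), (273, 0, 0), (986, 0, 0), (578, 0, 0),
   (735, 1, 0), (1241, 0, 0), (1171, 0, 0), (563, 0, 0), (1230, 0, 0), (1154, 0, 0), (188, 0, 0),
   (547, 0, 0), (116, 0, 0), (1078, 0, 0), (264, 0, 0), (964, 0, 0), (393, 0, 0), (1180, 0, 0),
   (144, 0, 0), (1083, 0, 0), (1041, 0, 0), (1076, 0, 0), (680, 0, 0), (1181, 0, 0), (465, 0, 0),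
   (1037, 0, 0), (933, 0, 0), (122, 2, 0), (313, 0, 0), (411, 0, 0), (662, 0, 0), (392, 0, 0),
   (894, 0, 0), (96, 0, 0), (892, 0, 0), (694, 0, 0), (988, 0, 0), (672, 0, 0), (1157, 0, 0),
   (670, 0, 0), (943, 0, 0), (2, 0, 0), (146, 0, 0), (32, 0, 0), (362, 0, 0), (977, 0, 0),
   (689, 0, 0), (959, 0, 0), (859, 0, 0), (531, 0, 0), (891, 1, 0), (592, 0, 0), (295, 0, 0),
   (692, 0, 0), (216, 0, 0), (1268, 0, 0), (23, 0, 0), (1059, 0, 0), (467, 0, 0), (394, 0, 0),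
   (201, 0, 0), (839, 0, 0), (941, 0, 0), (1033, 0, 0), (838, 0, 0), (629, 0, 0), (359, 0, 0),
   (1178, 0, 0), (632, 0, 0), (82, 0, 0), (109, 0, 0), (1118, 0, 0), (872, 0, 0), (722, 2, 0),
   (1172, 0, 0), (1055, 0, 0), (545, 0, 0), (967, 0, 0), (779, 0, 0), (829, 0, 0), (924, 0, 0),
   (308, 0, 0), (431, 0, 0), (682, 0, 0), (703, 0, 0), (506, 0, 0), (1135, 0, 0), (115, 0, 0),
   (199, 0, 0), (956, 0, 0), (937, 0, 0), (1000, 0, 0), (570, 0, 0), (909, 0, 0), (17, 0, 0),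
   (758, 0, 0), (207, 2, 0), (631, 0, 0), (473, 0, 0), (158, 0, 0), (985, 0, 0), (1196, 0, 0),
   (1127, 0, 0), (584, 0, 0), (21, 0, 0), (926, 0, 0), (505, 0, 0), (476, 0, 0), (762, 0, 0),
   (259, 0, 0), (1252, 0, 0), (786, 0, 0), (378, 0, 0), (1253, 0, 0), (278, 0, 0), (1017, 0, 0),
   (832, 0, 0), (688, 0, 0), (315, 0, 0), (788, 1, 0), (1218, 0, 0), (657, 0, 0), (490, 0, 0),
   (640, 0, 0), (550, 0, 0), (282, 0, 0), (1084, 0, 0), (391, 0, 0), (352, 0, 0), (789, 0, 0),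
   (865, 0, 0), (619, 0, 0), (257, 0, 0)]

/-- part 3 of duumDuumU0 -/
def duumDuumU0_3 : List (ℕ × ℕ × ℕ) := [
   (291, 0, 0), (92, 0, 0), (272, 0, 0), (1255, 0, 0), (529, 0, 0), (290, 0, 0), (306, 0, 0),
   (277, 0, 0), (737, 0, 0), (706, 2, 0), (1107, 0, 0), (511, 0, 0), (64, 0, 0), (548, 0, 0),
   (804, 0, 0), (360, 0, 0), (180, 0, 0), (1265, 0, 0), (595, 0, 0), (105, 0, 0), (697, 0, 0),
   (440, 0, 0), (3, 0, 0), (1142, 0, 0), (714, 0, 0), (302, 0, 0), (971, 0, 0), (1129, 0, 0),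
   (347, 0, 0), (27, 0, 0), (1125, 0, 0), (902, 0, 0), (647, 2, 0), (852, 0, 0), (1166, 0, 0),
   (596, 0, 0), (813, 0, 0), (55, 0, 0), (357, 0, 0), (337, 0, 0), (1284, 0, 0), (663, 0, 0),
   (858, 0, 0), (211, 0, 0), (77, 0, 0), (432, 0, 0), (54, 0, 0), (59, 0, 0), (381, 0, 0),
   (796, 0, 0), (319, 0, 0), (1119, 0, 0), (225, 0, 0), (247, 0, 0), (645, 0, 0), (1237, 1, 0),
   (575, 0, 0), (690, 0, 0), (14, 0, 0), (1269, 0, 0), (669, 0, 0), (331, 0, 0), (721, 0, 0),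
   (47, 0, 0), (387, 0, 0), (519, 0, 0), (349, 0, 0), (133, 0, 0), (224, 0, 0), (543, 0, 0),
   (603, 0, 0), (87, 0, 0), (1169, 0, 0), (921, 0, 0), (586, 0, 0), (890, 0, 0), (178, 0, 0),
   (248, 0, 0), (1003, 1, 0), (474, 0, 0), (455, 0, 0), (942, 0, 0), (752, 0, 0), (794, 0, 0),
   (152, 0, 0), (12, 0, 0), (782, 0, 0), (641, 0, 0), (229, 0, 0), (328, 0, 0), (893, 0, 0),
   (39, 0, 0), (256, 0, 0), (800, 0, 0), (835, 0, 0), (485, 0, 0), (365, 0, 0), (812, 0, 0),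
   (681, 0, 0), (1081, 0, 0), (460, 0, 0), (307, 1, 0), (1244, 0, 0), (42, 0, 0), (1214, 0, 0),
   (1215, 0, 0), (231, 0, 0), (927, 0, 0), (1108, 0, 0), (1096, 0, 0), (700, 0, 0), (605, 0, 0),
   (1131, 0, 0), (516, 0, 0), (1101, 0, 0), (590, 0, 0), (1247, 0, 0), (1114, 0, 0), (799, 0, 0),
   (475, 0, 0), (1151, 0, 0), (305, 0, 0), (810, 0, 0), (1123, 0, 0), (817, 4, 0), (177, 0, 0),
   (361, 0, 0), (296, 0, 0), (41, 0, 0), (864, 0, 0), (1173, 0, 0), (375, 0, 0), (1233, 0, 0),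
   (870, 0, 0), (1112, 0, 0), (979, 0, 0), (480, 0, 0), (860, 0, 0), (1090, 0, 0), (370, 0, 0),
   (793, 0, 0), (448, 0, 0), (48, 0, 0), (1276, 0, 0), (292, 0, 0), (508, 0, 0), (318, 0, 0),
   (638, 3, 0), (769, 0, 0), (384, 0, 0)]

/-- part 4 of duumDuumU0 -/
def duumDuumU0_4 : List (ℕ × ℕ × ℕ) := [
   (19, 0, 0), (390, 0, 0), (34, 0, 0), (833, 0, 0), (1063, 0, 0), (271, 0, 0), (353, 0, 0),
   (280, 0, 0), (217, 0, 0), (143, 0, 0), (708, 0, 0), (1085, 0, 0), (853, 0, 0), (1022, 0, 0),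
   (760, 0, 0), (454, 0, 0), (1281, 0, 0), (701, 0, 0), (1287, 0, 0), (507, 0, 0), (1235, 1, 0),
   (746, 0, 0), (1116, 0, 0), (1011, 0, 0), (929, 0, 0), (660, 0, 0), (756, 0, 0), (206, 0, 0),
   (564, 0, 0), (886, 0, 0), (1117, 0, 0), (421, 0, 0), (196, 0, 0), (574, 0, 0), (1091, 0, 0),
   (52, 0, 0), (837, 0, 0), (332, 0, 0), (404, 0, 0), (733, 0, 0), (281, 0, 0), (514, 0, 0),
   (95, 0, 0), (336, 1, 0), (621, 0, 0), (1260, 0, 0), (976, 0, 0), (560, 0, 0), (279, 0, 0),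
   (881, 0, 0), (795, 0, 0), (768, 0, 0), (742, 0, 0), (693, 0, 0), (284, 0, 0), (31, 0, 0),
   (1071, 0, 0), (334, 0, 0), (792, 0, 0), (1263, 0, 0), (699, 0, 0), (802, 0, 0), (676, 0, 0),
   (876, 0, 0), (725, 0, 0), (598, 0, 0), (624, 1, 0), (1201, 0, 0), (559, 0, 0), (132, 0, 0),
   (873, 0, 0), (1234, 0, 0), (546, 0, 0), (438, 0, 0), (1031, 0, 0), (472, 0, 0), (1258, 0, 0),
   (299, 0, 0), (1170, 0, 0), (172, 0, 0), (1193, 0, 0), (946, 0, 0), (539, 0, 0), (90, 0, 0),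
   (129, 0, 0), (1251, 0, 0), (136, 0, 0), (1010, 0, 0), (1192, 0, 0), (175, 4, 0), (674, 0, 0),
   (982, 0, 0), (639, 0, 0), (867, 0, 0), (974, 0, 0), (944, 0, 0), (397, 0, 0), (98, 0, 0),
   (525, 0, 0), (16, 0, 0), (1042, 0, 0), (678, 0, 0), (726, 0, 0), (717, 0, 0), (113, 0, 0),
   (975, 0, 0), (925, 0, 0), (968, 0, 0), (1147, 0, 0), (785, 0, 0), (1053, 0, 0), (653, 0, 0),
   (209, 2, 0), (939, 0, 0), (1139, 0, 0), (530, 0, 0), (984, 0, 0), (953, 0, 0), (174, 0, 0),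
   (1072, 0, 0), (938, 0, 0), (147, 0, 0), (1191, 0, 0), (1035, 0, 0), (955, 0, 0), (634, 0, 0),
   (317, 0, 0), (102, 0, 0), (912, 0, 0), (445, 0, 0), (649, 0, 0), (243, 0, 0), (458, 0, 0),
   (643, 0, 0), (1140, 0, 0), (43, 2, 0), (232, 0, 0), (558, 0, 0), (427, 0, 0), (917, 0, 0),
   (712, 0, 0), (195, 0, 0), (161, 0, 0), (1047, 0, 0), (549, 0, 0), (1163, 0, 0), (406, 0, 0),
   (418, 0, 0), (966, 0, 0), (140, 0, 0)]

/-- part 5 of duumDuumU0 -/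
def duumDuumU0_5 : List (ℕ × ℕ × ℕ) := [
   (94, 0, 0), (997, 0, 0), (659, 0, 0), (635, 0, 0), (636, 0, 0), (150, 0, 0), (1016, 0, 0),
   (86, 0, 0), (101, 3, 0), (24, 0, 0), (51, 0, 0), (1137, 0, 0), (288, 0, 0), (190, 0, 0),
   (1077, 0, 0), (377, 0, 0), (528, 0, 0), (221, 0, 0), (1036, 0, 0), (1275, 0, 0), (666, 0, 0),
   (462, 0, 0), (463, 0, 0), (1146, 0, 0), (433, 0, 0), (374, 0, 0), (22, 0, 0), (167, 0, 0),
   (1134, 0, 0), (415, 0, 0), (1106, 0, 0), (44, 1, 0), (1044, 0, 0), (1219, 0, 0), (456, 0, 0),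
   (486, 0, 0), (70, 0, 0), (765, 0, 0), (1210, 0, 0), (740, 0, 0), (179, 0, 0), (1007, 0, 0),
   (551, 0, 0), (661, 0, 0), (1040, 0, 0), (162, 0, 0), (9, 0, 0), (1204, 0, 0), (854, 0, 0),
   (407, 0, 0), (118, 0, 0), (354, 0, 0), (991, 0, 0), (861, 0, 0), (108, 1, 0), (496, 0, 0),
   (230, 0, 0), (947, 0, 0), (244, 0, 0), (138, 0, 0), (601, 0, 0), (954, 0, 0), (568, 0, 0),
   (1021, 0, 0), (1148, 0, 0), (501, 0, 0), (767, 0, 0), (1048, 0, 0), (745, 0, 0), (498, 0, 0),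
   (379, 0, 0), (983, 0, 0), (324, 0, 0), (913, 0, 0), (1158, 0, 0), (1249, 0, 0), (303, 0, 0),
   (593, 1, 0), (612, 0, 0), (744, 0, 0), (338, 0, 0), (972, 0, 0), (628, 0, 0), (1074, 0, 0),
   (566, 0, 0), (532, 0, 0), (444, 0, 0), (267, 0, 0), (197, 0, 0), (320, 0, 0), (298, 0, 0),
   (906, 0, 0), (222, 0, 0), (754, 0, 0), (1245, 0, 0), (107, 0, 0), (103, 0, 0), (182, 0, 0),
   (1155, 0, 0), (599, 0, 0), (871, 3, 0), (806, 0, 0), (936, 0, 0), (265, 0, 0), (1186, 0, 0),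
   (998, 0, 0), (358, 0, 0), (914, 0, 0), (665, 0, 0), (642, 0, 0), (468, 0, 0), (857, 0, 0),
   (885, 0, 0), (814, 0, 0), (373, 0, 0), (403, 0, 0), (215, 0, 0), (999, 0, 0), (62, 0, 0),
   (868, 0, 0), (112, 0, 0), (300, 0, 0), (186, 0, 0), (573, 1, 1), (183, 0, 0), (747, 0, 0),
   (811, 0, 0), (1057, 0, 0), (1034, 0, 0), (322, 0, 0), (1285, 0, 0), (218, 0, 0), (466, 0, 0),
   (755, 0, 0), (889, 0, 0), (1179, 0, 0), (940, 0, 0), (773, 0, 0), (579, 0, 0), (1111, 0, 0),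
   (1250, 0, 0), (430, 0, 0), (1056, 0, 0), (753, 0, 0), (276, 0, 0), (805, 0, 0), (1280, 2, 0),
   (1097, 0, 0), (36, 0, 0), (1270, 0, 0)]

/-- part 6 of duumDuumU0 -/
def duumDuumU0_6 : List (ℕ × ℕ × ℕ) := [
   (1012, 0, 0), (165, 0, 0), (1262, 0, 0), (816, 0, 0), (569, 0, 0), (408, 0, 0), (439, 0, 0),
   (399, 0, 0), (1100, 0, 0), (1184, 0, 0), (650, 0, 0), (1032, 0, 0), (1136, 0, 0), (664, 0, 0),
   (239, 0, 0), (855, 0, 0), (25, 0, 0), (74, 0, 0), (208, 0, 0), (825, 1, 1), (469, 0, 0),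
   (535, 0, 0), (193, 0, 0), (1200, 0, 0), (369, 0, 0), (127, 0, 0), (1159, 0, 0), (130, 0, 0),
   (978, 0, 0), (88, 0, 0), (904, 0, 0), (877, 0, 0), (20, 0, 0), (1209, 0, 0), (459, 0, 0),
   (261, 0, 0), (1098, 0, 0), (355, 0, 0), (1240, 0, 0), (905, 0, 0), (517, 0, 0), (705, 0, 0),
   (702, 1, 1), (965, 0, 0), (461, 0, 0), (142, 0, 0), (1104, 0, 0), (314, 0, 0), (28, 0, 0),
   (625, 0, 0), (160, 0, 0), (1216, 0, 0), (553, 0, 0), (883, 0, 0), (996, 0, 0), (764, 0, 0),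
   (1259, 0, 0), (615, 0, 0), (1212, 0, 0), (385, 0, 0), (875, 0, 0), (1028, 0, 0), (554, 0, 0),
   (214, 0, 0), (269, 0, 0), (38, 3, 0), (1149, 0, 0), (110, 0, 0), (815, 0, 0), (916, 0, 0),
   (1087, 0, 0), (242, 0, 0), (389, 0, 0), (704, 0, 0), (91, 0, 0), (1167, 0, 0), (618, 0, 0),
   (556, 0, 0), (1014, 0, 0), (948, 0, 0), (684, 0, 0), (351, 0, 0), (1165, 0, 0), (911, 0, 0),
   (121, 0, 0), (609, 0, 0), (363, 0, 0), (106, 0, 0), (842, 1, 0), (1145, 0, 0), (137, 0, 0),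
   (422, 0, 0), (587, 0, 0), (526, 0, 0), (878, 0, 0), (401, 0, 0), (1239, 0, 0), (321, 0, 0),
   (616, 0, 0), (862, 0, 0), (341, 0, 0), (1088, 0, 0), (685, 0, 0), (97, 0, 0), (202, 0, 0),
   (56, 0, 0), (934, 0, 0), (1013, 0, 0), (1271, 0, 0), (732, 0, 0), (212, 0, 0), (53, 3, 0),
   (1075, 0, 0), (1054, 0, 0), (1222, 0, 0), (327, 0, 0), (698, 0, 0), (1161, 0, 0), (719, 0, 0),
   (1089, 0, 0), (1060, 0, 0), (145, 0, 0), (348, 0, 0), (409, 0, 0), (1162, 0, 0), (1023, 0, 0),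
   (1045, 0, 0), (869, 0, 0), (502, 0, 0), (252, 0, 0), (419, 0, 0), (1188, 0, 0), (1223, 0, 0),
   (951, 0, 0), (919, 1, 0), (901, 0, 0), (200, 0, 0), (470, 0, 0), (258, 0, 0), (981, 0, 0),
   (830, 0, 0), (169, 0, 0), (950, 0, 0), (372, 0, 0), (1027, 0, 0), (863, 0, 0), (910, 0, 0),
   (423, 0, 0), (710, 0, 0), (1187, 0, 0)]

/-- part 7 of duumDuumU0 -/
def duumDuumU0_7 : List (ℕ × ℕ × ℕ) := [
   (848, 0, 0), (993, 0, 0), (555, 0, 0), (734, 0, 0), (990, 0, 0), (1213, 0, 0), (8, 0, 0),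
   (395, 2, 0), (611, 0, 0), (577, 0, 0), (111, 0, 0), (617, 0, 0), (234, 0, 0), (1062, 0, 0),
   (1141, 0, 0), (1018, 0, 0), (255, 0, 0), (1160, 0, 0), (791, 0, 0), (251, 0, 0), (15, 0, 0),
   (1225, 0, 0), (673, 0, 0), (1254, 0, 0), (671, 0, 0), (1065, 0, 0), (1266, 0, 0), (1026, 0, 0),
   (386, 0, 0), (223, 0, 0), (687, 2, 2), (820, 0, 0), (850, 0, 0), (131, 0, 0), (1236, 0, 0),
   (1199, 0, 0), (49, 0, 0), (81, 0, 0), (970, 0, 0), (484, 0, 0), (1066, 0, 0), (79, 0, 0),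
   (784, 0, 0), (748, 0, 0), (614, 0, 0), (383, 0, 0), (1008, 0, 0), (1070, 0, 0), (633, 0, 0),
   (836, 0, 0), (847, 0, 0), (1038, 0, 0), (1198, 0, 0), (266, 6, 0), (898, 0, 0), (960, 0, 0),
   (238, 0, 0), (1226, 0, 0), (66, 0, 0), (654, 0, 0), (567, 0, 0), (718, 0, 0), (1110, 0, 0),
   (293, 0, 0), (1105, 0, 0), (962, 0, 0), (757, 0, 0), (527, 0, 0), (518, 0, 0), (1082, 0, 0),
   (781, 0, 0), (325, 0, 0), (181, 0, 0), (449, 0, 0), (1208, 0, 0), (646, 0, 0), (100, 1, 0),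
   (405, 0, 0), (13, 0, 0), (1002, 0, 0), (637, 0, 0), (446, 0, 0), (1064, 0, 0), (651, 0, 0),
   (398, 0, 0), (509, 0, 0), (572, 0, 0), (597, 0, 0), (695, 0, 0), (1256, 0, 0), (716, 0, 0),
   (973, 0, 0), (330, 0, 0), (1025, 0, 0), (11, 0, 0), (173, 0, 0), (164, 0, 0), (253, 0, 0),
   (119, 0, 0), (987, 1, 1), (1068, 0, 0), (1120, 0, 0), (93, 0, 0), (1248, 0, 0), (622, 0, 0),
   (157, 0, 0), (287, 0, 0), (582, 0, 0), (1029, 0, 0), (233, 0, 0), (166, 0, 0), (477, 0, 0),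
   (1049, 0, 0), (1051, 0, 0), (451, 0, 0), (170, 0, 0), (1272, 0, 0), (420, 0, 0), (899, 0, 0),
   (1182, 0, 0), (1144, 0, 0), (413, 0, 0), (1043, 2, 0), (60, 0, 0), (6, 0, 0), (841, 0, 0),
   (464, 0, 0), (777, 0, 0), (483, 0, 0), (237, 0, 0), (368, 0, 0), (425, 0, 0), (1124, 0, 0),
   (602, 0, 0), (1274, 0, 0), (522, 0, 0), (895, 0, 0), (821, 0, 0), (245, 0, 0), (783, 0, 0),
   (1273, 0, 0), (874, 0, 0), (203, 0, 0), (1205, 0, 0), (241, 0, 0), (1121, 1, 0), (824, 0, 0),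
   (648, 0, 0), (540, 0, 0), (504, 0, 0)]

/-- part 8 of duumDuumU0 -/
def duumDuumU0_8 : List (ℕ × ℕ × ℕ) := [
   (83, 0, 0), (809, 0, 0), (491, 0, 0), (952, 0, 0), (1203, 0, 0), (388, 0, 0), (1080, 0, 0),
   (139, 0, 0), (969, 0, 0), (260, 0, 0), (99, 0, 0), (1024, 0, 0), (738, 0, 0), (915, 0, 0),
   (289, 0, 0), (600, 0, 0), (323, 0, 0), (1176, 0, 0), (1220, 4, 8), (159, 0, 0), (436, 0, 0),
   (541, 0, 0), (1109, 0, 0), (818, 0, 0), (751, 0, 0), (126, 0, 0), (798, 0, 0), (84, 0, 0),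
   (1113, 0, 0), (443, 0, 0), (1138, 0, 0), (887, 0, 0), (294, 0, 0), (1092, 0, 0), (168, 0, 0),
   (834, 0, 0), (367, 0, 0), (995, 0, 0), (453, 0, 0), (630, 0, 0), (61, 0, 0), (69, 5, 5),
   (155, 0, 0), (515, 0, 0), (822, 0, 0), (542, 0, 0), (827, 0, 0), (770, 0, 0), (1195, 0, 0),
   (487, 0, 0), (1194, 0, 0), (73, 0, 0), (1232, 0, 0), (652, 0, 0), (918, 0, 0), (30, 0, 0),
   (928, 0, 0), (283, 0, 0), (709, 0, 0), (345, 0, 0), (213, 0, 0), (1122, 0, 0), (1103, 0, 0),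
   (608, 0, 0), (1073, 3, 0), (920, 0, 0), (1190, 0, 0), (246, 0, 0), (263, 0, 0), (607, 0, 0),
   (1069, 0, 0), (840, 0, 0), (141, 0, 0), (823, 0, 0), (268, 0, 0), (589, 0, 0), (274, 0, 0),
   (434, 0, 0), (1224, 0, 0), (478, 0, 0), (741, 0, 0), (1093, 0, 0), (329, 0, 0), (524, 0, 0),
   (728, 0, 0), (410, 0, 0), (801, 0, 0)]

/-- tree duumDuumU0 -/
def duumDuumU0 : List (ℕ × ℕ × ℕ) :=
  duumDuumU0_0 ++ duumDuumU0_1 ++ duumDuumU0_2 ++ duumDuumU0_3 ++ duumDuumU0_4 ++ duumDuumU0_5 ++ duumDuumU0_6 ++ duumDuumU0_7 ++ duumDuumU0_8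

/-- part 0 of duumDuumU1 -/
def duumDuumU1_0 : List (ℕ × ℕ × ℕ) := [
   (8, 0, 0), (584, 0, 0), (457, 0, 0), (1111, 0, 0), (294, 0, 0), (555, 0, 0), (585, 0, 0),
   (737, 0, 0), (279, 0, 0), (990, 0, 0), (1138, 0, 0), (174, 1, 0), (637, 0, 0), (651, 0, 0),
   (1068, 0, 0), (652, 0, 0), (658, 0, 0), (874, 0, 0), (669, 0, 0), (1249, 0, 0), (412, 0, 0),
   (613, 0, 0), (1257, 0, 0), (49, 1, 0), (536, 0, 0), (552, 0, 0), (1134, 0, 0), (277, 0, 0),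
   (324, 0, 0), (580, 0, 0), (43, 0, 0), (677, 0, 0), (973, 0, 0), (501, 0, 0), (1162, 0, 0),
   (171, 1, 0), (243, 0, 0), (233, 0, 0), (351, 0, 0), (373, 0, 0), (1084, 0, 0), (181, 0, 0),
   (204, 0, 0), (219, 0, 0), (360, 0, 0), (338, 0, 0), (1072, 0, 0), (347, 1, 0), (369, 0, 0),
   (1244, 0, 0), (207, 0, 0), (222, 0, 0), (648, 0, 0), (410, 0, 0), (1061, 0, 0), (603, 0, 0),
   (193, 0, 0), (877, 0, 0), (1275, 0, 0), (164, 1, 0), (179, 0, 0), (413, 0, 0), (415, 0, 0),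
   (1029, 0, 0), (234, 0, 0), (190, 0, 0), (177, 0, 0), (391, 0, 0), (386, 0, 0), (1032, 0, 0),
   (214, 0, 0), (42, 1, 0), (529, 0, 0), (520, 0, 0), (1105, 0, 0), (263, 0, 0), (308, 0, 0),
   (587, 0, 0), (51, 0, 0), (705, 0, 0), (941, 0, 0), (488, 0, 0), (1151, 0, 0), (5, 1, 0),
   (274, 0, 0), (322, 0, 0), (463, 0, 0), (24, 0, 0), (684, 0, 0), (1198, 0, 0), (451, 0, 0),
   (449, 0, 0), (974, 0, 0), (517, 0, 0), (1233, 0, 0), (539, 1, 0), (553, 0, 0), (1226, 0, 0),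
   (298, 0, 0), (331, 0, 0), (300, 0, 0), (6, 0, 0), (32, 0, 0), (52, 0, 0), (475, 0, 0),
   (464, 0, 0), (1144, 0, 0), (224, 2, 0), (138, 0, 0), (212, 0, 0), (414, 0, 0), (149, 0, 0),
   (1069, 0, 0), (873, 0, 0), (831, 0, 0), (192, 0, 0), (1016, 0, 0), (838, 0, 0), (1043, 0, 0),
   (421, 1, 0), (361, 0, 0), (867, 0, 0), (161, 0, 0), (863, 0, 0), (1023, 0, 0), (382, 0, 0),
   (346, 0, 0), (878, 0, 0), (197, 0, 0), (880, 0, 0), (1034, 0, 0), (395, 1, 0), (232, 0, 0),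
   (836, 0, 0), (850, 0, 0), (422, 0, 0), (824, 0, 0), (359, 0, 0), (864, 0, 0), (143, 0, 0),
   (933, 0, 0), (1010, 0, 0), (134, 0, 0), (384, 1, 0), (352, 0, 0), (813, 0, 0), (217, 0, 0),
   (888, 0, 0), (802, 0, 0), (370, 0, 0)]

/-- part 1 of duumDuumU1 -/
def duumDuumU1_1 : List (ℕ × ℕ × ℕ) := [
   (1080, 0, 0), (119, 0, 0), (183, 0, 0), (208, 0, 0), (110, 0, 0), (341, 1, 0), (601, 0, 0),
   (839, 0, 0), (200, 0, 0), (1282, 0, 0), (760, 0, 0), (1046, 0, 0), (643, 0, 0), (99, 0, 0),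
   (848, 0, 0), (1258, 0, 0), (115, 0, 0), (401, 1, 0), (623, 0, 0), (1091, 0, 0), (238, 0, 0),
   (635, 0, 0), (216, 0, 0), (1028, 0, 0), (1256, 0, 0), (1017, 0, 0), (859, 0, 0), (1265, 0, 0),
   (188, 0, 0), (194, 1, 0), (656, 0, 0), (156, 0, 0), (1012, 0, 0), (1276, 0, 0), (834, 0, 0),
   (854, 0, 0), (617, 0, 0), (799, 0, 0), (372, 0, 0), (1246, 0, 0), (92, 0, 0), (538, 1, 0),
   (487, 0, 0), (1205, 0, 0), (311, 0, 0), (589, 0, 0), (256, 0, 0), (734, 0, 0), (952, 0, 0),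
   (35, 0, 0), (1115, 0, 0), (681, 0, 0), (1147, 0, 0), (201, 1, 0), (152, 0, 0), (377, 0, 0),
   (390, 0, 0), (805, 0, 0), (175, 0, 0), (894, 0, 0), (840, 0, 0), (378, 0, 0), (1042, 0, 0),
   (111, 0, 0), (226, 0, 0), (64, 1, 0), (39, 0, 0), (527, 0, 0), (498, 0, 0), (1160, 0, 0),
   (254, 0, 0), (563, 0, 0), (541, 0, 0), (695, 0, 0), (320, 0, 0), (962, 0, 0), (1104, 0, 0),
   (358, 2, 0), (663, 0, 0), (1280, 0, 0), (231, 0, 0), (671, 0, 0), (641, 0, 0), (1026, 0, 0),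
   (628, 0, 0), (616, 0, 0), (910, 0, 0), (639, 0, 0), (1287, 0, 0), (275, 2, 0), (1186, 0, 0),
   (942, 0, 0), (692, 0, 0), (326, 0, 0), (719, 0, 0), (1159, 0, 0), (55, 0, 0), (478, 0, 0),
   (579, 0, 0), (1127, 0, 0), (550, 0, 0), (496, 1, 0), (699, 0, 0), (544, 0, 0), (1168, 0, 0),
   (470, 0, 0), (269, 0, 0), (998, 0, 0), (1180, 0, 0), (38, 0, 0), (28, 0, 0), (297, 0, 0),
   (493, 0, 0), (106, 1, 0), (798, 0, 0), (812, 0, 0), (472, 1, 0), (1108, 0, 0), (581, 0, 0),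
   (592, 0, 0), (1201, 0, 0), (257, 0, 0), (248, 0, 0), (258, 0, 0), (48, 0, 0), (3, 0, 0),
   (4, 0, 0), (433, 0, 0), (137, 1, 0), (1078, 0, 0), (841, 0, 0), (797, 0, 0), (167, 0, 0),
   (793, 0, 0), (781, 0, 0), (399, 0, 0), (796, 0, 0), (150, 0, 0), (882, 0, 0), (837, 0, 0),
   (15, 2, 0), (266, 0, 0), (314, 0, 0), (429, 0, 0), (1, 0, 0), (694, 0, 0), (1184, 0, 0),
   (443, 0, 0), (441, 0, 0), (944, 0, 0)]

/-- part 2 of duumDuumU1 -/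
def duumDuumU1_2 : List (ℕ × ℕ × ℕ) := [
   (551, 0, 0), (1224, 0, 0), (912, 3, 0), (789, 0, 0), (97, 0, 0), (1037, 0, 0), (762, 0, 0),
   (846, 0, 0), (230, 0, 0), (833, 0, 0), (835, 0, 0), (348, 0, 0), (809, 0, 0), (108, 0, 0),
   (343, 1, 0), (770, 0, 0), (389, 0, 0), (914, 0, 0), (87, 0, 0), (884, 0, 0), (1088, 0, 0),
   (80, 0, 0), (363, 0, 0), (180, 0, 0), (783, 0, 0), (902, 0, 0), (1041, 1, 0), (1063, 0, 0),
   (1077, 0, 0), (883, 0, 0), (858, 0, 0), (225, 0, 0), (1018, 0, 0), (1089, 0, 0), (1079, 0, 0),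
   (862, 0, 0), (886, 0, 0), (227, 0, 0), (62, 1, 0), (1216, 0, 0), (965, 0, 0), (1101, 0, 0),
   (267, 0, 0), (25, 0, 0), (519, 0, 0), (67, 0, 0), (1126, 0, 0), (982, 0, 0), (1117, 0, 0),
   (515, 0, 0), (18, 2, 0), (460, 0, 0), (511, 0, 0), (1132, 0, 0), (583, 0, 0), (568, 0, 0),
   (1183, 0, 0), (282, 0, 0), (291, 0, 0), (285, 0, 0), (46, 0, 0), (22, 0, 0), (17, 1, 0),
   (570, 0, 0), (599, 0, 0), (1140, 0, 0), (317, 0, 0), (270, 0, 0), (525, 0, 0), (19, 0, 0),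
   (715, 0, 0), (979, 0, 0), (448, 0, 0), (1118, 0, 0), (40, 1, 0), (507, 0, 0), (588, 0, 0),
   (1114, 0, 0), (518, 0, 0), (265, 0, 0), (1200, 0, 0), (972, 0, 0), (686, 0, 0), (310, 0, 0),
   (753, 0, 0), (1153, 0, 0), (195, 1, 0), (368, 0, 0), (242, 0, 0), (1092, 0, 0), (900, 0, 0),
   (1050, 0, 0), (163, 0, 0), (339, 0, 0), (209, 0, 0), (1062, 0, 0), (931, 0, 0), (1014, 0, 0),
   (976, 2, 0), (516, 0, 0), (1100, 0, 0), (65, 0, 0), (289, 0, 0), (598, 0, 0), (509, 0, 0),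
   (756, 0, 0), (299, 0, 0), (1172, 0, 0), (1167, 0, 0), (674, 0, 0), (1055, 3, 0), (1268, 0, 0),
   (895, 0, 0), (861, 0, 0), (644, 0, 0), (1076, 0, 0), (375, 0, 0), (636, 0, 0), (893, 0, 0),
   (235, 0, 0), (1271, 0, 0), (1030, 0, 0), (832, 2, 0), (349, 0, 0), (879, 0, 0), (128, 0, 0),
   (897, 0, 0), (1052, 0, 0), (141, 0, 0), (404, 0, 0), (220, 0, 0), (822, 0, 0), (889, 0, 0),
   (381, 0, 0), (444, 1, 0), (284, 0, 0), (1129, 0, 0), (1178, 0, 0), (712, 0, 0), (1221, 0, 0),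
   (271, 0, 0), (504, 0, 0), (280, 0, 0), (701, 0, 0), (1211, 0, 0), (60, 0, 0), (1252, 1, 0),
   (168, 0, 0), (397, 0, 0), (626, 0, 0)]

/-- part 3 of duumDuumU1 -/
def duumDuumU1_3 : List (ℕ × ℕ × ℕ) := [
   (1065, 0, 0), (211, 0, 0), (612, 0, 0), (236, 0, 0), (1033, 0, 0), (1259, 0, 0), (1047, 0, 0),
   (885, 0, 0), (88, 1, 0), (642, 0, 0), (213, 0, 0), (761, 0, 0), (1278, 0, 0), (379, 0, 0),
   (136, 0, 0), (1242, 0, 0), (928, 0, 0), (806, 0, 0), (614, 0, 0), (1095, 0, 0), (988, 1, 0),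
   (456, 0, 0), (1236, 0, 0), (30, 0, 0), (567, 0, 0), (319, 0, 0), (1109, 0, 0), (969, 0, 0),
   (725, 0, 0), (557, 0, 0), (751, 0, 0), (495, 0, 0), (989, 3, 0), (569, 0, 0), (1164, 0, 0),
   (21, 0, 0), (303, 0, 0), (549, 0, 0), (432, 0, 0), (702, 0, 0), (283, 0, 0), (1219, 0, 0),
   (1106, 0, 0), (724, 0, 0), (683, 2, 0), (312, 0, 0), (955, 0, 0), (1133, 0, 0), (34, 0, 0),
   (53, 0, 0), (542, 0, 0), (491, 0, 0), (1155, 0, 0), (286, 0, 0), (595, 0, 0), (528, 0, 0),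
   (866, 1, 0), (142, 0, 0), (774, 0, 0), (1083, 0, 0), (118, 0, 0), (116, 0, 0), (182, 0, 0),
   (94, 0, 0), (130, 0, 0), (394, 0, 0), (74, 0, 0), (763, 0, 0), (736, 1, 0), (37, 0, 0),
   (726, 0, 0), (1130, 0, 0), (426, 0, 0), (480, 0, 0), (1231, 0, 0), (546, 0, 0), (591, 0, 0),
   (971, 0, 0), (295, 0, 0), (987, 0, 0), (696, 1, 0), (483, 0, 0), (1096, 0, 0), (459, 0, 0),
   (531, 0, 0), (1203, 0, 0), (524, 0, 0), (304, 0, 0), (981, 0, 0), (970, 0, 0), (12, 0, 0),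
   (723, 0, 0), (1027, 1, 0), (78, 0, 0), (102, 0, 0), (237, 0, 0), (127, 0, 0), (89, 0, 0),
   (357, 0, 0), (123, 0, 0), (842, 0, 0), (904, 0, 0), (81, 0, 0), (825, 0, 0), (512, 3, 0),
   (468, 0, 0), (999, 0, 0), (316, 0, 0), (1235, 0, 0), (697, 0, 0), (713, 0, 0), (293, 0, 0),
   (1120, 0, 0), (1156, 0, 0), (727, 0, 0), (1223, 0, 0), (26, 2, 0), (499, 0, 0), (334, 0, 0),
   (1154, 0, 0), (1214, 0, 0), (720, 0, 0), (1174, 0, 0), (325, 0, 0), (466, 0, 0), (313, 0, 0),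
   (757, 0, 0), (1204, 0, 0), (402, 1, 0), (423, 0, 0), (1286, 0, 0), (160, 0, 0), (187, 0, 0),
   (602, 0, 0), (355, 0, 0), (1009, 0, 0), (668, 0, 0), (247, 0, 0), (905, 0, 0), (1241, 0, 0),
   (689, 3, 0), (533, 0, 0), (1148, 0, 0), (434, 0, 0), (292, 0, 0), (1213, 0, 0), (1229, 0, 0),
   (690, 0, 0), (992, 0, 0), (307, 0, 0)]

/-- part 4 of duumDuumU1 -/
def duumDuumU1_4 : List (ℕ × ℕ × ℕ) := [
   (1137, 0, 0), (758, 0, 0), (785, 6, 0), (403, 0, 0), (767, 0, 0), (122, 0, 0), (860, 0, 0),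
   (819, 0, 0), (139, 0, 0), (1075, 0, 0), (815, 0, 0), (769, 0, 0), (189, 0, 0), (771, 0, 0),
   (1248, 2, 0), (782, 0, 0), (795, 0, 0), (611, 0, 0), (828, 0, 0), (125, 0, 0), (1209, 2, 0),
   (678, 0, 0), (1119, 0, 0), (305, 0, 0), (484, 0, 0), (523, 0, 0), (716, 0, 0), (547, 0, 0),
   (957, 0, 0), (431, 0, 0), (991, 0, 0), (20, 0, 0), (428, 3, 0), (1187, 0, 0), (437, 0, 0),
   (594, 0, 0), (1000, 0, 0), (540, 0, 0), (985, 0, 0), (50, 0, 0), (994, 0, 0), (676, 0, 0),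
   (452, 0, 0), (729, 0, 0), (1145, 2, 0), (474, 0, 0), (575, 0, 0), (1215, 0, 0), (577, 0, 0),
   (290, 0, 0), (943, 0, 0), (983, 0, 0), (54, 0, 0), (708, 0, 0), (742, 0, 0), (467, 0, 0),
   (329, 1, 0), (502, 0, 0), (548, 0, 0), (759, 0, 0), (521, 0, 0), (959, 0, 0), (458, 0, 0),
   (1003, 0, 0), (2, 0, 0), (1169, 0, 0), (700, 0, 0), (1122, 0, 0), (71, 4, 0), (436, 0, 0),
   (47, 0, 0), (1139, 0, 0), (1181, 0, 0), (1121, 0, 0), (1170, 0, 0), (993, 0, 0), (1193, 0, 0),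
   (249, 0, 0), (56, 0, 0), (318, 0, 0), (417, 1, 0), (645, 0, 0), (932, 0, 0), (172, 0, 0),
   (1245, 0, 0), (1070, 0, 0), (1013, 0, 0), (1274, 0, 0), (855, 0, 0), (921, 0, 0), (608, 0, 0),
   (1038, 0, 0), (203, 2, 0), (1262, 0, 0), (865, 0, 0), (1022, 0, 0), (633, 0, 0), (419, 0, 0),
   (891, 0, 0), (627, 0, 0), (920, 0, 0), (407, 0, 0), (1263, 0, 0), (336, 0, 0), (479, 4, 0),
   (465, 0, 0), (1199, 0, 0), (560, 0, 0), (537, 0, 0), (984, 0, 0), (253, 0, 0), (975, 0, 0),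
   (682, 0, 0), (27, 0, 0), (685, 0, 0), (1141, 0, 0), (1272, 1, 0), (191, 0, 0), (159, 0, 0),
   (653, 0, 0), (376, 0, 0), (786, 0, 0), (600, 0, 0), (857, 0, 0), (112, 0, 0), (1250, 0, 0),
   (1008, 0, 0), (830, 0, 0), (510, 6, 0), (1222, 0, 0), (494, 0, 0), (556, 0, 0), (951, 0, 0),
   (582, 0, 0), (977, 0, 0), (16, 0, 0), (958, 0, 0), (714, 0, 0), (486, 0, 0), (688, 0, 0),
   (278, 1, 0), (1188, 0, 0), (741, 0, 0), (721, 0, 0), (332, 0, 0), (1152, 0, 0), (1125, 0, 0),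
   (691, 0, 0), (1190, 0, 0), (596, 0, 0)]

/-- part 5 of duumDuumU1 -/
def duumDuumU1_5 : List (ℕ × ℕ × ℕ) := [
   (508, 0, 0), (954, 0, 0), (966, 4, 0), (63, 0, 0), (1124, 0, 0), (693, 0, 0), (1166, 0, 0),
   (530, 0, 0), (500, 0, 0), (1176, 0, 0), (321, 0, 0), (574, 0, 0), (287, 0, 0), (744, 0, 0),
   (634, 3, 0), (1260, 0, 0), (178, 0, 0), (610, 0, 0), (670, 0, 0), (1087, 0, 0), (666, 0, 0),
   (661, 0, 0), (870, 0, 0), (650, 0, 0), (1266, 0, 0), (388, 0, 0), (995, 4, 0), (673, 0, 0),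
   (565, 0, 0), (707, 0, 0), (438, 0, 0), (938, 0, 0), (489, 0, 0), (1208, 0, 0), (23, 0, 0),
   (514, 0, 0), (264, 0, 0), (1143, 0, 0), (461, 6, 0), (1195, 0, 0), (453, 0, 0), (564, 0, 0),
   (996, 0, 0), (526, 0, 0), (1006, 0, 0), (41, 0, 0), (1002, 0, 0), (703, 0, 0), (442, 0, 0),
   (745, 0, 0), (57, 2, 0), (1182, 0, 0), (1210, 0, 0), (1098, 0, 0), (961, 0, 0), (960, 0, 0),
   (572, 0, 0), (749, 0, 0), (69, 0, 0), (936, 0, 0), (1157, 0, 0), (447, 0, 0), (1011, 1, 0),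
   (1040, 0, 0), (922, 0, 0), (935, 0, 0), (169, 0, 0), (1081, 0, 0), (1051, 0, 0), (1021, 0, 0),
   (913, 0, 0), (898, 0, 0), (185, 0, 0), (1073, 0, 0), (398, 3, 0), (906, 0, 0), (239, 0, 0),
   (915, 0, 0), (1085, 0, 0), (342, 0, 0), (400, 0, 0), (927, 0, 0), (210, 0, 0), (916, 0, 0),
   (1067, 0, 0), (367, 0, 0), (679, 1, 0), (1239, 0, 0), (36, 0, 0), (446, 0, 0), (259, 0, 0),
   (1112, 0, 0), (1202, 0, 0), (672, 0, 0), (1237, 0, 0), (273, 0, 0), (481, 0, 0), (261, 0, 0),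
   (1251, 4, 0), (151, 0, 0), (659, 0, 0), (654, 0, 0), (816, 0, 0), (622, 0, 0), (1054, 4, 0),
   (1066, 0, 0), (807, 0, 0), (918, 0, 0), (202, 0, 0), (768, 0, 0), (1053, 0, 0), (365, 0, 0),
   (114, 0, 0), (871, 0, 0), (892, 0, 0), (79, 0, 0), (534, 1, 0), (1179, 0, 0), (543, 0, 0),
   (328, 0, 0), (1007, 0, 0), (945, 0, 0), (10, 0, 0), (750, 0, 0), (680, 0, 0), (506, 0, 0),
   (1136, 0, 0), (430, 0, 0), (566, 6, 0), (477, 0, 0), (967, 0, 0), (262, 0, 0), (1194, 0, 0),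
   (733, 0, 0), (754, 0, 0), (302, 0, 0), (1161, 0, 0), (1113, 0, 0), (687, 0, 0), (1196, 0, 0),
   (409, 1, 0), (109, 0, 0), (804, 0, 0), (875, 0, 0), (133, 0, 0), (791, 0, 0), (1071, 0, 0),
   (158, 0, 0), (157, 0, 0), (173, 0, 0)]

/-- part 6 of duumDuumU1 -/
def duumDuumU1_6 : List (ℕ × ℕ × ℕ) := [
   (85, 0, 0), (145, 0, 0), (1217, 3, 0), (717, 0, 0), (1163, 0, 0), (251, 0, 0), (450, 0, 0),
   (561, 0, 0), (706, 0, 0), (597, 0, 0), (1001, 0, 0), (473, 0, 0), (963, 0, 0), (66, 0, 0),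
   (68, 2, 0), (593, 0, 0), (315, 0, 0), (1131, 0, 0), (949, 0, 0), (752, 0, 0), (513, 0, 0),
   (722, 0, 0), (492, 0, 0), (1004, 0, 0), (435, 0, 0), (1220, 0, 0), (362, 3, 0), (845, 0, 0),
   (72, 0, 0), (919, 0, 0), (777, 0, 0), (84, 0, 0), (1020, 0, 0), (801, 0, 0), (810, 0, 0),
   (223, 0, 0), (823, 0, 0), (820, 0, 0), (1094, 3, 0), (788, 0, 0), (1074, 0, 0), (170, 0, 0),
   (82, 0, 0), (162, 0, 0), (337, 0, 0), (93, 0, 0), (1036, 0, 0), (923, 0, 0), (776, 0, 0),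
   (245, 0, 0), (255, 4, 0), (454, 0, 0), (455, 0, 0), (735, 0, 0), (586, 0, 0), (1238, 0, 0),
   (427, 0, 0), (323, 0, 0), (968, 0, 0), (1232, 0, 0), (7, 0, 0), (33, 0, 0), (344, 6, 0),
   (176, 0, 0), (787, 0, 0), (929, 0, 0), (366, 0, 0), (794, 0, 0), (411, 0, 0), (917, 0, 0),
   (90, 0, 0), (856, 0, 0), (1064, 0, 0), (101, 0, 0), (1058, 2, 0), (609, 0, 0), (132, 0, 0),
   (901, 0, 0), (1279, 0, 0), (75, 0, 0), (420, 0, 0), (649, 0, 0), (780, 0, 0), (241, 0, 0),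
   (1253, 0, 0), (811, 0, 0), (1255, 1, 1), (876, 0, 0), (1039, 0, 0), (618, 0, 0), (380, 0, 0),
   (851, 0, 0), (620, 0, 0), (911, 0, 0), (393, 0, 0), (1254, 0, 0), (371, 0, 0), (244, 0, 0),
   (1240, 1, 0), (772, 0, 0), (896, 0, 0), (662, 0, 0), (847, 0, 0), (385, 0, 0), (1270, 0, 0),
   (124, 0, 0), (246, 0, 0), (625, 0, 0), (113, 0, 0), (1090, 0, 0), (1082, 2, 1), (184, 0, 0),
   (95, 0, 0), (198, 0, 0), (374, 0, 0), (86, 0, 0), (1025, 0, 0), (908, 0, 0), (792, 0, 0),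
   (206, 0, 0), (1056, 0, 0), (778, 0, 0), (327, 6, 0), (1230, 0, 0), (978, 0, 0), (728, 0, 0),
   (272, 0, 0), (711, 0, 0), (1128, 0, 0), (11, 0, 0), (424, 0, 0), (545, 0, 0), (1158, 0, 0),
   (558, 0, 0), (166, 3, 0), (903, 0, 0), (869, 0, 0), (364, 0, 0), (1045, 0, 0), (356, 0, 0),
   (186, 0, 0), (930, 0, 0), (872, 0, 0), (345, 0, 0), (1015, 0, 0), (353, 0, 0), (120, 6, 3),
   (899, 3, 0), (117, 0, 0), (1048, 0, 0)]

/-- part 7 of duumDuumU1 -/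
def duumDuumU1_7 : List (ℕ × ℕ × ℕ) := [
   (1024, 0, 0), (800, 0, 0), (881, 0, 0), (196, 0, 0), (808, 0, 0), (1060, 0, 0), (405, 0, 0),
   (105, 0, 0), (909, 0, 0), (482, 4, 1), (58, 0, 0), (946, 0, 0), (1177, 0, 0), (606, 5, 2),
   (129, 0, 0), (790, 0, 0), (1269, 0, 0), (83, 0, 0), (140, 0, 0), (821, 1, 1), (647, 0, 0),
   (934, 0, 0), (154, 0, 0), (1283, 0, 0), (1059, 0, 0), (775, 0, 0), (1247, 0, 0), (205, 0, 0),
   (104, 0, 0), (629, 0, 0), (418, 0, 0), (522, 4, 0), (571, 0, 0), (947, 0, 0), (335, 0, 0),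
   (1005, 0, 0), (739, 0, 0), (59, 0, 0), (748, 0, 0), (1107, 0, 0), (469, 0, 0), (505, 0, 0),
   (1227, 0, 0), (103, 4, 0), (77, 0, 0), (215, 0, 0), (148, 0, 0), (91, 0, 0), (354, 0, 0),
   (153, 0, 0), (817, 0, 0), (926, 0, 0), (100, 0, 0), (829, 0, 0), (1031, 0, 0), (764, 1, 0),
   (665, 0, 0), (1281, 0, 0), (73, 0, 0), (615, 0, 0), (630, 0, 0), (1225, 6, 1), (13, 0, 0),
   (61, 0, 0), (288, 0, 0), (440, 0, 0), (439, 0, 0), (743, 0, 0), (578, 0, 0), (1218, 0, 0),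
   (462, 0, 0), (309, 0, 0), (953, 0, 0), (1135, 2, 1), (31, 0, 0), (250, 0, 0), (562, 0, 0),
   (476, 0, 0), (718, 0, 0), (333, 0, 0), (1207, 0, 0), (1142, 0, 0), (709, 0, 0), (940, 0, 0),
   (554, 0, 0), (1116, 5, 0), (497, 0, 0), (330, 0, 0), (1206, 0, 0), (1197, 0, 0), (731, 0, 0),
   (956, 0, 0), (276, 0, 0), (1165, 0, 0), (675, 0, 0), (732, 0, 0), (590, 0, 0), (252, 5, 1),
   (730, 0, 0), (755, 0, 0), (14, 0, 0), (1099, 0, 0), (1103, 0, 0), (1102, 0, 0), (1234, 0, 0),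
   (1173, 0, 0), (1189, 0, 0), (939, 0, 0), (986, 0, 0), (1150, 6, 0), (937, 0, 0), (1171, 0, 0),
   (535, 0, 0), (9, 0, 0), (950, 0, 0), (948, 0, 0), (425, 0, 0), (710, 0, 0), (44, 0, 0),
   (1192, 0, 0), (1110, 0, 0), (779, 6, 5), (1243, 0, 0), (98, 0, 0), (131, 0, 0), (640, 0, 0),
   (146, 0, 0), (296, 1, 1), (698, 0, 0), (997, 0, 0), (29, 0, 0), (1149, 0, 0), (738, 0, 0),
   (1097, 0, 0), (573, 0, 0), (445, 0, 0), (1212, 0, 0), (260, 0, 0), (532, 0, 0), (843, 1, 2),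
   (624, 0, 0), (1264, 0, 0), (121, 0, 0), (660, 0, 0), (667, 0, 0), (1086, 2, 0), (868, 0, 0),
   (827, 0, 0), (165, 0, 0), (1044, 0, 0)]

/-- part 8 of duumDuumU1 -/
def duumDuumU1_8 : List (ℕ × ℕ × ℕ) := [
   (818, 0, 0), (1019, 0, 0), (228, 0, 0), (135, 0, 0), (240, 0, 0), (387, 0, 0), (126, 0, 0),
   (559, 4, 1), (1191, 0, 0), (45, 0, 0), (306, 0, 0), (281, 0, 0), (471, 0, 0), (70, 0, 0),
   (740, 0, 0), (1228, 0, 0), (485, 0, 0), (503, 0, 0), (980, 0, 0), (852, 6, 6), (924, 0, 0),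
   (406, 0, 0), (1057, 0, 0), (408, 0, 0), (221, 0, 0), (890, 0, 0), (907, 0, 0), (396, 0, 0),
   (1093, 0, 0), (392, 0, 0), (229, 0, 0), (1285, 3, 7), (218, 0, 0), (646, 0, 0), (605, 0, 0),
   (1035, 0, 0), (619, 0, 0), (631, 0, 0), (925, 0, 0), (604, 0, 0), (1273, 0, 0), (350, 0, 0),
   (657, 0, 0), (655, 1, 1), (1284, 0, 0), (107, 0, 0), (632, 0, 0), (621, 0, 0), (803, 0, 0),
   (747, 2, 1), (964, 0, 0), (268, 0, 0), (1146, 0, 0), (704, 0, 0), (746, 0, 0), (576, 0, 0),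
   (1123, 0, 0), (490, 0, 0), (301, 0, 0), (1175, 0, 0), (1185, 0, 0), (826, 6, 4), (147, 0, 0),
   (1267, 0, 0), (784, 0, 0), (773, 0, 0), (638, 0, 0), (1049, 3, 4), (144, 0, 0), (607, 0, 0),
   (199, 0, 0), (814, 0, 0), (1261, 0, 0), (340, 0, 0), (96, 0, 0), (1277, 0, 0), (849, 0, 0),
   (766, 0, 0), (664, 0, 0), (765, 6, 6), (844, 0, 0), (76, 0, 0), (887, 1, 51), (383, 0, 0),
   (853, 0, 0), (416, 0, 0), (155, 2, 62)]

/-- tree duumDuumU1 -/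
def duumDuumU1 : List (ℕ × ℕ × ℕ) :=
  duumDuumU1_0 ++ duumDuumU1_1 ++ duumDuumU1_2 ++ duumDuumU1_3 ++ duumDuumU1_4 ++ duumDuumU1_5 ++ duumDuumU1_6 ++ duumDuumU1_7 ++ duumDuumU1_8

/-- enlargements -/
def duumDuumUp : List ((ℕ × ℕ) × List (ℕ × ℕ × ℕ)) :=
  [((87551893321887283366365293184594999, 0), duumDuumU0),
   ((5241979589122801502910327060453737, 0), duumDuumU1)]

theorem duumDuum_max : duumK.maxOK duumDuumL duumDuumGens 0 duumDuumCls duumDuumUp = true := by decide +kernel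

end CfsgLib.Spor
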