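import Cfsg.Agent.Lib.Spor.OrbitDuum

/-!
Certificate: orbits on indexed objects of kind ptK.
-/

set_option autoImplicit false
set_option maxRecDepth 100000

namespace CfsgLib.Spor

open Cfsg
open scoped Pointwise

/-- families fixed -/
def fivePtL : List (List ℕ) := [[1], [2], [4], [8], [16], [5279]]

/-- generators -/
def fivePtGens : List ℕ := [561475773312554808336860583768983584,
  380679813245078647833929983948064800,
  351355605056243205221527583111350304,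
  341050705022823791076430286248052768,
  260169027461259500880655131087046688,
  358662142733855540651195105552730144]

/-- part 0 of fivePtT0 -/
def fivePtT0_0 : List (ℕ × ℕ × ℕ) := [
]

/-- tree fivePtT0 -/
def fivePtT0 : List (ℕ × ℕ × ℕ) :=
  fivePtT0_0

/-- part 0 of fivePtT1 -/
def fivePtT1_0 : List (ℕ × ℕ × ℕ) := [
]

/-- tree fivePtT1 -/
def fivePtT1 : List (ℕ × ℕ × ℕ) :=
  fivePtT1_0

/-- part 0 of fivePtT2 -/
def fivePtT2_0 : List (ℕ × ℕ × ℕ) := [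
]

/-- tree fivePtT2 -/
def fivePtT2 : List (ℕ × ℕ × ℕ) :=
  fivePtT2_0

/-- part 0 of fivePtT3 -/
def fivePtT3_0 : List (ℕ × ℕ × ℕ) := [
]

/-- tree fivePtT3 -/
def fivePtT3 : List (ℕ × ℕ × ℕ) :=
  fivePtT3_0

/-- part 0 of fivePtT4 -/
def fivePtT4_0 : List (ℕ × ℕ × ℕ) := [
]

/-- tree fivePtT4 -/
def fivePtT4 : List (ℕ × ℕ × ℕ) :=
  fivePtT4_0

/-- part 0 of fivePtT5 -/
def fivePtT5_0 : List (ℕ × ℕ × ℕ) := [
   (10, 2, 0), (12, 2, 0)]

/-- tree fivePtT5 -/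
def fivePtT5 : List (ℕ × ℕ × ℕ) :=
  fivePtT5_0

/-- part 0 of fivePtT6 -/
def fivePtT6_0 : List (ℕ × ℕ × ℕ) := [
   (18, 0, 0), (16, 1, 0), (22, 0, 0), (14, 2, 0), (20, 0, 0), (15, 1, 0), (11, 0, 0),
   (17, 2, 0), (21, 0, 0), (8, 1, 0), (6, 0, 0), (13, 5, 0), (23, 0, 0), (9, 1, 0),
   (19, 0, 0)]

/-- tree fivePtT6 -/
def fivePtT6 : List (ℕ × ℕ × ℕ) :=
  fivePtT6_0

/-- the orbit classes -/
def fivePtCls : List (ℕ × List (ℕ × ℕ × ℕ)) :=
  [(0, fivePtT0), (1, fivePtT1), (2, fivePtT2), (3, fivePtT3), (4, fivePtT4), (7, fivePtT5), (5, fivePtT6)]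

theorem fivePt_ok : ptK.splitOK fivePtL fivePtGens fivePtCls = true := by decide +kernel

theorem fivePt_sizes : (fivePtCls.map fun c =>
    (classList ptK.ix.n fun i => decide (ptK.invsIx fivePtL i = ptK.invsIx fivePtL c.1)).length) = [1, 1, 1, 1, 1, 3, 16] := by
  decide +kernel

end CfsgLib.Spor
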