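import Cfsg.Agent.Lib.Spor.OrbitDuum

/-!
Certificate: orbits on indexed objects of kind octK.
-/

set_option autoImplicit false
set_option maxRecDepth 100000

namespace CfsgLib.Spor

open Cfsg
open scoped Pointwise

/-- families fixed -/
def hept22L : List (List ℕ) := [[1], [2], [15777]]

/-- generators -/
def hept22Gens : List ℕ := [107097049642845135777420686252357664,
  269577455176396714217986875644788768,
  901642216388029667334100501199916064,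
  635352188498523642558776974629804064,
  691959408145293601642687634354788384,
  916628745218455305138250959886715936]

/-- part 0 of hept22T0 -/
def hept22T0_0 : List (ℕ × ℕ × ℕ) := [
]

/-- tree hept22T0 -/
def hept22T0 : List (ℕ × ℕ × ℕ) :=
  hept22T0_0

/-- part 0 of hept22T1 -/
def hept22T1_0 : List (ℕ × ℕ × ℕ) := [
   (669, 0, 0), (158, 0, 0), (729, 0, 0), (544, 0, 0), (374, 1, 0), (448, 0, 0), (329, 0, 0),
   (660, 0, 0), (496, 0, 0), (718, 2, 0), (749, 0, 0), (625, 0, 0), (479, 0, 0), (261, 0, 0)]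

/-- tree hept22T1 -/
def hept22T1 : List (ℕ × ℕ × ℕ) :=
  hept22T1_0

/-- part 0 of hept22T2 -/
def hept22T2_0 : List (ℕ × ℕ × ℕ) := [
   (465, 0, 0), (613, 0, 0), (734, 0, 0), (313, 0, 0), (504, 1, 0), (757, 0, 0), (409, 0, 0),
   (753, 0, 0), (286, 0, 0), (584, 2, 0), (680, 0, 0), (644, 0, 0), (694, 0, 0), (436, 0, 0)]

/-- tree hept22T2 -/
def hept22T2 : List (ℕ × ℕ × ℕ) :=
  hept22T2_0

/-- part 0 of hept22T3 -/
def hept22T3_0 : List (ℕ × ℕ × ℕ) := [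
   (35, 0, 0), (508, 0, 0), (27, 0, 0), (590, 0, 0), (98, 1, 0), (628, 0, 0), (142, 0, 0),
   (334, 0, 0), (52, 0, 0), (365, 1, 0), (201, 0, 0), (265, 0, 0), (228, 0, 0), (343, 0, 0),
   (513, 1, 0), (9, 0, 0), (3, 0, 0), (131, 0, 0), (152, 0, 0), (83, 1, 0), (213, 0, 0),
   (40, 0, 0), (695, 0, 0), (540, 0, 0), (384, 5, 0), (256, 0, 0), (567, 0, 0), (450, 0, 0),
   (61, 0, 0), (86, 5, 0), (291, 0, 0), (13, 0, 0), (417, 0, 0), (47, 0, 0)]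

/-- tree hept22T3 -/
def hept22T3 : List (ℕ × ℕ × ℕ) :=
  hept22T3_0

/-- part 0 of hept22T4 -/
def hept22T4_0 : List (ℕ × ℕ × ℕ) := [
   (36, 0, 0), (507, 0, 0), (26, 0, 0), (588, 0, 0), (100, 1, 0), (627, 0, 0), (145, 0, 0),
   (335, 0, 0), (55, 0, 0), (363, 1, 0), (203, 0, 0), (262, 0, 0), (227, 0, 0), (344, 0, 0),
   (516, 1, 0), (6, 0, 0), (5, 0, 0), (132, 0, 0), (151, 0, 0), (82, 1, 0), (216, 0, 0),
   (37, 0, 0), (697, 0, 0), (541, 0, 0), (383, 5, 0), (257, 0, 0), (568, 0, 0), (453, 0, 0),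
   (60, 0, 0), (87, 5, 0), (292, 0, 0), (16, 0, 0), (416, 0, 0), (46, 0, 0)]

/-- tree hept22T4 -/
def hept22T4 : List (ℕ × ℕ × ℕ) :=
  hept22T4_0

/-- part 0 of hept22T5 -/
def hept22T5_0 : List (ℕ × ℕ × ℕ) := [
   (155, 0, 0), (527, 0, 0), (591, 0, 0), (134, 0, 0), (108, 1, 0), (742, 0, 0), (73, 0, 0),
   (712, 0, 0), (310, 0, 0), (488, 1, 0), (226, 3, 0), (420, 0, 0), (376, 0, 0), (585, 0, 0),
   (654, 0, 0), (222, 1, 0), (361, 0, 0), (731, 0, 0), (111, 0, 0), (322, 0, 0), (274, 1, 0),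
   (674, 0, 0), (691, 0, 0), (369, 0, 0), (115, 0, 0), (178, 2, 0), (614, 0, 0), (236, 0, 0),
   (525, 0, 0), (330, 0, 0), (175, 1, 0), (387, 0, 0), (248, 0, 0), (190, 0, 0), (490, 0, 0),
   (528, 3, 2), (548, 3, 2), (445, 0, 0), (646, 0, 0), (95, 0, 0), (464, 0, 0)]

/-- tree hept22T5 -/
def hept22T5 : List (ℕ × ℕ × ℕ) :=
  hept22T5_0

/-- part 0 of hept22T6 -/
def hept22T6_0 : List (ℕ × ℕ × ℕ) := [
   (418, 0, 0), (163, 0, 0), (198, 0, 0), (670, 0, 0), (266, 1, 0), (301, 0, 0), (427, 0, 0),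
   (704, 0, 0), (205, 0, 0), (391, 1, 0), (501, 0, 0), (581, 0, 0), (482, 0, 0), (315, 0, 0),
   (752, 1, 0), (651, 0, 0), (392, 0, 0), (471, 0, 0), (209, 0, 0), (719, 1, 0), (288, 0, 0),
   (659, 0, 0), (467, 0, 0), (709, 0, 0), (699, 1, 0), (543, 0, 0), (185, 0, 0), (304, 0, 0),
   (537, 0, 0), (284, 3, 0), (280, 0, 0), (743, 0, 0), (433, 0, 0), (447, 0, 0), (398, 1, 0),
   (652, 0, 0), (575, 0, 0), (754, 0, 0), (59, 0, 0), (608, 2, 0), (99, 0, 0), (642, 0, 0),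
   (595, 0, 0), (353, 0, 0), (162, 1, 0), (685, 0, 0), (71, 0, 0), (621, 0, 0), (626, 0, 0),
   (72, 3, 0), (563, 0, 0), (302, 0, 0), (596, 0, 0), (415, 0, 0), (123, 1, 0), (502, 0, 0),
   (260, 0, 0), (736, 0, 0), (470, 0, 0), (461, 1, 0), (375, 0, 0), (407, 0, 0), (681, 0, 0),
   (323, 0, 0), (565, 2, 7), (220, 0, 0), (41, 0, 0), (728, 0, 0), (611, 0, 0)]

/-- tree hept22T6 -/
def hept22T6 : List (ℕ × ℕ × ℕ) :=
  hept22T6_0

/-- part 0 of hept22T7 -/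
def hept22T7_0 : List (ℕ × ℕ × ℕ) := [
   (33, 0, 0), (586, 0, 0), (133, 0, 0), (139, 0, 0), (102, 1, 0), (666, 0, 0), (38, 0, 0),
   (689, 0, 0), (45, 0, 0), (371, 1, 0), (404, 0, 0), (282, 0, 0), (270, 0, 0), (495, 0, 0),
   (657, 1, 0), (224, 0, 0), (346, 0, 0), (430, 0, 0), (125, 0, 0), (336, 1, 0), (68, 0, 0),
   (572, 0, 0), (640, 0, 0), (520, 0, 0), (535, 1, 0), (683, 0, 0), (166, 0, 0), (81, 0, 0),
   (238, 0, 0), (243, 1, 0), (191, 0, 0), (452, 0, 0), (76, 0, 0), (711, 0, 0), (462, 2, 0),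
   (610, 0, 0), (382, 0, 0), (250, 0, 0), (90, 0, 0), (542, 1, 0), (103, 0, 0), (629, 0, 0),
   (15, 0, 0), (424, 0, 0), (411, 2, 0), (50, 0, 0), (189, 0, 0), (231, 0, 0), (524, 0, 0),
   (635, 2, 0), (348, 0, 0), (366, 0, 0), (113, 0, 0), (326, 0, 0), (263, 1, 0), (240, 0, 0),
   (690, 0, 0), (378, 0, 0), (578, 0, 0), (351, 1, 0), (552, 0, 0), (616, 0, 0), (215, 0, 0),
   (23, 0, 0), (212, 2, 2), (159, 0, 0), (723, 0, 0), (54, 0, 0), (89, 0, 0), (25, 1, 0),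
   (602, 0, 0), (506, 0, 0), (10, 0, 0), (136, 0, 0), (177, 2, 0), (559, 0, 0), (296, 0, 0),
   (19, 0, 0), (337, 0, 0), (169, 1, 0), (183, 0, 0), (218, 0, 0), (147, 0, 0), (332, 0, 0),
   (357, 2, 0), (545, 0, 0), (79, 0, 0), (294, 0, 0), (144, 0, 0), (309, 3, 0), (97, 0, 0),
   (455, 0, 0), (57, 0, 0), (438, 0, 0), (530, 2, 1), (515, 0, 0), (30, 0, 0), (511, 0, 0),
   (150, 0, 0), (121, 1, 0), (480, 0, 0), (252, 0, 0), (400, 0, 0), (748, 0, 0)]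

/-- tree hept22T7 -/
def hept22T7 : List (ℕ × ℕ × ℕ) :=
  hept22T7_0

/-- part 0 of hept22T8 -/
def hept22T8_0 : List (ℕ × ℕ × ℕ) := [
   (32, 0, 0), (587, 0, 0), (130, 0, 0), (141, 0, 0), (101, 1, 0), (668, 0, 0), (39, 0, 0),
   (688, 0, 0), (48, 0, 0), (373, 1, 0), (405, 0, 0), (281, 0, 0), (271, 0, 0), (494, 0, 0),
   (658, 1, 0), (223, 0, 0), (345, 0, 0), (431, 0, 0), (126, 0, 0), (333, 1, 0), (67, 0, 0),
   (573, 0, 0), (638, 0, 0), (522, 0, 0), (534, 1, 0), (684, 0, 0), (167, 0, 0), (84, 0, 0),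
   (237, 0, 0), (245, 1, 0), (192, 0, 0), (451, 0, 0), (77, 0, 0), (710, 0, 0), (463, 2, 0),
   (609, 0, 0), (385, 0, 0), (249, 0, 0), (92, 0, 0), (539, 1, 0), (105, 0, 0), (630, 0, 0),
   (14, 0, 0), (425, 0, 0), (410, 2, 0), (51, 0, 0), (187, 0, 0), (233, 0, 0), (523, 0, 0),
   (636, 2, 0), (349, 0, 0), (367, 0, 0), (112, 0, 0), (325, 0, 0), (264, 1, 0), (241, 0, 0),
   (692, 0, 0), (377, 0, 0), (579, 0, 0), (352, 1, 0), (553, 0, 0), (615, 0, 0), (214, 0, 0),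
   (24, 0, 0), (210, 2, 2), (160, 0, 0), (724, 0, 0), (53, 0, 0), (88, 0, 0), (28, 1, 0),
   (603, 0, 0), (509, 0, 0), (12, 0, 0), (135, 0, 0), (176, 2, 0), (558, 0, 0), (297, 0, 0),
   (17, 0, 0), (339, 0, 0), (168, 1, 0), (184, 0, 0), (219, 0, 0), (148, 0, 0), (331, 0, 0),
   (355, 2, 0), (546, 0, 0), (80, 0, 0), (293, 0, 0), (143, 0, 0), (311, 3, 0), (96, 0, 0),
   (456, 0, 0), (58, 0, 0), (439, 0, 0), (529, 2, 1), (514, 0, 0), (31, 0, 0), (512, 0, 0),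
   (153, 0, 0), (119, 1, 0), (481, 0, 0), (253, 0, 0), (399, 0, 0), (747, 0, 0)]

/-- tree hept22T8 -/
def hept22T8 : List (ℕ × ℕ × ℕ) :=
  hept22T8_0

/-- part 0 of hept22T9 -/
def hept22T9_0 : List (ℕ × ℕ × ℕ) := [
   (354, 0, 0), (612, 0, 0), (571, 0, 0), (633, 0, 0), (239, 1, 0), (726, 0, 0), (429, 0, 0),
   (117, 0, 0), (268, 0, 0), (244, 1, 0), (200, 0, 0), (738, 0, 0), (63, 0, 0), (440, 0, 0),
   (104, 1, 0), (641, 0, 0), (518, 0, 0), (414, 0, 0), (165, 0, 0), (408, 1, 0), (663, 0, 0),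
   (279, 0, 0), (744, 0, 0), (372, 0, 0), (706, 1, 0), (402, 0, 0), (283, 0, 0), (324, 0, 0),
   (468, 0, 0), (713, 2, 0), (246, 0, 0), (93, 0, 0), (497, 0, 0), (556, 0, 0), (686, 1, 0),
   (49, 0, 0), (197, 0, 0), (639, 0, 0), (538, 0, 0), (634, 2, 0), (359, 0, 0), (703, 0, 0),
   (124, 0, 0), (662, 0, 0), (232, 1, 0), (536, 0, 0), (722, 0, 0), (69, 0, 0), (564, 0, 0),
   (66, 1, 0), (620, 0, 0), (667, 0, 0), (22, 0, 0), (340, 0, 0), (70, 1, 0), (617, 0, 0),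
   (211, 0, 0), (149, 0, 0), (412, 0, 0), (379, 2, 0), (577, 0, 0), (318, 0, 0), (300, 0, 0),
   (347, 0, 0), (547, 1, 0), (182, 0, 0), (234, 0, 0), (598, 0, 0), (350, 0, 0), (356, 2, 0),
   (554, 0, 0), (560, 0, 0), (303, 0, 0), (521, 0, 0), (676, 2, 0), (91, 0, 0), (457, 0, 0),
   (171, 0, 0), (396, 0, 0), (140, 1, 0), (29, 0, 0), (531, 0, 0), (600, 0, 0), (510, 0, 0),
   (161, 1, 0), (682, 0, 0), (179, 0, 0), (562, 0, 0), (217, 0, 0), (314, 1, 0), (442, 0, 0),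
   (473, 0, 0), (122, 0, 0), (478, 0, 0), (295, 1, 0), (43, 0, 0), (687, 0, 0), (164, 0, 0),
   (186, 0, 0), (137, 2, 0), (437, 3, 1), (720, 0, 0), (285, 0, 0), (272, 0, 0), (459, 0, 0),
   (120, 5, 2), (486, 0, 0), (649, 0, 0), (390, 0, 0), (500, 0, 0), (188, 5, 0), (221, 0, 0),
   (21, 0, 0), (423, 0, 0), (606, 0, 0), (758, 4, 6), (251, 0, 0), (394, 0, 0), (469, 0, 0),
   (128, 0, 0), (78, 5, 3), (305, 0, 0), (594, 0, 0), (338, 0, 0), (170, 0, 0)]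

/-- tree hept22T9 -/
def hept22T9 : List (ℕ × ℕ × ℕ) :=
  hept22T9_0

/-- part 0 of hept22T10 -/
def hept22T10_0 : List (ℕ × ℕ × ℕ) := [
   (157, 0, 0), (599, 0, 0), (532, 0, 0), (593, 0, 0), (107, 1, 0), (755, 0, 0), (172, 0, 0),
   (389, 0, 0), (312, 0, 0), (487, 1, 0), (328, 0, 0), (483, 0, 0), (475, 0, 0), (449, 0, 0),
   (714, 1, 0), (259, 0, 0), (569, 0, 0), (491, 0, 0), (181, 0, 0), (716, 1, 0), (647, 0, 0),
   (109, 0, 0), (745, 0, 0), (557, 0, 0), (705, 1, 0), (403, 0, 0), (327, 0, 0), (278, 0, 0),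
   (746, 0, 0), (631, 1, 0), (146, 0, 0), (413, 0, 0), (180, 0, 0), (574, 0, 0), (242, 2, 0),
   (727, 0, 0), (364, 0, 0), (208, 0, 0), (655, 0, 0), (247, 1, 0), (110, 0, 0), (756, 0, 0),
   (549, 0, 0), (441, 0, 0), (419, 2, 0), (435, 0, 0), (624, 0, 0), (267, 0, 0), (230, 0, 0),
   (673, 1, 0), (597, 0, 0), (341, 0, 0), (56, 0, 0), (195, 0, 0), (202, 1, 0), (277, 0, 0),
   (637, 0, 0), (358, 0, 0), (732, 0, 0), (446, 1, 0), (645, 0, 0), (193, 0, 0), (492, 0, 0),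
   (62, 0, 0), (551, 2, 0), (388, 0, 0), (258, 0, 0), (619, 0, 0), (498, 0, 0), (273, 1, 0),
   (460, 0, 0), (381, 0, 0), (737, 0, 0), (664, 0, 0), (269, 2, 0), (307, 0, 0), (700, 0, 0),
   (733, 0, 0), (114, 0, 0), (360, 1, 0), (708, 0, 0), (583, 0, 0), (656, 0, 0), (299, 0, 0),
   (665, 1, 0), (751, 0, 0), (474, 0, 0), (406, 0, 0), (489, 0, 0), (472, 1, 0), (129, 0, 0),
   (750, 0, 0), (317, 0, 0), (715, 0, 0), (533, 1, 0), (526, 0, 0), (601, 0, 0), (589, 0, 0),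
   (34, 0, 0), (75, 1, 0), (735, 0, 0), (255, 0, 0), (576, 0, 0), (739, 0, 0), (254, 1, 0),
   (393, 0, 0), (499, 0, 0), (206, 0, 0), (503, 0, 0), (173, 3, 0), (444, 0, 0), (653, 0, 0),
   (570, 0, 0), (454, 0, 0), (308, 1, 0), (693, 0, 0), (368, 0, 0), (204, 0, 0), (319, 0, 0),
   (116, 2, 0), (321, 0, 0), (298, 0, 0), (422, 0, 0), (432, 0, 0), (362, 2, 0), (701, 0, 0),
   (207, 0, 0), (678, 0, 0), (229, 0, 0), (650, 1, 0), (443, 0, 0), (476, 0, 0), (582, 0, 0),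
   (485, 0, 0), (395, 2, 0), (677, 0, 0), (566, 0, 0), (466, 0, 0), (550, 0, 0), (707, 1, 0),
   (580, 0, 0), (320, 0, 0), (225, 0, 0), (428, 0, 0), (671, 5, 0), (421, 0, 0), (370, 0, 0),
   (127, 0, 0), (661, 0, 0), (290, 1, 0)]

/-- part 1 of hept22T10 -/
def hept22T10_1 : List (ℕ × ℕ × ℕ) := [
   (44, 0, 0), (725, 0, 0), (65, 0, 0), (618, 0, 0), (604, 4, 0), (696, 0, 0), (555, 0, 0),
   (561, 0, 0), (235, 0, 0), (397, 3, 0), (648, 0, 0), (199, 0, 0), (740, 0, 0), (174, 0, 0),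
   (721, 1, 0), (505, 0, 0), (287, 0, 0), (484, 0, 0), (477, 0, 0), (741, 1, 0), (64, 0, 0),
   (386, 0, 0), (316, 0, 0), (622, 0, 0), (196, 3, 1), (632, 0, 0), (42, 0, 0), (698, 0, 0),
   (605, 0, 0), (156, 3, 0), (517, 0, 0), (138, 0, 0), (154, 0, 0), (592, 0, 0), (306, 5, 1),
   (519, 0, 0), (426, 0, 0), (607, 0, 0), (85, 0, 0), (74, 3, 0), (717, 0, 0), (675, 0, 0),
   (94, 0, 0), (493, 0, 0), (289, 1, 0), (679, 0, 0), (458, 0, 0), (434, 0, 0), (401, 0, 0),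
   (380, 2, 0), (623, 0, 0), (275, 0, 0), (672, 0, 0), (342, 0, 0), (276, 4, 6), (643, 0, 0),
   (730, 0, 0), (702, 0, 0), (118, 0, 0)]

/-- tree hept22T10 -/
def hept22T10 : List (ℕ × ℕ × ℕ) :=
  hept22T10_0 ++ hept22T10_1

/-- the orbit classes -/
def hept22Cls : List (ℕ × List (ℕ × ℕ × ℕ)) :=
  [(2, hept22T0), (106, hept22T1), (194, hept22T2), (0, hept22T3), (1, hept22T4), (11, hept22T5), (20, hept22T6), (7, hept22T7), (8, hept22T8), (18, hept22T9), (4, hept22T10)]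

theorem hept22_ok : octK.splitOK hept22L hept22Gens hept22Cls = true := by decide +kernel

theorem hept22_sizes : (hept22Cls.map fun c =>
    (classList octK.ix.n fun i => decide (octK.invsIx hept22L i = octK.invsIx hept22L c.1)).length) = [1, 15, 15, 35, 35, 42, 70, 105, 105, 126, 210] := by
  decide +kernel

end CfsgLib.Spor
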