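import Cfsg.Agent.Lib.Spor.OrbitDuum

/-!
Certificate: orbits on indexed objects of kind octK.
-/

set_option autoImplicit false
set_option maxRecDepth 100000

namespace CfsgLib.Spor

open Cfsg
open scoped Pointwise

/-- families fixed -/
def oct2OctL : List (List ℕ) := [[1], [2], [5279]]

/-- generators -/
def oct2OctGens : List ℕ := [892235169876201976918423949646302240,
  612252793017564328819893751250235424,
  964037761823740632806690127480065056,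
  256273655508204441678207350011399200,
  546744784417302187675880634917982240,
  566824246267635366991781597292898336]

/-- part 0 of oct2OctT0 -/
def oct2OctT0_0 : List (ℕ × ℕ × ℕ) := [
]

/-- tree oct2OctT0 -/
def oct2OctT0 : List (ℕ × ℕ × ℕ) :=
  oct2OctT0_0

/-- part 0 of oct2OctT1 -/
def oct2OctT1_0 : List (ℕ × ℕ × ℕ) := [
   (731, 0, 0), (248, 0, 0), (98, 0, 0), (361, 1, 0), (585, 0, 0), (464, 0, 0), (417, 0, 0),
   (322, 3, 0), (178, 0, 0), (190, 0, 0), (712, 0, 0), (674, 3, 1), (628, 0, 0), (488, 0, 0),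
   (525, 0, 0)]

/-- tree oct2OctT1 -/
def oct2OctT1 : List (ℕ × ℕ × ℕ) :=
  oct2OctT1_0

/-- part 0 of oct2OctT2 -/
def oct2OctT2_0 : List (ℕ × ℕ × ℕ) := [
   (727, 0, 0), (755, 0, 0), (289, 0, 0), (504, 2, 0), (618, 0, 0), (204, 1, 0), (393, 1, 0),
   (576, 0, 0), (677, 0, 0), (499, 0, 0), (679, 1, 0), (650, 0, 0), (481, 1, 0), (434, 0, 0),
   (613, 0, 0), (661, 0, 0), (746, 5, 0), (230, 3, 0), (737, 0, 0), (698, 1, 0), (328, 0, 0),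
   (721, 4, 2), (753, 0, 0), (306, 0, 0), (160, 0, 0), (446, 1, 0), (380, 0, 0), (477, 1, 3),
   (546, 0, 0)]

/-- tree oct2OctT2 -/
def oct2OctT2 : List (ℕ × ℕ × ℕ) :=
  oct2OctT2_0

/-- part 0 of oct2OctT3 -/
def oct2OctT3_0 : List (ℕ × ℕ × ℕ) := [
   (201, 0, 0), (330, 1, 0), (95, 0, 0), (528, 0, 0), (310, 0, 0), (291, 1, 0), (13, 0, 0),
   (567, 0, 0), (646, 0, 0), (213, 1, 0), (142, 0, 0), (548, 0, 0), (654, 0, 0), (226, 1, 0),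
   (614, 0, 0), (695, 2, 0), (228, 0, 0), (265, 2, 0), (334, 0, 0), (175, 0, 0), (527, 0, 0),
   (108, 1, 0), (590, 0, 0), (490, 0, 0), (86, 0, 0), (111, 1, 0), (115, 0, 0), (134, 0, 0),
   (131, 0, 0), (387, 1, 0), (35, 0, 0), (152, 0, 0), (365, 0, 0), (256, 3, 0), (47, 0, 0),
   (343, 0, 0), (513, 0, 0), (369, 1, 0), (155, 0, 0), (27, 0, 0), (384, 0, 0), (591, 1, 0),
   (274, 0, 0), (83, 0, 0), (420, 0, 0), (508, 1, 0), (450, 0, 0), (52, 0, 0), (73, 0, 0),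
   (40, 1, 0), (691, 0, 0), (742, 0, 0), (236, 0, 0), (11, 3, 0), (445, 0, 0), (376, 5, 1),
   (9, 0, 0), (222, 3, 5), (540, 0, 0)]

/-- tree oct2OctT3 -/
def oct2OctT3 : List (ℕ × ℕ × ℕ) :=
  oct2OctT3_0

/-- part 0 of oct2OctT4 -/
def oct2OctT4_0 : List (ℕ × ℕ × ℕ) := [
   (202, 0, 0), (331, 1, 0), (96, 0, 0), (529, 0, 0), (311, 0, 0), (290, 1, 0), (14, 0, 0),
   (566, 0, 0), (647, 0, 0), (214, 1, 0), (143, 0, 0), (549, 0, 0), (655, 0, 0), (225, 1, 0),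
   (615, 0, 0), (696, 2, 0), (229, 0, 0), (264, 2, 0), (333, 0, 0), (174, 0, 0), (526, 0, 0),
   (109, 1, 0), (589, 0, 0), (491, 0, 0), (85, 0, 0), (112, 1, 0), (114, 0, 0), (135, 0, 0),
   (130, 0, 0), (388, 1, 0), (34, 0, 0), (153, 0, 0), (364, 0, 0), (255, 3, 0), (48, 0, 0),
   (342, 0, 0), (514, 0, 0), (370, 1, 0), (156, 0, 0), (28, 0, 0), (385, 0, 0), (592, 1, 0),
   (275, 0, 0), (84, 0, 0), (421, 0, 0), (509, 1, 0), (451, 0, 0), (53, 0, 0), (74, 0, 0),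
   (39, 1, 0), (692, 0, 0), (741, 0, 0), (237, 0, 0), (12, 3, 0), (444, 0, 0), (377, 5, 1),
   (8, 0, 0), (223, 3, 5), (539, 0, 0)]

/-- tree oct2OctT4 -/
def oct2OctT4 : List (ℕ × ℕ × ℕ) :=
  oct2OctT4_0

/-- part 0 of oct2OctT5 -/
def oct2OctT5_0 : List (ℕ × ℕ × ℕ) := [
   (372, 0, 0), (544, 0, 0), (232, 0, 0), (468, 1, 0), (516, 0, 0), (165, 1, 0), (164, 0, 0),
   (78, 0, 0), (82, 0, 0), (338, 1, 0), (104, 0, 0), (69, 0, 0), (412, 0, 0), (594, 1, 0),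
   (627, 0, 0), (262, 0, 0), (60, 0, 0), (722, 4, 0), (217, 0, 0), (124, 0, 0), (18, 0, 0),
   (145, 1, 0), (682, 0, 0), (285, 0, 0), (29, 0, 0), (37, 1, 0), (541, 0, 0), (469, 0, 0),
   (6, 0, 0), (564, 3, 0), (303, 0, 0), (132, 0, 0), (390, 0, 0), (560, 1, 0), (479, 0, 0),
   (140, 0, 0), (158, 0, 0), (100, 1, 0), (335, 0, 0), (416, 0, 0), (70, 0, 0), (186, 2, 0),
   (429, 2, 0), (21, 0, 0), (571, 0, 0), (216, 0, 0), (295, 1, 0), (26, 0, 0), (120, 0, 0),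
   (686, 0, 0), (521, 1, 0), (667, 0, 0), (244, 0, 0), (91, 0, 0), (16, 1, 0), (720, 0, 0),
   (221, 0, 0), (151, 0, 0), (350, 1, 0), (55, 0, 0), (538, 4, 0), (639, 0, 0), (453, 0, 0),
   (347, 0, 0), (22, 3, 0), (612, 0, 0), (211, 0, 0), (383, 0, 0), (324, 1, 1), (510, 0, 0),
   (46, 5, 4), (634, 4, 0), (188, 4, 6), (354, 0, 0), (251, 1, 6), (507, 0, 0), (356, 2, 5),
   (49, 4, 13), (182, 0, 0)]

/-- tree oct2OctT5 -/
def oct2OctT5 : List (ℕ × ℕ × ℕ) :=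
  oct2OctT5_0

/-- part 0 of oct2OctT6 -/
def oct2OctT6_0 : List (ℕ × ℕ × ℕ) := [
   (371, 0, 0), (545, 0, 0), (231, 0, 0), (467, 1, 0), (515, 0, 0), (166, 1, 0), (163, 0, 0),
   (79, 0, 0), (81, 0, 0), (337, 1, 0), (103, 0, 0), (68, 0, 0), (411, 0, 0), (595, 1, 0),
   (626, 0, 0), (263, 0, 0), (59, 0, 0), (723, 4, 0), (218, 0, 0), (125, 0, 0), (19, 0, 0),
   (144, 1, 0), (683, 0, 0), (284, 0, 0), (30, 0, 0), (38, 1, 0), (542, 0, 0), (470, 0, 0),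
   (7, 0, 0), (565, 3, 0), (304, 0, 0), (133, 0, 0), (391, 0, 0), (559, 1, 0), (480, 0, 0),
   (139, 0, 0), (159, 0, 0), (99, 1, 0), (336, 0, 0), (415, 0, 0), (71, 0, 0), (185, 2, 0),
   (430, 2, 0), (20, 0, 0), (572, 0, 0), (215, 0, 0), (296, 1, 0), (25, 0, 0), (121, 0, 0),
   (685, 0, 0), (520, 1, 0), (666, 0, 0), (243, 0, 0), (90, 0, 0), (15, 1, 0), (719, 0, 0),
   (220, 0, 0), (150, 0, 0), (351, 1, 0), (54, 0, 0), (537, 4, 0), (640, 0, 0), (452, 0, 0),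
   (348, 0, 0), (23, 3, 0), (611, 0, 0), (212, 0, 0), (382, 0, 0), (323, 1, 1), (511, 0, 0),
   (45, 5, 4), (635, 4, 0), (189, 4, 6), (353, 0, 0), (252, 1, 6), (506, 0, 0), (357, 2, 5),
   (50, 4, 13), (183, 0, 0)]

/-- tree oct2OctT6 -/
def oct2OctT6 : List (ℕ × ℕ × ℕ) :=
  oct2OctT6_0

/-- part 0 of oct2OctT7 -/
def oct2OctT7_0 : List (ℕ × ℕ × ℕ) := [
   (442, 0, 0), (547, 0, 0), (329, 0, 0), (239, 1, 0), (568, 0, 0), (744, 0, 0), (676, 0, 0),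
   (246, 1, 0), (171, 0, 0), (518, 0, 0), (663, 0, 0), (457, 1, 0), (200, 0, 0), (536, 0, 0),
   (758, 0, 0), (669, 1, 0), (318, 0, 0), (93, 0, 0), (625, 0, 0), (703, 2, 0), (496, 0, 0),
   (531, 0, 0), (279, 0, 0), (305, 1, 0), (396, 0, 0), (394, 0, 0), (729, 0, 0), (554, 1, 0),
   (292, 0, 0), (363, 0, 0), (122, 0, 0), (63, 1, 0), (718, 0, 0), (633, 0, 0), (497, 0, 0),
   (641, 1, 0), (257, 0, 0), (344, 0, 0), (706, 0, 0), (562, 2, 0), (500, 0, 0), (137, 0, 0),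
   (128, 0, 0), (414, 2, 0), (448, 0, 0), (106, 0, 0), (197, 0, 0), (423, 1, 0), (87, 0, 0),
   (408, 0, 0), (170, 0, 0), (117, 2, 0), (161, 0, 0), (606, 0, 0), (478, 0, 0), (660, 1, 0),
   (662, 0, 0), (300, 0, 0), (726, 0, 0), (600, 2, 0), (459, 0, 0), (713, 0, 0), (261, 0, 0),
   (283, 2, 0), (440, 0, 0), (149, 0, 0), (620, 0, 0), (687, 5, 0), (486, 0, 0), (36, 0, 0),
   (437, 0, 0), (314, 3, 0), (577, 0, 0), (272, 0, 0), (588, 0, 0), (340, 1, 0), (179, 0, 0),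
   (66, 0, 0), (402, 0, 0), (556, 4, 0), (649, 0, 0), (738, 0, 0), (227, 0, 0), (473, 1, 0),
   (379, 0, 0), (43, 0, 0), (697, 0, 0), (374, 3, 7), (617, 0, 0), (234, 0, 0), (203, 0, 0),
   (359, 2, 0), (598, 0, 0), (749, 0, 0), (268, 0, 0)]

/-- tree oct2OctT7 -/
def oct2OctT7 : List (ℕ × ℕ × ℕ) :=
  oct2OctT7_0

/-- part 0 of oct2OctT8 -/
def oct2OctT8_0 : List (ℕ × ℕ × ℕ) := [
   (209, 0, 0), (543, 0, 0), (502, 0, 0), (743, 1, 0), (657, 0, 0), (240, 0, 0), (610, 0, 0),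
   (136, 1, 0), (433, 0, 0), (563, 0, 0), (288, 0, 0), (462, 1, 0), (97, 0, 0), (709, 0, 0),
   (670, 0, 0), (315, 1, 0), (586, 0, 0), (270, 0, 0), (578, 0, 0), (366, 3, 0), (147, 0, 0),
   (552, 0, 0), (282, 0, 0), (301, 1, 0), (575, 0, 0), (659, 0, 0), (754, 0, 0), (629, 1, 0),
   (309, 0, 0), (57, 0, 0), (581, 0, 0), (346, 1, 0), (736, 0, 0), (642, 0, 0), (326, 0, 0),
   (302, 1, 0), (113, 0, 0), (392, 0, 0), (608, 0, 0), (205, 3, 0), (41, 0, 0), (616, 0, 0),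
   (471, 0, 0), (378, 3, 0), (375, 0, 0), (699, 0, 0), (238, 0, 0), (501, 1, 0), (33, 0, 0),
   (400, 0, 0), (689, 0, 0), (455, 3, 0), (76, 0, 0), (535, 0, 0), (748, 0, 0), (162, 1, 1),
   (728, 0, 0), (482, 0, 0), (398, 0, 0), (407, 2, 0), (89, 0, 0), (424, 0, 0), (169, 0, 0),
   (191, 2, 0), (596, 0, 0), (681, 0, 0), (266, 0, 0), (530, 3, 0), (495, 0, 0), (704, 0, 0),
   (280, 0, 0), (260, 1, 0), (711, 0, 0), (461, 0, 0), (602, 0, 0), (72, 1, 0), (177, 0, 0),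
   (332, 0, 0), (404, 0, 0), (651, 4, 0), (652, 0, 0), (224, 0, 0), (690, 0, 0), (427, 4, 1),
   (524, 0, 0), (752, 0, 0), (250, 0, 0), (447, 1, 2), (418, 0, 0), (198, 0, 0), (102, 0, 0),
   (438, 2, 1), (123, 0, 0), (621, 0, 0), (294, 0, 0)]

/-- tree oct2OctT8 -/
def oct2OctT8 : List (ℕ × ℕ × ℕ) :=
  oct2OctT8_0

/-- part 0 of oct2OctT9 -/
def oct2OctT9_0 : List (ℕ × ℕ × ℕ) := [
   (609, 0, 0), (645, 0, 0), (281, 0, 0), (458, 1, 0), (582, 0, 0), (644, 0, 0), (668, 0, 0),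
   (492, 1, 0), (168, 0, 0), (107, 0, 0), (579, 0, 0), (413, 1, 0), (193, 0, 0), (584, 0, 0),
   (320, 0, 0), (298, 1, 0), (558, 0, 0), (287, 0, 0), (607, 0, 0), (555, 2, 0), (307, 0, 0),
   (684, 0, 0), (484, 0, 0), (648, 1, 0), (485, 0, 0), (24, 0, 0), (730, 0, 0), (533, 1, 0),
   (498, 0, 0), (339, 0, 0), (409, 0, 0), (553, 1, 0), (483, 0, 0), (688, 0, 0), (308, 0, 0),
   (259, 1, 0), (352, 0, 0), (349, 0, 0), (708, 0, 0), (569, 2, 0), (678, 0, 0), (293, 0, 0),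
   (206, 0, 0), (80, 1, 0), (406, 0, 0), (593, 0, 0), (316, 0, 0), (207, 3, 0), (386, 0, 0),
   (441, 0, 0), (157, 0, 0), (127, 1, 0), (31, 0, 0), (431, 0, 0), (368, 0, 0), (194, 2, 0),
   (601, 0, 0), (319, 0, 0), (403, 0, 0), (436, 2, 0), (138, 0, 0), (395, 0, 0), (118, 0, 0),
   (472, 3, 0), (42, 0, 0), (557, 0, 0), (739, 0, 0), (672, 1, 0), (673, 0, 0), (271, 0, 0),
   (715, 0, 0), (512, 1, 0), (505, 0, 0), (56, 0, 0), (199, 0, 0), (358, 1, 0), (714, 0, 0),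
   (466, 0, 0), (180, 0, 0), (176, 1, 0), (58, 0, 0), (710, 0, 0), (249, 0, 0), (405, 3, 0),
   (362, 0, 0), (603, 0, 0), (463, 0, 0), (680, 1, 0), (235, 0, 0), (443, 0, 0), (694, 0, 0),
   (623, 2, 0), (454, 0, 0), (187, 0, 0), (75, 0, 0), (105, 1, 0), (360, 0, 0), (733, 0, 0),
   (465, 0, 0), (665, 1, 0), (630, 0, 0), (494, 0, 0), (523, 0, 0), (622, 2, 0), (740, 0, 0),
   (503, 0, 0), (44, 0, 0), (126, 1, 0), (367, 0, 0), (432, 0, 0), (32, 0, 0), (717, 3, 0),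
   (277, 0, 0), (425, 0, 0), (422, 0, 0), (184, 2, 0), (345, 0, 0), (624, 0, 0), (258, 0, 0),
   (278, 1, 0), (522, 0, 0), (757, 0, 0), (631, 0, 0), (341, 4, 0), (428, 0, 0), (532, 0, 0),
   (489, 0, 0), (245, 3, 0), (401, 0, 0), (64, 0, 0), (599, 0, 0), (734, 3, 0), (269, 0, 0),
   (196, 0, 0), (173, 0, 0), (167, 2, 0), (419, 0, 0), (580, 0, 0), (276, 0, 0), (242, 1, 0),
   (573, 0, 0), (474, 0, 0), (725, 0, 0), (550, 1, 0), (675, 0, 0), (210, 0, 0), (119, 0, 0),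
   (88, 5, 0), (181, 0, 0), (587, 0, 0)]

/-- part 1 of oct2OctT9 -/
def oct2OctT9_1 : List (ℕ × ℕ × ℕ) := [
   (487, 0, 0), (750, 1, 0), (273, 0, 0), (604, 0, 0), (671, 0, 0), (154, 4, 0), (439, 0, 0),
   (389, 0, 0), (208, 0, 0), (65, 1, 0), (92, 0, 0), (702, 0, 0), (312, 0, 0), (254, 1, 0),
   (534, 0, 0), (636, 0, 0), (747, 0, 0), (632, 1, 0), (317, 0, 0), (519, 0, 0), (751, 0, 0),
   (172, 4, 0), (701, 0, 0), (267, 0, 0), (67, 0, 0), (355, 1, 0), (77, 0, 0), (707, 0, 0),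
   (456, 0, 0), (658, 3, 0), (476, 0, 0), (148, 0, 0), (700, 0, 0), (716, 1, 0), (493, 0, 0),
   (426, 0, 0), (110, 0, 0), (583, 1, 1), (247, 0, 0), (410, 0, 0), (62, 0, 0), (192, 2, 0),
   (732, 0, 0), (321, 0, 0), (101, 0, 0), (435, 2, 0), (116, 0, 0), (397, 0, 0), (141, 0, 0),
   (597, 5, 1), (643, 0, 0), (664, 0, 0), (460, 0, 0), (299, 5, 0), (605, 0, 0), (286, 0, 0),
   (561, 0, 0), (373, 4, 0), (693, 0, 0), (653, 0, 0), (233, 0, 0), (656, 2, 1), (327, 0, 0),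
   (146, 0, 0), (619, 0, 0), (724, 2, 0), (475, 0, 0), (574, 0, 0), (241, 0, 0), (638, 5, 0),
   (253, 0, 0), (705, 0, 0), (637, 0, 0), (570, 3, 0), (745, 0, 0), (297, 0, 0), (381, 0, 0),
   (735, 4, 0), (313, 0, 0), (195, 0, 0), (94, 0, 0), (517, 4, 2), (325, 0, 0), (51, 0, 0),
   (449, 0, 0), (756, 4, 12), (219, 0, 0), (399, 0, 0), (551, 0, 0)]

/-- tree oct2OctT9 -/
def oct2OctT9 : List (ℕ × ℕ × ℕ) :=
  oct2OctT9_0 ++ oct2OctT9_1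

/-- the orbit classes -/
def oct2OctCls : List (ℕ × List (ℕ × ℕ × ℕ)) :=
  [(0, oct2OctT0), (61, oct2OctT1), (129, oct2OctT2), (3, oct2OctT3), (4, oct2OctT4), (1, oct2OctT5), (2, oct2OctT6), (5, oct2OctT7), (10, oct2OctT8), (17, oct2OctT9)]

theorem oct2Oct_ok : octK.splitOK oct2OctL oct2OctGens oct2OctCls = true := by decide +kernel

theorem oct2Oct_sizes : (oct2OctCls.map fun c =>
    (classList octK.ix.n fun i => decide (octK.invsIx oct2OctL i = octK.invsIx oct2OctL c.1)).length) = [1, 16, 30, 60, 60, 80, 80, 96, 96, 240] := by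
  decide +kernel

end CfsgLib.Spor
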