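import Cfsg.Agent.Lib.Spor.OrbitDuum

/-!
Certificate: orbits on indexed objects of kind pairK.
-/

set_option autoImplicit false
set_option maxRecDepth 100000

namespace CfsgLib.Spor

open Cfsg
open scoped Pointwise

/-- families fixed -/
def pairPairL : List (List ℕ) := [[3]]

/-- generators -/
def pairPairGens : List ℕ := [227720046160196657037307368868757505,
  106105262546659896442913864385936416,
  230497448022574422406679590859061280,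
  340301178353072994079178533457398816,
  638172236757522357923880460361150496,
  734328772411261855901885226061860896]

/-- part 0 of pairPairT0 -/
def pairPairT0_0 : List (ℕ × ℕ × ℕ) := [
]

/-- tree pairPairT0 -/
def pairPairT0 : List (ℕ × ℕ × ℕ) :=
  pairPairT0_0

/-- part 0 of pairPairT1 -/
def pairPairT1_0 : List (ℕ × ℕ × ℕ) := [
   (121, 0, 0), (36, 0, 0), (172, 0, 0), (91, 0, 0), (191, 0, 0), (253, 0, 0), (11, 0, 0),
   (21, 0, 0), (154, 0, 0), (6, 0, 0), (137, 0, 0), (55, 0, 0), (4, 0, 0), (67, 2, 0),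
   (15, 0, 0), (29, 0, 0), (210, 0, 0), (79, 0, 0), (231, 0, 0), (106, 0, 0), (66, 0, 0),
   (16, 0, 0), (28, 0, 0), (211, 0, 0), (78, 0, 0), (232, 0, 0), (105, 0, 0), (171, 3, 0),
   (92, 0, 0), (190, 0, 0), (254, 0, 0), (10, 0, 0), (22, 0, 0), (153, 0, 0), (7, 0, 0),
   (136, 0, 0), (56, 0, 0), (3, 0, 0), (2, 0, 0), (120, 0, 0), (37, 0, 0), (46, 2, 0),
   (45, 0, 0)]

/-- tree pairPairT1 -/
def pairPairT1 : List (ℕ × ℕ × ℕ) :=
  pairPairT1_0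

/-- part 0 of pairPairT2 -/
def pairPairT2_0 : List (ℕ × ℕ × ℕ) := [
   (122, 0, 0), (129, 0, 0), (180, 0, 0), (185, 0, 0), (204, 0, 0), (273, 0, 0), (258, 0, 0),
   (26, 0, 0), (160, 0, 0), (157, 0, 0), (140, 0, 0), (147, 0, 0), (58, 0, 0), (18, 1, 0),
   (30, 0, 0), (226, 0, 0), (87, 0, 0), (250, 0, 0), (119, 0, 0), (202, 0, 0), (259, 0, 0),
   (33, 0, 0), (217, 0, 0), (166, 0, 0), (235, 0, 0), (151, 0, 0), (77, 0, 0), (20, 1, 0),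
   (35, 0, 0), (228, 0, 0), (82, 0, 0), (248, 0, 0), (116, 0, 0), (69, 0, 0), (17, 0, 0),
   (128, 0, 0), (219, 0, 0), (184, 0, 0), (245, 0, 0), (205, 0, 0), (265, 0, 0), (12, 1, 0),
   (127, 0, 0), (162, 0, 0), (175, 0, 0), (150, 0, 0), (201, 0, 0), (256, 0, 0), (71, 2, 0),
   (27, 0, 0), (161, 0, 0), (214, 0, 0), (149, 0, 0), (242, 0, 0), (108, 0, 0), (68, 0, 0),
   (126, 0, 0), (44, 0, 0), (229, 0, 0), (104, 0, 0), (251, 0, 0), (268, 0, 0), (93, 1, 0),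
   (206, 0, 0), (262, 0, 0), (176, 0, 0), (98, 0, 0), (208, 0, 0), (257, 0, 0), (141, 0, 0),
   (62, 0, 0), (156, 0, 0), (8, 0, 0), (152, 0, 0), (64, 0, 0), (174, 0, 0), (39, 1, 0),
   (173, 0, 0), (134, 0, 0), (199, 0, 0), (272, 0, 0), (96, 0, 0), (197, 0, 0), (271, 0, 0),
   (14, 0, 0), (143, 0, 0), (164, 0, 0), (9, 0, 0), (138, 0, 0), (131, 0, 0), (19, 1, 0),
   (144, 0, 0), (221, 0, 0), (81, 0, 0), (233, 0, 0), (135, 0, 0), (75, 0, 0), (177, 0, 0),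
   (99, 0, 0), (230, 0, 0), (266, 0, 0), (236, 0, 0), (112, 0, 0), (165, 0, 0), (102, 3, 0),
   (193, 0, 0), (255, 0, 0), (125, 0, 0), (43, 0, 0), (189, 0, 0), (95, 0, 0), (207, 0, 0),
   (264, 0, 0), (13, 0, 0), (23, 0, 0), (169, 0, 0), (40, 0, 0), (188, 0, 0), (244, 2, 0),
   (246, 0, 0), (117, 0, 0), (72, 0, 0), (34, 0, 0), (218, 0, 0), (223, 0, 0), (274, 1, 0),
   (83, 0, 0), (238, 0, 0), (168, 0, 0), (70, 0, 0), (142, 0, 0), (63, 0, 0), (213, 0, 0),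
   (80, 0, 0), (247, 0, 0), (114, 0, 0), (183, 0, 0), (97, 0, 0), (198, 0, 0), (196, 2, 0),
   (261, 0, 0), (215, 0, 0), (85, 0, 0), (249, 0, 0), (109, 0, 0), (148, 0, 0), (61, 0, 0),
   (31, 0, 0), (212, 0, 0), (133, 0, 0)]

/-- part 1 of pairPairT2 -/
def pairPairT2_1 : List (ℕ × ℕ × ℕ) := [
   (240, 0, 0), (186, 0, 0), (103, 0, 0), (100, 1, 1), (209, 0, 0), (267, 0, 0), (195, 0, 0),
   (260, 0, 0), (158, 0, 0), (25, 0, 0), (170, 0, 0), (59, 0, 0), (139, 0, 0), (57, 0, 0),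
   (123, 0, 0), (38, 0, 0), (187, 0, 0), (54, 3, 0), (181, 0, 0), (101, 0, 0), (200, 0, 0),
   (263, 0, 0), (50, 0, 0), (52, 0, 0), (163, 0, 0), (49, 0, 0), (146, 0, 0), (65, 0, 0),
   (48, 0, 0), (47, 0, 0), (130, 0, 0), (159, 1, 3), (32, 0, 0), (227, 0, 0), (89, 0, 0),
   (234, 0, 0), (107, 0, 0), (132, 0, 0), (42, 0, 0), (179, 0, 0), (224, 0, 0), (203, 0, 0),
   (275, 0, 0), (110, 0, 0), (73, 0, 0), (88, 4, 1), (241, 0, 0), (115, 0, 0), (76, 0, 0),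
   (51, 0, 0), (53, 0, 0), (220, 0, 0), (216, 4, 1), (86, 0, 0), (252, 0, 0), (118, 0, 0),
   (243, 0, 0), (111, 0, 0), (74, 0, 0), (94, 5, 1), (192, 0, 0), (269, 0, 0), (41, 0, 0),
   (178, 0, 0), (167, 0, 0), (194, 0, 0), (270, 0, 0), (60, 0, 0), (24, 0, 0), (155, 0, 0),
   (124, 0, 0), (145, 0, 0), (182, 0, 0), (239, 3, 6), (225, 0, 0), (90, 0, 0), (237, 0, 0),
   (113, 0, 0), (222, 0, 0), (84, 0, 0)]

/-- tree pairPairT2 -/
def pairPairT2 : List (ℕ × ℕ × ℕ) :=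
  pairPairT2_0 ++ pairPairT2_1

/-- the orbit classes -/
def pairPairCls : List (ℕ × List (ℕ × ℕ × ℕ)) :=
  [(0, pairPairT0), (1, pairPairT1), (5, pairPairT2)]

theorem pairPair_ok : pairK.splitOK pairPairL pairPairGens pairPairCls = true := by decide +kernel

theorem pairPair_sizes : (pairPairCls.map fun c =>
    (classList pairK.ix.n fun i => decide (pairK.invsIx pairPairL i = pairK.invsIx pairPairL c.1)).length) = [1, 44, 231] := by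
  decide +kernel

/-- part 0 of pairPairU0 -/
def pairPairU0_0 : List (ℕ × ℕ × ℕ) := [
   (1, 0, 0), (153, 0, 0), (15, 0, 0), (6, 0, 0), (137, 1, 0), (233, 0, 0), (164, 0, 0),
   (97, 0, 0), (175, 0, 0), (150, 1, 0), (250, 0, 0), (147, 0, 0), (245, 0, 0), (182, 0, 0),
   (94, 1, 0), (174, 0, 0), (139, 0, 0), (234, 0, 0), (58, 0, 0), (5, 1, 0), (156, 0, 0),
   (18, 0, 0), (9, 0, 0), (4, 0, 0), (67, 3, 0), (80, 0, 0), (161, 0, 0), (42, 0, 0),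
   (124, 0, 0), (145, 1, 0), (247, 0, 0), (77, 0, 0), (104, 0, 0), (179, 0, 0), (224, 1, 0),
   (178, 0, 0), (207, 0, 0), (236, 0, 0), (65, 0, 0), (48, 1, 0), (213, 0, 0), (24, 0, 0),
   (193, 0, 0), (13, 0, 0), (23, 1, 0), (208, 0, 0), (20, 0, 0), (49, 0, 0), (211, 0, 0),
   (78, 1, 0), (28, 0, 0), (36, 0, 0), (120, 0, 0), (66, 0, 0), (16, 1, 0), (8, 0, 0),
   (154, 0, 0), (17, 0, 0), (157, 0, 0), (140, 1, 0), (232, 0, 0), (57, 0, 0), (167, 0, 0),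
   (177, 0, 0), (99, 1, 0), (180, 0, 0), (152, 0, 0), (243, 0, 0), (89, 0, 0), (216, 2, 0),
   (25, 0, 0), (191, 0, 0), (12, 0, 0), (163, 0, 0), (165, 2, 0), (84, 0, 0), (32, 0, 0),
   (37, 0, 0), (122, 0, 0), (129, 1, 0), (132, 0, 0), (90, 0, 0), (86, 0, 0), (44, 0, 0),
   (229, 1, 0), (143, 0, 0), (251, 0, 0), (60, 0, 0), (101, 0, 0), (200, 1, 0), (215, 0, 0),
   (52, 0, 0), (230, 0, 0), (26, 0, 0), (160, 1, 0), (196, 0, 0), (14, 0, 0), (46, 0, 0),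
   (212, 0, 0), (133, 1, 0), (74, 0, 0), (87, 0, 0), (128, 0, 0), (75, 0, 0), (220, 3, 0),
   (217, 0, 0), (197, 0, 0), (195, 0, 0), (50, 0, 0), (189, 2, 0), (142, 0, 0), (235, 0, 0),
   (56, 0, 0), (93, 0, 0), (206, 1, 0), (71, 0, 0), (88, 0, 0), (218, 0, 0), (43, 0, 0),
   (130, 3, 0), (222, 0, 0), (85, 0, 0), (198, 0, 0), (41, 0, 0), (109, 4, 0), (106, 0, 0),
   (107, 0, 0), (168, 0, 0), (111, 0, 0), (204, 2, 0), (176, 0, 0), (146, 0, 0), (252, 0, 0),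
   (62, 0, 0), (51, 2, 0), (214, 0, 0), (22, 0, 0), (192, 0, 0), (158, 0, 0), (183, 2, 0),
   (149, 0, 0), (239, 0, 0), (64, 0, 0), (134, 0, 0), (199, 1, 0), (125, 0, 0), (76, 0, 0),
   (223, 0, 0), (35, 0, 0), (228, 1, 0)]

/-- part 1 of pairPairU0 -/
def pairPairU0_1 : List (ℕ × ℕ × ℕ) := [
   (27, 0, 0), (194, 0, 0), (11, 0, 0), (47, 0, 0), (100, 3, 0), (187, 0, 0), (148, 0, 0),
   (244, 0, 0), (63, 0, 0), (205, 3, 0), (110, 0, 0), (115, 0, 0), (225, 0, 0), (112, 0, 0),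
   (127, 3, 0), (202, 0, 0), (83, 0, 0), (53, 0, 0), (219, 0, 0), (184, 1, 0), (144, 0, 0),
   (240, 0, 0), (131, 0, 0), (103, 0, 0), (33, 2, 0), (54, 0, 0), (226, 0, 0), (73, 0, 0),
   (203, 0, 0), (275, 1, 0), (264, 0, 0), (267, 0, 0), (272, 0, 0), (270, 0, 0), (119, 5, 0),
   (186, 0, 0), (151, 0, 0), (246, 0, 0), (116, 0, 0), (69, 1, 0), (81, 0, 0), (31, 0, 0),
   (39, 0, 0), (123, 0, 0), (38, 1, 0), (169, 0, 0), (72, 0, 0), (82, 0, 0), (29, 0, 0),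
   (210, 1, 0), (21, 0, 0), (190, 0, 0), (10, 0, 0), (45, 0, 0), (171, 2, 1), (136, 0, 0),
   (231, 0, 0), (55, 0, 0), (91, 0, 0), (253, 6, 0), (105, 5, 0), (92, 1, 6), (173, 0, 0),
   (170, 0, 0), (237, 0, 0), (59, 0, 0), (61, 2, 0), (95, 0, 0), (172, 0, 0), (138, 0, 0),
   (249, 0, 0), (188, 3, 0), (248, 0, 0), (242, 0, 0), (102, 0, 0), (185, 0, 0), (162, 4, 0),
   (126, 0, 0), (70, 0, 0), (79, 0, 0), (30, 0, 0), (118, 2, 0), (113, 0, 0), (114, 0, 0),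
   (135, 0, 0), (117, 0, 0), (96, 2, 0), (181, 0, 0), (227, 0, 0), (238, 0, 0), (201, 0, 0),
   (256, 1, 0), (258, 5, 1), (263, 0, 0), (274, 0, 0), (260, 0, 0), (273, 0, 0), (255, 2, 2),
   (271, 0, 0), (259, 0, 0), (257, 0, 0), (254, 0, 0), (2, 2, 0), (155, 0, 0), (159, 0, 0),
   (19, 0, 0), (7, 0, 0), (141, 1, 6), (241, 0, 0), (221, 0, 0), (98, 0, 0), (209, 0, 0),
   (68, 2, 7), (166, 0, 0), (34, 0, 0), (40, 0, 0), (121, 0, 0), (108, 5, 5), (269, 2, 8),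
   (265, 0, 0), (266, 0, 0), (261, 0, 0), (262, 0, 0), (268, 5, 56), (3, 1, 69)]

/-- tree pairPairU0 -/
def pairPairU0 : List (ℕ × ℕ × ℕ) :=
  pairPairU0_0 ++ pairPairU0_1

/-- part 0 of pairPairU1 -/
def pairPairU1_0 : List (ℕ × ℕ × ℕ) := [
   (5, 0, 0), (14, 0, 0), (27, 0, 0), (44, 0, 0), (65, 0, 0), (90, 0, 0), (119, 0, 0),
   (152, 0, 0), (189, 0, 0), (230, 0, 0), (231, 0, 0), (2, 0, 0), (9, 0, 0), (20, 0, 0),
   (35, 0, 0), (54, 0, 0), (77, 0, 0), (104, 0, 0), (135, 0, 0), (170, 0, 0), (209, 0, 0),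
   (252, 0, 0), (118, 1, 0), (151, 0, 0), (188, 0, 0), (229, 0, 0), (210, 0, 0), (1, 0, 0),
   (8, 0, 0), (19, 0, 0), (34, 0, 0), (53, 0, 0), (76, 0, 0), (103, 0, 0), (134, 0, 0),
   (169, 0, 0), (208, 0, 0), (251, 0, 0), (232, 0, 0), (4, 0, 0), (13, 0, 0), (26, 0, 0),
   (43, 0, 0), (64, 0, 0), (89, 0, 0), (234, 1, 0), (11, 0, 0), (24, 0, 0), (41, 0, 0),
   (62, 0, 0), (87, 0, 0), (116, 0, 0), (149, 0, 0), (186, 0, 0), (227, 0, 0), (171, 0, 0),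
   (212, 0, 0), (6, 0, 0), (17, 0, 0), (32, 0, 0), (51, 0, 0), (74, 0, 0), (101, 0, 0),
   (132, 0, 0), (167, 0, 0), (206, 0, 0), (249, 0, 0), (191, 0, 0), (253, 1, 0), (255, 0, 0),
   (257, 0, 0), (259, 0, 0), (261, 0, 0), (263, 0, 0), (265, 0, 0), (267, 0, 0), (269, 0, 0),
   (271, 0, 0), (273, 0, 0), (275, 0, 0), (254, 0, 0), (256, 0, 0), (258, 0, 0), (260, 0, 0),
   (262, 0, 0), (264, 0, 0), (266, 0, 0), (268, 0, 0), (270, 0, 0), (272, 0, 0), (274, 0, 0),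
   (83, 1, 0), (112, 0, 0), (145, 0, 0), (182, 0, 0), (223, 0, 0), (105, 0, 0), (138, 0, 0),
   (175, 0, 0), (216, 0, 0), (28, 0, 0), (47, 0, 0), (70, 0, 0), (97, 0, 0), (128, 0, 0),
   (163, 0, 0), (202, 0, 0), (245, 0, 0), (121, 0, 0), (156, 0, 0), (195, 0, 0), (238, 0, 0),
   (37, 0, 0), (58, 0, 0), (18, 2, 0), (33, 0, 0), (52, 0, 0), (75, 0, 0), (102, 0, 0),
   (133, 0, 0), (168, 0, 0), (207, 0, 0), (250, 0, 0), (211, 0, 0), (3, 0, 0), (12, 0, 0),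
   (25, 0, 0), (42, 0, 0), (63, 0, 0), (88, 0, 0), (117, 0, 0), (150, 0, 0), (187, 0, 0),
   (228, 0, 0), (190, 0, 0), (233, 0, 0), (7, 0, 0), (136, 1, 0), (173, 0, 0), (214, 0, 0),
   (15, 0, 0), (30, 0, 0), (49, 0, 0), (72, 0, 0), (99, 0, 0), (130, 0, 0), (165, 0, 0),
   (204, 0, 0), (247, 0, 0), (154, 0, 0)]

/-- part 1 of pairPairU1 -/
def pairPairU1_1 : List (ℕ × ℕ × ℕ) := [
   (193, 0, 0), (236, 0, 0), (22, 0, 0), (39, 0, 0), (60, 0, 0), (85, 0, 0), (114, 0, 0),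
   (147, 0, 0), (184, 0, 0), (225, 0, 0), (160, 3, 0), (199, 0, 0), (242, 0, 0), (79, 0, 0),
   (108, 0, 0), (141, 0, 0), (178, 0, 0), (219, 0, 0), (55, 0, 0), (80, 0, 0), (109, 0, 0),
   (142, 0, 0), (179, 0, 0), (220, 0, 0), (66, 0, 0), (93, 0, 0), (124, 0, 0), (159, 0, 0),
   (198, 0, 0), (241, 0, 0), (67, 0, 0), (94, 0, 0), (125, 0, 0), (181, 5, 0), (222, 0, 0),
   (91, 0, 0), (122, 0, 0), (157, 0, 0), (196, 0, 0), (239, 0, 0), (46, 0, 0), (69, 0, 0),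
   (96, 0, 0), (127, 0, 0), (162, 0, 0), (201, 0, 0), (244, 0, 0), (106, 0, 0), (139, 0, 0),
   (176, 0, 0), (217, 0, 0), (36, 0, 0), (57, 0, 0), (82, 0, 0), (111, 0, 0), (144, 0, 0),
   (221, 1, 0), (78, 0, 0), (107, 0, 0), (140, 0, 0), (177, 0, 0), (218, 0, 0), (45, 0, 0),
   (68, 0, 0), (95, 0, 0), (126, 0, 0), (161, 0, 0), (200, 0, 0), (243, 0, 0), (92, 0, 0),
   (123, 0, 0), (158, 0, 0), (197, 0, 0), (240, 0, 0), (56, 0, 0), (81, 0, 0), (110, 0, 0),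
   (143, 0, 0), (180, 0, 0), (185, 1, 0), (226, 0, 0), (153, 0, 0), (192, 0, 0), (235, 0, 0),
   (16, 0, 0), (31, 0, 0), (50, 0, 0), (73, 0, 0), (100, 0, 0), (131, 0, 0), (166, 0, 0),
   (205, 0, 0), (248, 0, 0), (172, 0, 0), (213, 0, 0), (10, 0, 0), (23, 0, 0), (40, 0, 0),
   (61, 0, 0), (86, 0, 0), (115, 0, 0), (148, 0, 0), (84, 5, 1), (113, 0, 0), (146, 0, 0),
   (183, 0, 0), (224, 0, 0), (120, 0, 0), (155, 0, 0), (194, 0, 0), (237, 0, 0), (29, 0, 0),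
   (48, 0, 0), (71, 0, 0), (98, 0, 0), (129, 0, 0), (164, 0, 0), (203, 0, 0), (246, 0, 0),
   (137, 0, 0), (174, 0, 0), (215, 0, 0), (21, 0, 0), (38, 0, 0), (59, 0, 0)]

/-- tree pairPairU1 -/
def pairPairU1 : List (ℕ × ℕ × ℕ) :=
  pairPairU1_0 ++ pairPairU1_1

/-- enlargements -/
def pairPairUp : List ((ℕ × ℕ) × List (ℕ × ℕ × ℕ)) :=
  [((969952412052033243847481939299780672, 0), pairPairU0),
   ((956709441910203461498593497208492130, 0), pairPairU1)]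

theorem pairPair_max : pairK.maxOK pairPairL pairPairGens 0 pairPairCls pairPairUp = true := by decide +kernel

end CfsgLib.Spor
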