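import Cfsg.Agent.Lib.Spor.OrbitDuum

/-!
Certificate: orbits on indexed objects of kind octK.
-/

set_option autoImplicit false
set_option maxRecDepth 100000

namespace CfsgLib.Spor

open Cfsg
open scoped Pointwise

/-- families fixed -/
def pt2OctL : List (List ℕ) := [[1], [2]]

/-- generators -/
def pt2OctGens : List ℕ := [611743277426322653411193654154136608,
  807510095915769628957250280525056032,
  305152157417112622182521377882002464,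
  236843290561071580931006279557718048,
  761464651246596012541043340406434848,
  404537146361880892171060054316107808]

/-- part 0 of pt2OctT0 -/
def pt2OctT0_0 : List (ℕ × ℕ × ℕ) := [
   (274, 0, 0), (13, 0, 0), (73, 0, 0), (731, 1, 0), (590, 0, 0), (322, 0, 0), (417, 0, 0),
   (213, 1, 0), (248, 0, 0), (343, 0, 0), (654, 0, 0), (111, 1, 0), (40, 0, 0), (508, 1, 0),
   (3, 0, 0), (228, 0, 0), (450, 0, 0), (369, 1, 0), (742, 0, 0), (712, 0, 0), (525, 0, 0),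
   (98, 1, 0), (47, 0, 0), (256, 0, 0), (265, 0, 0), (95, 2, 0), (330, 0, 0), (548, 0, 0),
   (226, 0, 0), (86, 4, 0), (488, 0, 0), (540, 0, 0), (115, 0, 0), (152, 1, 0), (376, 2, 0),
   (527, 0, 0), (108, 0, 0), (236, 0, 0), (35, 3, 0), (387, 0, 0), (695, 0, 0), (646, 0, 0),
   (445, 1, 0), (614, 0, 0), (178, 0, 0), (175, 0, 0), (291, 1, 0), (201, 0, 0), (490, 1, 0),
   (674, 0, 0), (134, 0, 0), (155, 0, 0), (628, 1, 0), (61, 0, 0), (9, 0, 0), (384, 0, 0),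
   (11, 1, 0), (361, 0, 0), (691, 0, 0), (528, 0, 0), (585, 1, 0), (334, 0, 0), (27, 5, 1),
   (222, 0, 0), (420, 5, 0), (591, 0, 0), (131, 3, 0), (190, 0, 0), (142, 0, 0), (310, 0, 0),
   (464, 1, 5), (513, 0, 0), (567, 3, 0), (83, 0, 0), (52, 0, 0), (365, 0, 0)]

/-- tree pt2OctT0 -/
def pt2OctT0 : List (ℕ × ℕ × ℕ) :=
  pt2OctT0_0

/-- part 0 of pt2OctT1 -/
def pt2OctT1_0 : List (ℕ × ℕ × ℕ) := [
   (66, 0, 0), (16, 0, 0), (279, 0, 0), (544, 1, 0), (354, 0, 0), (660, 0, 0), (359, 0, 0),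
   (554, 1, 0), (221, 0, 0), (486, 0, 0), (738, 0, 0), (82, 1, 0), (268, 0, 0), (363, 0, 0),
   (649, 0, 0), (182, 1, 0), (132, 0, 0), (314, 0, 0), (145, 0, 0), (469, 1, 0), (627, 0, 0),
   (272, 0, 0), (6, 0, 0), (641, 2, 0), (335, 0, 0), (531, 2, 0), (374, 0, 0), (538, 0, 0),
   (479, 0, 0), (69, 1, 0), (104, 0, 0), (396, 0, 0), (556, 0, 0), (617, 1, 0), (440, 0, 0),
   (676, 0, 0), (500, 0, 0), (303, 1, 0), (295, 0, 0), (423, 0, 0), (594, 0, 0), (478, 1, 0),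
   (568, 0, 0), (246, 0, 0), (55, 0, 0), (598, 2, 0), (414, 0, 0), (261, 1, 0), (338, 0, 0),
   (718, 0, 0), (510, 0, 0), (128, 1, 0), (91, 0, 0), (124, 0, 0), (244, 0, 0), (29, 3, 0),
   (70, 0, 0), (468, 0, 0), (571, 0, 0), (720, 1, 0), (662, 0, 0), (117, 0, 0), (379, 0, 0),
   (588, 1, 0), (170, 0, 0), (416, 0, 0), (758, 0, 0), (408, 4, 0), (516, 0, 0), (383, 1, 0),
   (577, 0, 0), (60, 0, 0), (285, 0, 0), (429, 1, 0), (612, 0, 0), (186, 0, 0), (200, 0, 0),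
   (305, 3, 0), (442, 0, 0), (600, 0, 0), (165, 0, 0), (606, 2, 0), (161, 0, 0), (188, 0, 0),
   (497, 0, 0), (633, 1, 0), (340, 0, 0), (687, 0, 0), (744, 0, 0), (106, 1, 0), (347, 0, 0),
   (749, 0, 0), (521, 0, 0), (100, 1, 0), (262, 0, 0), (257, 0, 0), (46, 0, 0), (43, 2, 0),
   (350, 0, 0), (639, 0, 0), (234, 0, 0), (564, 3, 0), (457, 0, 0), (706, 0, 0), (686, 0, 0),
   (239, 2, 0), (251, 0, 0), (232, 0, 0), (78, 0, 0), (120, 3, 0), (26, 0, 0), (473, 5, 0),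
   (697, 0, 0), (562, 0, 0), (36, 0, 0), (682, 2, 0), (536, 0, 0), (22, 0, 0), (356, 0, 0),
   (703, 1, 0), (547, 0, 0), (394, 0, 0), (713, 0, 0), (93, 2, 1), (63, 0, 0), (372, 0, 0),
   (560, 0, 0), (324, 2, 0), (318, 0, 0), (171, 0, 0), (164, 0, 0), (292, 1, 1), (217, 1, 0),
   (459, 0, 0), (518, 0, 0), (18, 0, 0), (669, 2, 0), (149, 0, 0), (496, 0, 0), (722, 0, 0),
   (283, 1, 0), (227, 0, 0), (402, 0, 0), (507, 0, 0), (87, 1, 0), (344, 0, 0), (541, 0, 0),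
   (216, 0, 0), (158, 2, 0), (448, 1, 2)]

/-- part 1 of pt2OctT1 -/
def pt2OctT1_1 : List (ℕ × ℕ × ℕ) := [
   (726, 0, 0), (625, 0, 0), (140, 0, 0), (151, 3, 0), (329, 0, 0), (667, 1, 0), (197, 0, 0),
   (137, 0, 0), (437, 0, 0), (300, 1, 9), (179, 0, 0), (412, 0, 0), (620, 0, 0), (37, 4, 1),
   (211, 0, 0), (49, 3, 0), (21, 0, 0), (390, 0, 0), (634, 0, 0), (5, 4, 3), (122, 0, 0),
   (453, 0, 0), (663, 0, 0), (729, 2, 6), (203, 2, 5)]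

/-- tree pt2OctT1 -/
def pt2OctT1 : List (ℕ × ℕ × ℕ) :=
  pt2OctT1_0 ++ pt2OctT1_1

/-- part 0 of pt2OctT2 -/
def pt2OctT2_0 : List (ℕ × ℕ × ℕ) := [
   (282, 0, 0), (415, 1, 0), (728, 0, 0), (596, 0, 0), (162, 0, 0), (652, 1, 0), (50, 0, 0),
   (280, 0, 0), (382, 0, 0), (657, 2, 0), (366, 0, 0), (545, 0, 0), (480, 0, 0), (353, 1, 0),
   (537, 0, 0), (711, 1, 0), (578, 0, 0), (250, 0, 0), (404, 0, 0), (139, 1, 0), (501, 0, 0),
   (723, 0, 0), (621, 0, 0), (752, 1, 0), (530, 0, 0), (72, 0, 0), (357, 0, 0), (511, 1, 0),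
   (123, 0, 0), (348, 0, 0), (719, 0, 0), (447, 1, 0), (602, 0, 0), (371, 2, 0), (640, 0, 0),
   (81, 0, 0), (33, 0, 0), (690, 1, 0), (543, 0, 0), (23, 0, 0), (482, 0, 0), (59, 1, 0),
   (71, 0, 0), (391, 0, 0), (575, 0, 0), (581, 1, 0), (30, 0, 0), (284, 0, 0), (462, 0, 0),
   (520, 1, 0), (220, 0, 0), (337, 0, 0), (743, 0, 0), (392, 1, 0), (515, 0, 0), (471, 0, 0),
   (524, 0, 0), (90, 1, 0), (243, 0, 0), (252, 0, 0), (79, 0, 0), (113, 3, 0), (57, 0, 0),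
   (121, 0, 0), (263, 0, 0), (54, 1, 0), (351, 0, 0), (559, 0, 0), (240, 0, 0), (699, 1, 0),
   (685, 0, 0), (642, 0, 0), (461, 0, 0), (10, 2, 0), (375, 0, 0), (683, 0, 0), (659, 0, 0),
   (99, 1, 0), (25, 0, 0), (260, 0, 0), (38, 0, 0), (595, 1, 1), (185, 0, 0), (301, 0, 0),
   (433, 0, 0), (315, 1, 0), (296, 0, 0), (502, 0, 0), (586, 0, 0), (270, 1, 0), (224, 0, 0),
   (45, 0, 0), (212, 0, 0), (15, 1, 0), (304, 2, 0), (198, 0, 0), (427, 0, 0), (611, 0, 0),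
   (681, 1, 0), (191, 0, 0), (205, 0, 0), (430, 0, 0), (294, 1, 0), (147, 0, 0), (411, 0, 0),
   (666, 0, 0), (288, 4, 0), (7, 0, 0), (407, 0, 0), (635, 0, 0), (125, 3, 2), (400, 2, 0),
   (506, 0, 0), (68, 0, 0), (218, 0, 0), (20, 3, 1), (467, 0, 0), (626, 0, 0), (41, 0, 0),
   (535, 1, 0), (215, 0, 0), (238, 0, 0), (332, 0, 0), (565, 3, 1), (398, 0, 0), (704, 0, 0),
   (709, 0, 0), (346, 2, 0), (651, 0, 0), (336, 0, 0), (563, 0, 0), (97, 1, 0), (378, 0, 0),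
   (542, 0, 0), (102, 0, 0), (189, 1, 1), (438, 0, 0), (610, 0, 0), (166, 0, 0), (302, 3, 1),
   (144, 0, 0), (608, 2, 0), (418, 0, 0), (736, 0, 0), (754, 0, 0), (424, 3, 0), (670, 0, 0),
   (209, 4, 0), (133, 0, 0), (150, 3, 0)]

/-- part 1 of pt2OctT2 -/
def pt2OctT2_1 : List (ℕ × ℕ × ℕ) := [
   (163, 0, 0), (159, 0, 0), (323, 0, 0), (470, 1, 0), (572, 0, 0), (266, 0, 0), (76, 0, 0),
   (689, 2, 0), (748, 4, 3), (629, 0, 0), (89, 0, 0), (455, 0, 0), (495, 4, 1), (616, 0, 0),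
   (136, 0, 0), (169, 0, 0), (103, 4, 3), (452, 0, 0), (552, 0, 0), (19, 0, 0), (177, 2, 12),
   (183, 0, 0), (326, 0, 0), (309, 0, 0), (231, 2, 38)]

/-- tree pt2OctT2 -/
def pt2OctT2 : List (ℕ × ℕ × ℕ) :=
  pt2OctT2_0 ++ pt2OctT2_1

/-- part 0 of pt2OctT3 -/
def pt2OctT3_0 : List (ℕ × ℕ × ℕ) := [
   (110, 0, 0), (458, 0, 0), (557, 0, 0), (623, 1, 0), (293, 0, 0), (328, 0, 0), (410, 0, 0),
   (249, 1, 0), (456, 0, 0), (710, 0, 0), (630, 0, 0), (395, 1, 0), (519, 0, 0), (75, 0, 0),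
   (229, 0, 0), (48, 1, 0), (112, 0, 0), (271, 0, 0), (119, 0, 0), (432, 1, 0), (756, 0, 0),
   (678, 0, 0), (306, 0, 0), (638, 1, 0), (247, 0, 0), (32, 0, 0), (483, 0, 0), (561, 2, 0),
   (56, 0, 0), (475, 0, 0), (751, 0, 0), (114, 1, 0), (237, 0, 0), (487, 0, 0), (534, 0, 0),
   (362, 2, 0), (741, 0, 0), (745, 0, 0), (517, 0, 0), (399, 1, 0), (664, 0, 0), (67, 0, 0),
   (116, 0, 0), (143, 1, 0), (207, 0, 0), (757, 1, 0), (601, 0, 0), (194, 0, 0), (426, 0, 0),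
   (650, 1, 0), (64, 0, 0), (388, 0, 0), (750, 0, 0), (94, 1, 0), (42, 0, 0), (364, 0, 0),
   (643, 0, 0), (570, 1, 0), (333, 0, 0), (648, 0, 0), (345, 0, 0), (44, 2, 0), (409, 0, 0),
   (696, 0, 0), (584, 0, 0), (622, 1, 0), (196, 0, 0), (180, 0, 0), (435, 0, 0), (672, 1, 0),
   (441, 0, 0), (725, 0, 0), (732, 0, 0), (504, 1, 0), (597, 0, 0), (436, 0, 0), (592, 0, 0),
   (609, 2, 0), (320, 0, 0), (187, 0, 0), (499, 0, 0), (299, 1, 0), (138, 0, 0), (419, 0, 0),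
   (671, 0, 0), (286, 1, 0), (14, 0, 0), (58, 1, 0), (223, 0, 0), (264, 0, 0), (210, 0, 0),
   (349, 1, 0), (739, 0, 0), (512, 0, 0), (230, 0, 0), (647, 3, 0), (269, 0, 0), (393, 0, 0),
   (705, 0, 0), (204, 1, 0), (148, 0, 0), (505, 0, 0), (668, 0, 0), (174, 2, 0), (491, 0, 0),
   (619, 0, 0), (146, 0, 0), (477, 1, 0), (509, 0, 0), (276, 0, 0), (219, 0, 0), (514, 2, 0),
   (386, 0, 0), (523, 0, 0), (474, 0, 0), (235, 2, 0), (62, 0, 0), (358, 0, 0), (566, 0, 0),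
   (636, 3, 0), (31, 0, 0), (8, 0, 0), (463, 0, 0), (694, 1, 0), (129, 1, 0), (53, 0, 0),
   (489, 0, 0), (558, 0, 0), (96, 1, 0), (485, 0, 0), (539, 0, 0), (258, 0, 0), (730, 1, 0),
   (589, 0, 0), (157, 0, 0), (422, 0, 0), (460, 1, 0), (580, 0, 0), (206, 1, 0), (317, 0, 0),
   (202, 0, 0), (195, 0, 0), (449, 2, 0), (615, 0, 0), (327, 0, 0), (168, 0, 0), (494, 1, 0),
   (675, 0, 0), (135, 0, 0), (321, 0, 0)]

/-- part 1 of pt2OctT3 -/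
def pt2OctT3_1 : List (ℕ × ℕ × ℕ) := [
   (583, 2, 0), (84, 0, 0), (289, 0, 0), (373, 0, 0), (24, 2, 0), (368, 0, 0), (692, 0, 0),
   (656, 0, 0), (275, 2, 0), (278, 0, 0), (65, 0, 0), (74, 0, 0), (587, 1, 0), (192, 0, 0),
   (297, 0, 0), (431, 0, 0), (493, 1, 0), (755, 0, 0), (727, 0, 0), (593, 0, 0), (645, 2, 0),
   (241, 0, 0), (267, 0, 0), (352, 0, 0), (579, 3, 1), (88, 0, 0), (405, 0, 0), (747, 0, 0),
   (39, 2, 0), (255, 0, 0), (28, 0, 0), (107, 0, 0), (693, 1, 0), (716, 0, 0), (632, 0, 0),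
   (380, 0, 0), (604, 1, 0), (313, 0, 0), (428, 0, 0), (734, 0, 0), (287, 1, 0), (105, 0, 0),
   (401, 0, 0), (553, 0, 0), (141, 1, 1), (446, 0, 0), (724, 0, 0), (677, 0, 0), (680, 1, 0),
   (413, 0, 0), (613, 0, 0), (421, 0, 0), (582, 5, 0), (403, 0, 0), (181, 1, 0), (156, 0, 0),
   (444, 0, 0), (673, 0, 0), (377, 2, 0), (655, 0, 0), (101, 0, 0), (254, 0, 0), (700, 1, 1),
   (644, 0, 0), (34, 0, 0), (465, 0, 0), (522, 1, 0), (118, 0, 0), (339, 0, 0), (721, 0, 0),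
   (130, 4, 1), (307, 0, 0), (576, 4, 0), (341, 0, 0), (708, 0, 0), (740, 0, 0), (109, 1, 0),
   (85, 0, 0), (381, 0, 0), (549, 0, 0), (425, 2, 1), (624, 0, 0), (503, 1, 0), (737, 0, 0),
   (607, 0, 0), (208, 0, 0), (325, 1, 1), (184, 0, 0), (176, 0, 0), (311, 0, 0), (707, 2, 1),
   (529, 0, 0), (277, 0, 0), (355, 0, 0), (688, 1, 0), (753, 0, 0), (80, 2, 0), (253, 0, 0),
   (245, 0, 0), (92, 0, 0), (476, 5, 3), (653, 0, 0), (397, 0, 0), (574, 0, 0), (77, 3, 0),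
   (385, 0, 0), (573, 0, 0), (51, 0, 0), (526, 3, 0), (225, 0, 0), (242, 0, 0), (342, 0, 0),
   (367, 1, 0), (658, 0, 0), (481, 0, 0), (546, 0, 0), (172, 4, 0), (153, 0, 0), (319, 0, 0),
   (160, 0, 0), (637, 1, 0), (454, 0, 0), (631, 2, 0), (406, 0, 0), (154, 1, 0), (308, 0, 0),
   (498, 0, 0), (599, 0, 0), (472, 2, 1), (701, 0, 0), (569, 0, 0), (273, 0, 0), (167, 1, 3),
   (312, 0, 0), (439, 0, 0), (679, 0, 0), (443, 3, 1), (605, 0, 0), (173, 0, 0), (193, 0, 0),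
   (290, 3, 1), (316, 0, 0), (298, 0, 0), (199, 0, 0), (746, 4, 0), (702, 0, 0), (533, 0, 0),
   (389, 0, 0), (12, 5, 1), (484, 0, 0)]

/-- part 2 of pt2OctT3 -/
def pt2OctT3_2 : List (ℕ × ℕ × ℕ) := [
   (684, 0, 0), (550, 0, 0), (466, 3, 6), (714, 0, 0), (698, 0, 0), (551, 0, 0), (331, 2, 1),
   (665, 0, 0), (214, 0, 0), (127, 0, 0), (555, 1, 6), (370, 0, 0), (717, 0, 0), (715, 0, 0),
   (532, 5, 1), (360, 0, 0), (451, 2, 1), (661, 0, 0), (17, 0, 0), (259, 0, 0), (733, 5, 8),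
   (735, 0, 0), (618, 0, 0), (434, 0, 0), (233, 4, 15), (126, 0, 0), (281, 5, 2), (603, 4, 82),
   (492, 0, 0)]

/-- tree pt2OctT3 -/
def pt2OctT3 : List (ℕ × ℕ × ℕ) :=
  pt2OctT3_0 ++ pt2OctT3_1 ++ pt2OctT3_2

/-- the orbit classes -/
def pt2OctCls : List (ℕ × List (ℕ × ℕ × ℕ)) :=
  [(0, pt2OctT0), (1, pt2OctT1), (2, pt2OctT2), (4, pt2OctT3)]

theorem pt2Oct_ok : octK.splitOK pt2OctL pt2OctGens pt2OctCls = true := by decide +kernel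

theorem pt2Oct_sizes : (pt2OctCls.map fun c =>
    (classList octK.ix.n fun i => decide (octK.invsIx pt2OctL i = octK.invsIx pt2OctL c.1)).length) = [77, 176, 176, 330] := by
  decide +kernel

end CfsgLib.Spor
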