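import Cfsg.Agent.Lib.Spor.OrbitDuum

/-!
Certificate: orbits on indexed objects of kind pairK.
-/

set_option autoImplicit false
set_option maxRecDepth 100000

namespace CfsgLib.Spor

open Cfsg
open scoped Pointwise

/-- families fixed -/
def pt2PairL : List (List ℕ) := [[1], [2]]

/-- generators -/
def pt2PairGens : List ℕ := [378049425217501326900040845492750368,
  646914713746225266781198884756633632,
  833498266230479603709499266478818336,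
  424094347094134629379309800165359648,
  601216351836015194673517220959241248,
  973002580638957797571663740609810464]

/-- part 0 of pt2PairT0 -/
def pt2PairT0_0 : List (ℕ × ℕ × ℕ) := [
]

/-- tree pt2PairT0 -/
def pt2PairT0 : List (ℕ × ℕ × ℕ) :=
  pt2PairT0_0

/-- part 0 of pt2PairT1 -/
def pt2PairT1_0 : List (ℕ × ℕ × ℕ) := [
   (91, 1, 0), (78, 1, 0), (55, 0, 0), (171, 0, 0), (253, 1, 0), (36, 0, 0), (105, 0, 0),
   (10, 1, 0), (66, 0, 0), (153, 0, 0), (28, 1, 0), (6, 0, 0), (15, 0, 0), (3, 3, 0),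
   (120, 0, 0), (231, 0, 0), (136, 3, 1), (210, 0, 0), (21, 0, 0), (190, 3, 0), (45, 2, 0)]

/-- tree pt2PairT1 -/
def pt2PairT1 : List (ℕ × ℕ × ℕ) :=
  pt2PairT1_0

/-- part 0 of pt2PairT2 -/
def pt2PairT2_0 : List (ℕ × ℕ × ℕ) := [
   (92, 1, 0), (79, 1, 0), (56, 0, 0), (172, 0, 0), (254, 1, 0), (37, 0, 0), (106, 0, 0),
   (11, 1, 0), (67, 0, 0), (154, 0, 0), (29, 1, 0), (7, 0, 0), (16, 0, 0), (4, 3, 0),
   (121, 0, 0), (232, 0, 0), (137, 3, 1), (211, 0, 0), (22, 0, 0), (191, 3, 0), (46, 2, 0)]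

/-- tree pt2PairT2 -/
def pt2PairT2 : List (ℕ × ℕ × ℕ) :=
  pt2PairT2_0

/-- part 0 of pt2PairT3 -/
def pt2PairT3_0 : List (ℕ × ℕ × ℕ) := [
   (122, 0, 0), (233, 0, 0), (167, 1, 0), (96, 0, 0), (103, 0, 0), (88, 1, 0), (65, 0, 0),
   (181, 0, 0), (273, 1, 0), (199, 0, 0), (205, 0, 0), (215, 1, 0), (73, 0, 0), (170, 0, 0),
   (32, 1, 0), (19, 0, 0), (34, 0, 0), (142, 1, 0), (218, 0, 0), (25, 0, 0), (247, 1, 0),
   (234, 0, 0), (123, 0, 0), (252, 2, 0), (24, 0, 0), (152, 0, 0), (8, 1, 0), (17, 0, 0),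
   (30, 0, 0), (150, 1, 0), (224, 0, 0), (98, 0, 0), (133, 1, 0), (242, 0, 0), (174, 0, 0),
   (256, 1, 0), (129, 0, 0), (246, 0, 0), (158, 1, 0), (71, 0, 0), (165, 0, 0), (53, 1, 0),
   (49, 0, 0), (51, 0, 0), (196, 1, 0), (198, 0, 0), (194, 0, 0), (76, 2, 0), (163, 0, 0),
   (50, 0, 0), (258, 2, 0), (75, 0, 0), (168, 0, 0), (33, 1, 0), (70, 0, 0), (159, 0, 0),
   (114, 2, 0), (268, 0, 0), (262, 0, 0), (186, 1, 0), (266, 0, 0), (64, 0, 0), (183, 1, 0),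
   (166, 0, 0), (60, 0, 0), (264, 2, 0), (180, 0, 0), (118, 0, 0), (26, 1, 0), (148, 0, 0),
   (228, 0, 0), (63, 1, 0), (175, 0, 0), (84, 0, 0), (27, 1, 0), (144, 0, 0), (214, 0, 0),
   (69, 2, 0), (169, 0, 0), (236, 0, 0), (162, 1, 0), (110, 0, 0), (265, 0, 0), (115, 1, 0),
   (263, 0, 0), (54, 0, 0), (209, 1, 0), (203, 0, 0), (201, 0, 0), (222, 1, 0), (160, 0, 0),
   (141, 0, 0), (40, 1, 0), (111, 0, 0), (261, 0, 0), (151, 1, 0), (274, 0, 0), (43, 0, 0),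
   (187, 1, 0), (244, 0, 0), (58, 0, 0), (221, 2, 0), (178, 0, 0), (149, 0, 0), (57, 3, 0),
   (173, 0, 0), (80, 0, 0), (188, 2, 0), (223, 0, 0), (62, 0, 0), (132, 1, 0), (249, 0, 0),
   (13, 0, 0), (39, 1, 0), (135, 0, 0), (275, 0, 0), (192, 2, 0), (146, 2, 0), (220, 0, 0),
   (52, 0, 0), (206, 1, 0), (251, 0, 0), (193, 0, 0), (213, 1, 0), (127, 0, 0), (248, 0, 0),
   (157, 1, 0), (20, 0, 0), (74, 0, 0), (112, 3, 0), (270, 0, 0), (219, 0, 0), (182, 1, 0),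
   (184, 0, 0), (89, 0, 0), (212, 3, 0), (23, 0, 0), (138, 0, 0), (95, 1, 0), (97, 0, 0),
   (99, 0, 0), (113, 2, 1), (257, 0, 0), (42, 0, 0), (177, 1, 0), (86, 0, 0), (59, 0, 0),
   (243, 1, 0), (156, 0, 0), (125, 0, 0)]

/-- part 1 of pt2PairT3 -/
def pt2PairT3_1 : List (ℕ × ℕ × ℕ) := [
   (38, 1, 0), (107, 0, 0), (255, 0, 0), (119, 1, 0), (267, 0, 0), (100, 0, 0), (41, 3, 0),
   (117, 0, 0), (271, 0, 0), (104, 4, 0), (102, 0, 0), (185, 0, 0), (155, 4, 0), (12, 0, 0),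
   (68, 0, 0), (101, 1, 0), (227, 4, 1), (217, 0, 0), (143, 0, 0), (124, 1, 0), (237, 0, 0),
   (31, 0, 0), (139, 1, 0), (226, 0, 0), (238, 0, 0), (9, 1, 2), (126, 0, 0), (239, 0, 0),
   (93, 2, 0), (18, 3, 6), (128, 0, 0), (235, 0, 0), (85, 5, 0), (147, 0, 0), (229, 0, 0),
   (245, 3, 0), (94, 0, 0), (134, 0, 0), (145, 3, 0), (225, 0, 0), (260, 0, 0), (197, 2, 0),
   (207, 0, 0), (230, 0, 0), (48, 2, 0), (130, 0, 0), (241, 0, 0), (208, 1, 0), (195, 0, 0),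
   (202, 0, 0), (116, 5, 0), (272, 0, 0), (87, 0, 0), (82, 4, 5), (61, 0, 0), (179, 0, 0),
   (72, 1, 1), (161, 0, 0), (14, 0, 0), (240, 1, 0), (108, 0, 0), (269, 0, 0), (189, 1, 2),
   (83, 0, 0), (77, 0, 0), (164, 2, 0), (176, 0, 0), (90, 0, 0), (259, 2, 1), (44, 0, 0),
   (109, 0, 0), (216, 4, 5), (35, 0, 0), (140, 0, 0), (81, 5, 13), (131, 0, 0), (250, 0, 0),
   (200, 4, 2), (47, 4, 55), (204, 1, 0)]

/-- tree pt2PairT3 -/
def pt2PairT3 : List (ℕ × ℕ × ℕ) :=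
  pt2PairT3_0 ++ pt2PairT3_1

/-- the orbit classes -/
def pt2PairCls : List (ℕ × List (ℕ × ℕ × ℕ)) :=
  [(0, pt2PairT0), (1, pt2PairT1), (2, pt2PairT2), (5, pt2PairT3)]

theorem pt2Pair_ok : pairK.splitOK pt2PairL pt2PairGens pt2PairCls = true := by decide +kernel

theorem pt2Pair_sizes : (pt2PairCls.map fun c =>
    (classList pairK.ix.n fun i => decide (pairK.invsIx pt2PairL i = pairK.invsIx pt2PairL c.1)).length) = [1, 22, 22, 231] := by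
  decide +kernel

end CfsgLib.Spor
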