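import Cfsg.Agent.Lib.Spor.OrbitDuum

/-!
Certificate: orbits on indexed objects of kind octK.
-/

set_option autoImplicit false
set_option maxRecDepth 100000

namespace CfsgLib.Spor

open Cfsg
open scoped Pointwise

/-- families fixed -/
def sexOctL : List (List ℕ) := [[15, 5264, 622848, 3416064, 4196928, 8536096]]

/-- generators -/
def sexOctGens : List ℕ := [694848779984219922467711606004828821,
  335810321729187132516518373278598318,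
  791467336016182308942287527724853484,
  222523488766145789364117676009038320,
  653016975930445837786110796146006217,
  335807505270530386234639680634570469]

/-- part 0 of sexOctT0 -/
def sexOctT0_0 : List (ℕ × ℕ × ℕ) := [
   (311, 0, 0), (331, 0, 0), (529, 0, 0), (96, 0, 0), (499, 2, 0), (698, 0, 0), (576, 0, 0),
   (95, 0, 0), (310, 0, 0), (328, 3, 0), (330, 0, 0), (677, 0, 0), (393, 0, 0), (528, 0, 0)]

/-- tree sexOctT0 -/
def sexOctT0 : List (ℕ × ℕ × ℕ) :=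
  sexOctT0_0

/-- part 0 of sexOctT1 -/
def sexOctT1_0 : List (ℕ × ℕ × ℕ) := [
   (325, 0, 0), (86, 0, 0), (303, 0, 0), (168, 0, 0), (30, 0, 0), (249, 0, 0), (79, 0, 0),
   (256, 0, 0), (321, 0, 0), (26, 0, 0), (208, 0, 0), (6, 0, 0), (166, 0, 0), (281, 0, 0),
   (490, 1, 0), (673, 0, 0), (44, 0, 0), (34, 0, 0), (54, 0, 0), (470, 0, 0), (645, 0, 0),
   (107, 0, 0), (104, 0, 0), (188, 0, 0), (429, 0, 0), (607, 0, 0), (17, 0, 0), (81, 0, 0),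
   (265, 0, 0), (492, 1, 0), (558, 0, 0), (108, 0, 0), (295, 0, 0), (133, 0, 0), (476, 0, 0),
   (517, 0, 0), (38, 0, 0), (284, 0, 0), (211, 0, 0), (435, 0, 0), (574, 0, 0), (22, 0, 0),
   (202, 0, 0), (47, 0, 0), (475, 3, 0), (526, 0, 0), (77, 0, 0), (388, 0, 0), (541, 0, 0),
   (449, 0, 0), (507, 0, 0), (192, 0, 0), (383, 0, 0), (590, 0, 0), (494, 0, 0), (511, 0, 0),
   (241, 0, 0), (337, 0, 0), (640, 0, 0), (397, 1, 0), (513, 0, 0), (323, 0, 0), (244, 0, 0),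
   (154, 0, 0), (355, 0, 0), (565, 0, 0), (251, 0, 0), (163, 0, 0), (233, 0, 0), (389, 0, 0),
   (571, 0, 0), (175, 0, 0), (290, 0, 0), (51, 0, 0), (21, 1, 0), (153, 0, 0), (405, 0, 0),
   (686, 0, 0), (609, 0, 0), (90, 0, 0), (216, 0, 0), (439, 0, 0), (695, 0, 0), (672, 0, 0),
   (14, 0, 0), (68, 0, 0), (456, 0, 0), (683, 0, 0), (665, 0, 0), (618, 2, 0), (359, 0, 0),
   (608, 0, 0), (224, 0, 0), (471, 0, 0), (661, 0, 0), (361, 0, 0), (680, 0, 0), (63, 0, 0),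
   (436, 0, 0), (546, 0, 0), (392, 0, 0), (663, 0, 0), (190, 0, 0), (497, 0, 0), (713, 1, 0),
   (625, 0, 0), (171, 0, 0), (136, 0, 0), (481, 0, 0), (712, 0, 0), (674, 0, 0), (301, 0, 0),
   (235, 0, 0), (380, 0, 0), (699, 0, 0), (651, 0, 0), (286, 0, 0), (66, 0, 0), (446, 0, 0),
   (205, 1, 0), (246, 0, 0), (204, 0, 0), (98, 0, 0), (322, 0, 0), (318, 0, 0), (178, 0, 0),
   (306, 0, 0), (10, 0, 0), (288, 0, 0), (248, 0, 0), (302, 0, 0), (289, 0, 0), (106, 0, 0),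
   (179, 0, 0), (502, 4, 0), (628, 0, 0), (504, 0, 0), (531, 0, 0), (162, 0, 0), (472, 0, 0),
   (543, 0, 0), (477, 0, 0), (563, 0, 0), (279, 0, 0), (448, 0, 0), (600, 0, 0), (434, 0, 0),
   (561, 0, 0), (61, 0, 0), (230, 1, 0)]

/-- part 1 of sexOctT1 -/
def sexOctT1_1 : List (ℕ × ℕ × ℕ) := [
   (395, 0, 0), (585, 0, 0), (496, 0, 0), (605, 0, 0), (129, 0, 0), (340, 0, 0), (616, 0, 0),
   (488, 0, 0), (669, 0, 0), (160, 0, 0), (398, 0, 0), (633, 0, 0), (433, 0, 0), (652, 0, 0),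
   (721, 3, 0), (718, 0, 0), (598, 0, 0), (443, 0, 0), (703, 0, 0), (727, 0, 0), (690, 0, 0),
   (659, 0, 0), (459, 0, 0), (728, 0, 0), (746, 0, 0), (694, 0, 0), (557, 0, 0), (375, 0, 0),
   (739, 0, 0), (69, 2, 1), (432, 0, 0), (506, 0, 0), (287, 0, 0), (78, 0, 0), (152, 0, 0),
   (503, 0, 0), (510, 0, 0), (181, 0, 0), (7, 0, 0), (215, 0, 0), (487, 0, 0), (527, 0, 0),
   (308, 0, 0), (85, 0, 0), (612, 1, 0), (148, 0, 0), (333, 0, 0), (579, 0, 0), (343, 0, 0),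
   (666, 0, 0), (271, 0, 0), (354, 0, 0), (603, 0, 0), (348, 0, 0), (647, 0, 0), (58, 0, 0),
   (351, 0, 0), (658, 0, 0), (390, 0, 0), (132, 2, 0), (425, 0, 0), (688, 0, 0), (520, 0, 0),
   (252, 0, 0), (212, 0, 0), (463, 0, 0), (717, 0, 0), (538, 0, 0), (174, 0, 0), (48, 0, 0),
   (367, 0, 0), (710, 0, 0), (567, 0, 0), (324, 0, 0), (724, 1, 0), (715, 0, 0), (521, 0, 0),
   (144, 0, 0), (452, 0, 0), (740, 0, 0), (700, 0, 0), (537, 0, 0), (229, 0, 0), (364, 0, 0),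
   (707, 0, 0), (693, 0, 0), (566, 0, 0), (120, 0, 0), (412, 0, 0), (350, 2, 0), (624, 0, 0),
   (91, 0, 0), (165, 0, 0), (184, 0, 0), (334, 0, 0), (678, 0, 0), (13, 0, 0), (304, 0, 0),
   (219, 0, 0), (353, 0, 0), (653, 0, 0), (20, 0, 0), (255, 0, 0), (116, 0, 0), (382, 4, 1),
   (646, 0, 0), (298, 0, 0), (25, 0, 0), (277, 0, 0), (338, 0, 0), (611, 0, 0), (254, 0, 0),
   (4, 0, 0), (126, 0, 0), (387, 0, 0), (667, 0, 0), (206, 0, 0), (29, 0, 0), (141, 0, 0),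
   (564, 5, 1), (145, 0, 0), (430, 0, 0), (630, 0, 0), (345, 0, 0), (572, 0, 0), (228, 0, 0),
   (491, 0, 0), (553, 0, 0), (362, 0, 0), (514, 0, 0), (121, 0, 0), (469, 0, 0), (587, 0, 0),
   (399, 0, 0), (417, 2, 0), (754, 0, 0), (650, 0, 0), (41, 0, 0), (238, 0, 0), (482, 0, 0),
   (749, 0, 0), (613, 0, 0), (42, 0, 0), (118, 0, 0), (402, 0, 0), (731, 0, 0), (679, 0, 0),
   (93, 0, 0), (197, 0, 0), (414, 3, 2)]

/-- part 2 of sexOctT1 -/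
def sexOctT1_2 : List (ℕ × ℕ × ℕ) := [
   (737, 0, 0), (525, 0, 0), (299, 0, 0), (113, 0, 0), (464, 0, 0), (755, 0, 0), (575, 0, 0),
   (261, 0, 0), (138, 0, 0), (378, 0, 0), (753, 0, 0), (518, 0, 0), (209, 0, 0), (268, 0, 0),
   (264, 2, 2), (365, 0, 0), (756, 0, 0), (523, 0, 0), (109, 0, 0), (55, 0, 0), (411, 0, 0),
   (747, 0, 0), (569, 0, 0), (37, 0, 0), (189, 0, 0), (453, 0, 0), (732, 0, 0), (534, 0, 0),
   (23, 0, 0), (551, 1, 0), (342, 0, 0), (542, 0, 0), (483, 0, 0), (682, 0, 0), (622, 0, 0),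
   (347, 0, 0), (589, 0, 0), (373, 0, 0), (685, 0, 0), (636, 0, 0), (391, 0, 0), (639, 0, 0),
   (422, 0, 0), (696, 0, 0), (291, 3, 1), (293, 0, 0), (101, 0, 0), (35, 0, 0), (296, 0, 0),
   (243, 0, 0), (258, 0, 0), (32, 0, 0), (103, 0, 0), (285, 0, 0), (164, 0, 0), (176, 0, 0),
   (88, 0, 0), (82, 0, 0), (201, 0, 0)]

/-- tree sexOctT1 -/
def sexOctT1 : List (ℕ × ℕ × ℕ) :=
  sexOctT1_0 ++ sexOctT1_1 ++ sexOctT1_2

/-- part 0 of sexOctT2 -/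
def sexOctT2_0 : List (ℕ × ℕ × ℕ) := [
   (447, 0, 0), (738, 0, 0), (596, 0, 0), (278, 0, 0), (11, 0, 0), (498, 0, 0), (704, 0, 0),
   (644, 0, 0), (62, 0, 0), (99, 0, 0), (473, 0, 0), (734, 0, 0), (556, 0, 0), (194, 0, 0),
   (610, 1, 0), (460, 0, 0), (512, 0, 0), (400, 0, 0), (742, 0, 0), (671, 0, 0), (381, 0, 0),
   (533, 0, 0), (349, 0, 0), (719, 0, 0), (649, 0, 0), (419, 0, 0), (573, 0, 0), (394, 0, 0),
   (722, 0, 0), (638, 1, 0), (123, 0, 0), (232, 0, 0), (169, 0, 0), (485, 0, 0), (547, 0, 0),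
   (199, 0, 0), (52, 0, 0), (320, 0, 0), (363, 0, 0), (621, 0, 0), (227, 0, 0), (185, 0, 0),
   (257, 0, 0), (418, 0, 0), (59, 1, 0), (247, 0, 0), (332, 0, 0), (752, 0, 0), (660, 0, 0),
   (158, 0, 0), (180, 0, 0), (341, 0, 0), (702, 0, 0), (581, 0, 0), (222, 0, 0), (319, 0, 0),
   (396, 0, 0), (729, 0, 0), (597, 0, 0), (282, 2, 0), (478, 0, 0), (620, 0, 0), (200, 0, 0),
   (140, 0, 0), (167, 0, 0), (366, 0, 0), (629, 0, 0), (270, 0, 0), (274, 0, 0), (305, 0, 0),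
   (426, 0, 0), (555, 0, 0), (64, 0, 0), (45, 0, 0), (642, 1, 0), (242, 0, 0), (71, 0, 0),
   (259, 0, 0), (368, 0, 0), (583, 0, 0), (122, 0, 0), (182, 0, 0), (203, 0, 0), (440, 0, 0),
   (588, 0, 0), (191, 0, 0), (213, 0, 0), (294, 0, 0), (462, 0, 0), (479, 1, 0), (606, 0, 0),
   (427, 0, 0), (632, 0, 0), (94, 0, 0), (376, 0, 0), (670, 0, 0), (458, 0, 0), (584, 0, 0),
   (43, 0, 0), (415, 0, 0), (664, 0, 0), (374, 0, 0), (599, 0, 0), (97, 0, 0), (170, 1, 0),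
   (410, 0, 0), (578, 0, 0), (272, 0, 0), (131, 0, 0), (326, 0, 0), (457, 0, 0), (601, 0, 0),
   (76, 0, 0), (220, 0, 0), (245, 0, 0), (407, 0, 0), (641, 0, 0), (193, 0, 0), (124, 0, 0),
   (139, 2, 0), (214, 0, 0), (50, 0, 0), (231, 0, 0), (218, 0, 0), (275, 0, 0), (70, 0, 0),
   (156, 0, 0), (53, 0, 0), (114, 0, 0), (46, 0, 0), (183, 0, 0), (262, 0, 0), (186, 0, 0),
   (151, 0, 0), (455, 2, 0), (656, 0, 0), (128, 0, 0), (155, 0, 0), (297, 0, 0), (403, 0, 0),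
   (554, 0, 0), (147, 0, 0), (263, 0, 0), (283, 0, 0), (423, 0, 0), (602, 0, 0), (273, 0, 0),
   (49, 0, 0), (177, 0, 0), (266, 1, 0)]

/-- part 1 of sexOctT2 -/
def sexOctT2_1 : List (ℕ × ℕ × ℕ) := [
   (234, 0, 0), (198, 0, 0), (236, 0, 0), (313, 0, 0), (65, 0, 0), (72, 0, 0), (267, 0, 0),
   (111, 0, 0), (329, 0, 0), (137, 0, 0), (196, 0, 0), (117, 0, 0), (134, 0, 0), (309, 0, 0),
   (173, 3, 0), (352, 0, 0), (689, 0, 0), (751, 0, 0), (548, 0, 0), (307, 0, 0), (339, 0, 0),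
   (716, 0, 0), (706, 0, 0), (595, 0, 0), (253, 0, 0), (386, 0, 0), (697, 0, 0), (736, 0, 0),
   (634, 0, 0), (559, 2, 0), (468, 0, 0), (592, 0, 0), (39, 0, 0), (370, 0, 0), (509, 0, 0),
   (371, 0, 0), (655, 0, 0), (16, 0, 0), (444, 0, 0), (516, 0, 0), (421, 0, 0), (539, 0, 0),
   (19, 0, 0), (451, 0, 0), (741, 1, 0), (549, 0, 0), (74, 0, 0), (8, 0, 0), (385, 0, 0),
   (720, 0, 0), (594, 0, 0), (143, 0, 0), (84, 0, 0), (335, 0, 0), (723, 0, 0), (635, 0, 0),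
   (225, 0, 0), (28, 0, 0), (357, 0, 0), (379, 2, 0), (593, 0, 0), (119, 0, 0), (115, 0, 0),
   (292, 0, 0), (438, 0, 0), (662, 0, 0), (149, 0, 0), (150, 0, 0), (250, 0, 0), (454, 0, 0),
   (552, 0, 0), (280, 0, 0), (217, 0, 0), (207, 0, 0), (195, 1, 0), (36, 0, 0), (441, 0, 0),
   (540, 0, 0), (315, 0, 0), (210, 0, 0), (102, 0, 0), (486, 0, 0), (591, 0, 0), (317, 0, 0),
   (56, 0, 0), (31, 0, 0), (404, 0, 0), (654, 0, 0), (314, 0, 0), (743, 5, 0), (643, 0, 0),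
   (110, 0, 0), (356, 0, 0), (733, 0, 0), (705, 0, 0), (550, 0, 0), (92, 0, 0), (384, 0, 0),
   (758, 0, 0), (726, 0, 0), (604, 0, 0), (24, 0, 0), (336, 0, 0), (748, 0, 0), (260, 2, 2),
   (465, 0, 0), (532, 0, 0), (409, 0, 0), (544, 0, 0), (172, 0, 0), (401, 0, 0), (562, 0, 0),
   (442, 0, 0), (614, 0, 0), (300, 0, 0), (413, 0, 0), (530, 0, 0), (461, 0, 0), (626, 0, 0),
   (745, 1, 0), (524, 0, 0), (467, 0, 0), (648, 0, 0), (358, 0, 0), (708, 0, 0), (570, 0, 0),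
   (372, 0, 0), (623, 0, 0), (344, 0, 0), (735, 0, 0), (568, 0, 0), (420, 0, 0), (668, 0, 0),
   (346, 0, 0), (18, 1, 0), (431, 0, 0), (711, 0, 0), (744, 0, 0), (619, 0, 0), (40, 0, 0),
   (493, 0, 0), (684, 0, 0), (709, 0, 0), (637, 0, 0), (15, 0, 0), (489, 0, 0), (687, 0, 0),
   (730, 0, 0), (582, 0, 0), (105, 1, 1)]

/-- part 2 of sexOctT2 -/
def sexOctT2_2 : List (ℕ × ℕ × ℕ) := [
   (369, 0, 0), (675, 0, 0), (57, 0, 0), (276, 0, 0), (87, 0, 0), (445, 0, 0), (676, 0, 0),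
   (146, 0, 0), (67, 0, 0), (89, 0, 0), (450, 0, 0), (681, 0, 0), (239, 0, 0), (157, 0, 0),
   (515, 2, 1), (474, 0, 0), (701, 0, 0), (535, 0, 0), (484, 0, 0), (560, 0, 0), (437, 0, 0),
   (725, 0, 0), (522, 0, 0), (406, 0, 0), (508, 0, 0), (495, 0, 0), (750, 0, 0), (536, 0, 0),
   (428, 0, 0), (657, 5, 1), (226, 0, 0), (316, 0, 0), (33, 0, 0), (466, 0, 0), (580, 0, 0),
   (73, 0, 0), (312, 0, 0), (80, 0, 0), (408, 0, 0), (617, 0, 0), (142, 0, 0), (327, 0, 0),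
   (5, 0, 0), (424, 0, 0), (161, 4, 1), (187, 0, 0), (83, 0, 0), (500, 0, 0), (586, 0, 0),
   (240, 0, 0), (269, 0, 0), (27, 0, 0), (501, 0, 0), (631, 0, 0), (75, 0, 0), (127, 0, 0),
   (9, 0, 0), (505, 0, 0), (577, 0, 0), (377, 2, 2), (545, 0, 0), (223, 0, 0), (112, 0, 0),
   (100, 0, 0), (416, 0, 0), (615, 0, 0), (60, 0, 0), (135, 0, 0), (2, 0, 0), (480, 0, 0),
   (627, 0, 0), (159, 0, 0), (237, 0, 0), (12, 0, 0), (125, 5, 0), (221, 0, 0), (130, 0, 0),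
   (757, 1, 24), (519, 0, 0), (360, 0, 0), (714, 0, 0), (691, 0, 0), (692, 2, 24)]

/-- tree sexOctT2 -/
def sexOctT2 : List (ℕ × ℕ × ℕ) :=
  sexOctT2_0 ++ sexOctT2_1 ++ sexOctT2_2

/-- the orbit classes -/
def sexOctCls : List (ℕ × List (ℕ × ℕ × ℕ)) :=
  [(0, sexOctT0), (3, sexOctT1), (1, sexOctT2)]

theorem sexOct_ok : octK.splitOK sexOctL sexOctGens sexOctCls = true := by decide +kernel

theorem sexOct_sizes : (sexOctCls.map fun c =>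
    (classList octK.ix.n fun i => decide (octK.invsIx sexOctL i = octK.invsIx sexOctL c.1)).length) = [15, 360, 384] := by
  decide +kernel

end CfsgLib.Spor
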