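import Cfsg.Agent.Lib.Spor.OrbitDuum

/-!
Chain of trios through the base octad.
-/

set_option autoImplicit false
set_option maxRecDepth 100000

namespace CfsgLib.Spor

open Cfsg
open scoped Pointwise

/-- generators at level 0 -/
def trioLev0Gens : List ℕ := [484555033845019992312710465367441444,
  222519172086461784033345496129087585,
  935084432909017502818065000472513922,
  596432528579139876495147731845656810,
  896503234335522789878481380695904323,
  854485456142492253592534282328379719]

/-- part 0 of trioLev0Tree -/
def trioLev0Tree_0 : List (ℕ × ℕ × ℕ) := [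
   (13, 512, 0), (9, 512, 0), (1, 512, 0), (10, 256, 0), (11, 256, 0), (2, 515, 0), (4, 512, 0),
   (5, 512, 0), (8, 261, 0), (6, 256, 0), (12, 512, 0), (14, 256, 0), (3, 256, 0), (7, 256, 0)]

/-- tree trioLev0Tree -/
def trioLev0Tree : List (ℕ × ℕ × ℕ) :=
  trioLev0Tree_0

/-- the targets at level 0 -/
def trioLev0Idx : List ℕ := [0, 1, 2, 3, 4, 5, 6, 7, 8, 9, 10, 11, 12, 13, 14]

/-- generators at level 1 -/
def trioLev1Gens : List ℕ := [940020691272712627983346986262006145,
  721098912054335873479712107613169760,
  686942719272396286559915567899609188,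
  362985665580327146884179023018109155,
  400706201211194075909932172173118503,
  926345279570416312057438691549846915]

/-- part 0 of trioLev1Tree -/
def trioLev1Tree_0 : List (ℕ × ℕ × ℕ) := [
   (9, 512, 0), (11, 512, 0), (7, 512, 0), (5, 256, 0), (3, 256, 0), (13, 512, 0), (6, 514, 0),
   (4, 256, 0), (14, 512, 0), (2, 256, 0), (10, 512, 0), (12, 512, 0), (8, 512, 0)]

/-- tree trioLev1Tree -/
def trioLev1Tree : List (ℕ × ℕ × ℕ) :=
  trioLev1Tree_0

/-- the targets at level 1 -/
def trioLev1Idx : List ℕ := [1, 2, 3, 4, 5, 6, 7, 8, 9, 10, 11, 12, 13, 14]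

/-- generators at level 2 -/
def trioLev2Gens : List ℕ := [219718763356517507431701440295404778,
  687151766494016638019509903319761122,
  606953273330042898739137633501384004,
  756271066239910138820826075071123552,
  808147170128879511124444813564416385,
  651238311225777360574702438349937665]

/-- part 0 of trioLev2Tree -/
def trioLev2Tree_0 : List (ℕ × ℕ × ℕ) := [
   (4, 512, 0), (14, 513, 0), (7, 256, 0), (13, 256, 0), (8, 256, 0), (5, 259, 0), (6, 256, 0),
   (12, 257, 0), (9, 512, 0), (11, 512, 0), (10, 512, 0)]

/-- tree trioLev2Tree -/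
def trioLev2Tree : List (ℕ × ℕ × ℕ) :=
  trioLev2Tree_0

/-- the targets at level 2 -/
def trioLev2Idx : List ℕ := [3, 4, 5, 6, 7, 8, 9, 10, 11, 12, 13, 14]

/-- generators at level 3 -/
def trioLev3Gens : List ℕ := [561475773312554808336860583768983584,
  590073190485137572507256980533976172,
  813184816192825123166998830762832199,
  268195153026948482477577069584812064,
  381166591076328903982933585407577322,
  358663410336099018588589353090427267]

/-- part 0 of trioLev3Tree -/
def trioLev3Tree_0 : List (ℕ × ℕ × ℕ) := [
   (8, 257, 0), (13, 258, 0), (14, 513, 0), (10, 260, 0), (9, 513, 0), (12, 514, 0), (11, 257, 0)]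

/-- tree trioLev3Tree -/
def trioLev3Tree : List (ℕ × ℕ × ℕ) :=
  trioLev3Tree_0

/-- the targets at level 3 -/
def trioLev3Idx : List ℕ := [7, 8, 9, 10, 11, 12, 13, 14]

/-- the base trios -/
def trioBase : List ℕ := [0, 1, 3, 7]

end CfsgLib.Spor
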