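import Cfsg.Agent.Lib.Spor.OrbitDuum

/-!
Certificate: orbits on indexed objects of kind tripleK.
-/

set_option autoImplicit false
set_option maxRecDepth 100000

namespace CfsgLib.Spor

open Cfsg
open scoped Pointwise

/-- families fixed -/
def tripTripL : List (List ℕ) := [[7], [5279, 45159, 140167, 459847, 551943, 622863, 786999, 1065303, 1116327, 2183687, 2263063, 3416079, 4196943, 4505735, 5902343, 6292775, 8536111, 8657159, 9471495, 11010247, 12656663]]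

/-- generators -/
def tripTripGens : List ℕ := [717044805514339171116549086282975264,
  267626884524134132646572493879085088,
  380472898105241886132885287100286016,
  767429995283455620154648322930081826,
  603913428308626758563686703401959489,
  196801710996391690063465805246759938]

/-- part 0 of tripTripT0 -/
def tripTripT0_0 : List (ℕ × ℕ × ℕ) := [
]

/-- tree tripTripT0 -/
def tripTripT0 : List (ℕ × ℕ × ℕ) :=
  tripTripT0_0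

/-- part 0 of tripTripT1 -/
def tripTripT1_0 : List (ℕ × ℕ × ℕ) := [
   (364, 0, 0), (10, 0, 0), (1771, 0, 0), (680, 0, 0), (1330, 1, 0), (220, 0, 0), (455, 0, 0),
   (120, 0, 0), (816, 0, 0), (165, 1, 0), (4, 0, 0), (35, 0, 0), (1540, 0, 0), (56, 0, 0),
   (681, 2, 0), (2, 0, 0), (365, 0, 0), (11, 0, 0), (1772, 0, 0), (21, 1, 0), (1141, 0, 0),
   (561, 0, 0), (287, 0, 0), (85, 0, 0), (817, 1, 0), (1331, 0, 0), (221, 0, 0), (456, 0, 0),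
   (121, 0, 0), (286, 4, 0), (84, 0, 0), (20, 0, 0), (1140, 0, 0), (560, 0, 0), (1542, 3, 0),
   (58, 0, 0), (167, 0, 0), (6, 0, 0), (37, 0, 0), (288, 1, 0), (86, 0, 0), (22, 0, 0),
   (1142, 0, 0), (562, 0, 0), (818, 2, 0), (1332, 0, 0), (222, 0, 0), (457, 0, 0), (122, 0, 0),
   (682, 1, 0), (3, 0, 0), (366, 0, 0), (12, 0, 0), (1773, 0, 0), (971, 1, 2), (1541, 4, 0),
   (57, 0, 0), (166, 0, 0), (5, 0, 0), (36, 0, 0), (969, 2, 1), (970, 4, 15)]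

/-- tree tripTripT1 -/
def tripTripT1 : List (ℕ × ℕ × ℕ) :=
  tripTripT1_0

/-- part 0 of tripTripT2 -/
def tripTripT2_0 : List (ℕ × ℕ × ℕ) := [
   (1638, 0, 0), (1573, 0, 0), (1834, 0, 0), (739, 0, 0), (1758, 1, 0), (283, 0, 0), (514, 0, 0),
   (145, 0, 0), (1700, 0, 0), (453, 1, 0), (98, 0, 0), (1798, 0, 0), (1747, 0, 0), (591, 0, 0),
   (962, 2, 0), (1486, 0, 0), (1433, 0, 0), (526, 0, 0), (1886, 0, 0), (731, 1, 0), (1296, 0, 0),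
   (1464, 0, 0), (357, 0, 0), (1885, 0, 0), (867, 1, 0), (1538, 0, 0), (1462, 0, 0), (545, 0, 0),
   (509, 0, 0), (351, 4, 0), (856, 0, 0), (1357, 0, 0), (1742, 0, 0), (673, 0, 0), (129, 1, 0),
   (914, 0, 0), (1755, 0, 0), (1845, 0, 0), (796, 0, 0), (1760, 1, 0), (890, 0, 0), (1446, 0, 0),
   (269, 0, 0), (928, 0, 0), (622, 2, 0), (1622, 0, 0), (119, 0, 0), (1601, 0, 0), (1172, 0, 0),
   (1117, 2, 0), (1077, 0, 0), (1070, 0, 0), (1127, 0, 0), (2000, 0, 0), (240, 1, 0), (1976, 0, 0),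
   (810, 0, 0), (897, 0, 0), (1430, 0, 0), (1523, 2, 0), (663, 0, 0), (538, 0, 0), (1825, 0, 0),
   (958, 0, 0), (1652, 2, 0), (1593, 0, 0), (879, 0, 0), (1389, 0, 0), (245, 0, 0), (330, 1, 0),
   (207, 0, 0), (1159, 0, 0), (1267, 0, 0), (1673, 0, 0), (1235, 1, 0), (586, 0, 0), (2015, 0, 0),
   (724, 0, 0), (183, 0, 0), (1971, 3, 0), (968, 0, 0), (1411, 0, 0), (439, 0, 0), (475, 0, 0),
   (2018, 2, 0), (766, 0, 0), (204, 0, 0), (383, 0, 0), (1166, 0, 0), (1904, 1, 0), (767, 0, 0),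
   (102, 0, 0), (1237, 0, 0), (1265, 0, 0), (1895, 1, 0), (765, 0, 0), (1579, 0, 0), (398, 0, 0),
   (1200, 0, 0), (1323, 3, 0), (1104, 0, 0), (1057, 0, 0), (1131, 0, 0), (1507, 0, 0), (1558, 2, 0),
   (1239, 0, 0), (620, 0, 0), (1853, 0, 0), (723, 0, 0), (1496, 1, 0), (1405, 0, 0), (527, 0, 0),
   (1255, 0, 0), (946, 0, 0), (306, 4, 0), (1970, 0, 0), (806, 0, 0), (1221, 0, 0), (660, 0, 0),
   (1126, 1, 0), (1508, 0, 0), (1723, 0, 0), (1082, 0, 0), (1034, 0, 0), (1688, 1, 0), (486, 0, 0),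
   (429, 0, 0), (830, 0, 0), (1988, 0, 0), (1009, 5, 0), (996, 0, 0), (1749, 0, 0), (1097, 0, 0),
   (1058, 0, 0), (75, 2, 0), (1202, 0, 0), (1664, 0, 0), (321, 0, 0), (1604, 0, 0), (1707, 1, 0),
   (1363, 0, 0), (1848, 0, 0), (789, 0, 0), (144, 0, 0), (1912, 3, 0), (1910, 0, 0), (774, 0, 0),
   (377, 0, 0), (1867, 0, 0), (1948, 1, 0)]

/-- part 1 of tripTripT2 -/
def tripTripT2_1 : List (ℕ × ℕ × ℕ) := [
   (1328, 0, 0), (1092, 0, 0), (1073, 0, 0), (1010, 0, 0), (1936, 1, 0), (1481, 0, 0), (268, 0, 0),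
   (935, 0, 0), (1380, 0, 0), (1865, 2, 0), (776, 0, 0), (1784, 0, 0), (1921, 0, 0), (693, 0, 0),
   (244, 5, 0), (1659, 0, 0), (153, 0, 0), (1935, 0, 0), (1470, 0, 0), (329, 1, 4), (1582, 0, 0),
   (1174, 0, 0), (1271, 0, 0), (642, 0, 0), (983, 4, 1), (1949, 0, 0), (1728, 0, 0), (1000, 0, 0),
   (1071, 0, 0), (358, 1, 3), (1254, 0, 0), (611, 0, 0), (1306, 0, 0), (1459, 0, 0), (191, 4, 0),
   (2006, 0, 0), (715, 0, 0), (1598, 0, 0), (396, 0, 0), (1288, 3, 4), (668, 0, 0), (452, 0, 0),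
   (857, 0, 0), (1987, 0, 0), (553, 4, 0), (1590, 0, 0), (1932, 0, 0), (1477, 0, 0), (229, 0, 0),
   (635, 4, 26), (539, 0, 0), (1194, 0, 0), (942, 0, 0), (1533, 0, 0), (1708, 5, 3), (1383, 0, 0),
   (893, 0, 0), (1439, 0, 0), (272, 0, 0)]

/-- tree tripTripT2 -/
def tripTripT2 : List (ℕ × ℕ × ℕ) :=
  tripTripT2_0 ++ tripTripT2_1

/-- part 0 of tripTripT3 -/
def tripTripT3_0 : List (ℕ × ℕ × ℕ) := [
   (385, 0, 0), (1550, 0, 0), (1799, 0, 0), (735, 0, 0), (1750, 1, 0), (248, 0, 0), (510, 0, 0),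
   (126, 0, 0), (837, 0, 0), (341, 1, 0), (90, 0, 0), (50, 0, 0), (1730, 0, 0), (588, 0, 0),
   (952, 2, 0), (1333, 0, 0), (430, 0, 0), (465, 0, 0), (1816, 0, 0), (695, 1, 0), (1143, 0, 0),
   (651, 0, 0), (296, 0, 0), (1807, 0, 0), (831, 1, 0), (1520, 0, 0), (626, 0, 0), (533, 0, 0),
   (156, 0, 0), (1421, 2, 0), (230, 0, 0), (1876, 0, 0), (725, 0, 0), (819, 0, 0), (186, 1, 0),
   (1546, 0, 0), (77, 0, 0), (1595, 0, 0), (62, 0, 0), (59, 1, 0), (419, 0, 0), (16, 0, 0),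
   (1792, 0, 0), (1676, 0, 0), (485, 3, 0), (212, 0, 0), (824, 0, 0), (1353, 0, 0), (1608, 0, 0),
   (402, 1, 0), (32, 0, 0), (1963, 0, 0), (802, 0, 0), (291, 0, 0), (1163, 1, 0), (1662, 0, 0),
   (316, 0, 0), (203, 0, 0), (28, 0, 0), (1712, 2, 0), (998, 0, 0), (1025, 0, 0), (976, 0, 0),
   (991, 0, 0), (353, 1, 0), (492, 0, 0), (136, 0, 0), (1294, 0, 0), (1451, 0, 0), (17, 1, 0),
   (1793, 0, 0), (1677, 0, 0), (60, 0, 0), (420, 0, 0), (1170, 2, 0), (617, 0, 0), (294, 0, 0),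
   (107, 0, 0), (1557, 0, 0), (548, 1, 0), (132, 0, 0), (1926, 0, 0), (1468, 0, 0), (225, 0, 0),
   (332, 2, 0), (853, 0, 0), (1346, 0, 0), (1207, 0, 0), (666, 0, 0), (127, 1, 0), (838, 0, 0),
   (1751, 0, 0), (249, 0, 0), (511, 0, 0), (1586, 1, 0), (845, 0, 0), (1386, 0, 0), (227, 0, 0),
   (477, 0, 0), (687, 3, 0), (39, 0, 0), (1632, 0, 0), (67, 0, 0), (1827, 0, 0), (1556, 1, 0),
   (1169, 0, 0), (616, 0, 0), (293, 0, 0), (106, 0, 0), (895, 1, 0), (1367, 0, 0), (236, 0, 0),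
   (1246, 0, 0), (606, 0, 0), (909, 2, 0), (1342, 0, 0), (1839, 0, 0), (787, 0, 0), (125, 0, 0),
   (703, 1, 0), (1545, 0, 0), (394, 0, 0), (177, 0, 0), (1779, 0, 0), (73, 1, 0), (1197, 0, 0),
   (568, 0, 0), (309, 0, 0), (1578, 0, 0), (1341, 2, 0), (1838, 0, 0), (786, 0, 0), (124, 0, 0),
   (908, 0, 0), (577, 4, 0), (1220, 0, 0), (598, 0, 0), (303, 0, 0), (1178, 0, 0), (938, 1, 0),
   (1410, 0, 0), (258, 0, 0), (472, 0, 0), (1187, 0, 0), (431, 2, 0), (466, 0, 0), (1817, 0, 0),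
   (953, 0, 0), (1334, 0, 0), (46, 1, 0)]

/-- part 1 of tripTripT3 -/
def tripTripT3_1 : List (ℕ × ℕ × ℕ) := [
   (2003, 0, 0), (709, 0, 0), (169, 0, 0), (371, 0, 0), (1313, 2, 0), (1091, 0, 0), (1049, 0, 0),
   (1007, 0, 0), (986, 0, 0), (523, 1, 0), (502, 0, 0), (863, 0, 0), (1485, 0, 0), (1398, 0, 0),
   (96, 1, 0), (1788, 0, 0), (1278, 0, 0), (565, 0, 0), (444, 0, 0), (1147, 2, 0), (582, 0, 0),
   (1619, 0, 0), (113, 0, 0), (181, 0, 0), (1646, 1, 0), (149, 0, 0), (872, 0, 0), (1337, 0, 0),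
   (242, 0, 0), (323, 1, 0), (100, 0, 0), (1156, 0, 0), (1261, 0, 0), (639, 0, 0), (1562, 3, 0),
   (1569, 0, 0), (194, 0, 0), (172, 0, 0), (42, 0, 0), (315, 1, 0), (202, 0, 0), (27, 0, 0),
   (1162, 0, 0), (1661, 0, 0), (828, 2, 0), (1983, 0, 0), (748, 0, 0), (460, 0, 0), (411, 0, 0),
   (1107, 1, 0), (974, 0, 0), (1062, 0, 0), (981, 0, 0), (1944, 0, 0), (237, 1, 0), (1247, 0, 0),
   (607, 0, 0), (896, 0, 0), (1368, 0, 0), (99, 3, 0), (1155, 0, 0), (1260, 0, 0), (638, 0, 0),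
   (322, 0, 0), (1293, 1, 0), (1450, 0, 0), (352, 0, 0), (491, 0, 0), (135, 0, 0), (785, 1, 0),
   (123, 0, 0), (907, 0, 0), (1340, 0, 0), (1837, 0, 0), (821, 3, 0), (1423, 0, 0), (232, 0, 0),
   (1878, 0, 0), (727, 0, 0), (547, 2, 0), (131, 0, 0), (1925, 0, 0), (1467, 0, 0), (224, 0, 0),
   (333, 2, 0), (854, 0, 0), (1347, 0, 0), (1208, 0, 0), (667, 0, 0), (128, 1, 0), (839, 0, 0),
   (1752, 0, 0), (250, 0, 0), (512, 0, 0), (1587, 1, 0), (846, 0, 0), (1387, 0, 0), (228, 0, 0),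
   (478, 0, 0), (686, 3, 0), (38, 0, 0), (1631, 0, 0), (66, 0, 0), (1826, 0, 0), (1555, 1, 0),
   (1168, 0, 0), (615, 0, 0), (292, 0, 0), (105, 0, 0), (894, 1, 0), (1366, 0, 0), (235, 0, 0),
   (1245, 0, 0), (605, 0, 0), (1552, 3, 0), (1801, 0, 0), (737, 0, 0), (9, 0, 0), (387, 0, 0),
   (1196, 2, 0), (567, 0, 0), (308, 0, 0), (1577, 0, 0), (72, 0, 0), (459, 1, 0), (410, 0, 0),
   (827, 0, 0), (1982, 0, 0), (747, 0, 0), (535, 2, 0), (158, 0, 0), (833, 0, 0), (1522, 0, 0),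
   (628, 0, 0), (92, 1, 0), (52, 0, 0), (1732, 0, 0), (590, 0, 0), (343, 0, 0), (63, 2, 0),
   (187, 0, 0), (1547, 0, 0), (78, 0, 0), (1596, 0, 0), (68, 2, 0), (1828, 0, 0), (688, 0, 0),
   (40, 0, 0), (1633, 0, 0), (1151, 2, 0)]

/-- part 2 of tripTripT3 -/
def tripTripT3_2 : List (ℕ × ℕ × ℕ) := [
   (1892, 0, 0), (759, 0, 0), (88, 0, 0), (380, 0, 0), (1075, 1, 0), (1015, 0, 0), (1123, 0, 0),
   (1502, 0, 0), (1036, 0, 0), (257, 1, 0), (471, 0, 0), (1186, 0, 0), (937, 0, 0), (1409, 0, 0),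
   (51, 3, 0), (1731, 0, 0), (589, 0, 0), (342, 0, 0), (91, 0, 0), (1503, 2, 0), (1037, 0, 0),
   (1076, 0, 0), (1016, 0, 0), (1124, 0, 0), (277, 1, 0), (463, 0, 0), (143, 0, 0), (1695, 0, 0),
   (1360, 0, 0), (15, 1, 0), (1864, 0, 0), (692, 0, 0), (1776, 0, 0), (773, 0, 0), (193, 3, 0),
   (171, 0, 0), (41, 0, 0), (1561, 0, 0), (1568, 0, 0), (367, 1, 0), (374, 0, 0), (1781, 0, 0),
   (1907, 0, 0), (683, 0, 0), (1351, 1, 0), (1606, 0, 0), (483, 0, 0), (210, 0, 0), (822, 0, 0),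
   (990, 2, 0), (1711, 0, 0), (997, 0, 0), (1024, 0, 0), (975, 0, 0), (984, 2, 0), (1311, 0, 0),
   (1089, 0, 0), (1047, 0, 0), (1005, 0, 0), (882, 1, 0), (1435, 0, 0), (265, 0, 0), (921, 0, 0),
   (1375, 0, 0), (690, 1, 0), (1774, 0, 0), (771, 0, 0), (13, 0, 0), (1862, 0, 0), (1176, 2, 0),
   (575, 0, 0), (1218, 0, 0), (596, 0, 0), (301, 0, 0), (1877, 4, 0), (726, 0, 0), (820, 0, 0),
   (1422, 0, 0), (231, 0, 0), (1808, 1, 0), (696, 0, 0), (1144, 0, 0), (652, 0, 0), (297, 0, 0),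
   (1962, 1, 0), (801, 0, 0), (290, 0, 0), (401, 0, 0), (31, 0, 0), (2004, 2, 0), (710, 0, 0),
   (170, 0, 0), (372, 0, 0), (47, 0, 0), (1851, 1, 0), (718, 0, 0), (25, 0, 0), (1233, 0, 0),
   (572, 0, 0), (94, 4, 0), (1786, 0, 0), (1276, 0, 0), (563, 0, 0), (442, 0, 0), (1146, 2, 0),
   (581, 0, 0), (1618, 0, 0), (112, 0, 0), (180, 0, 0), (1645, 1, 0), (148, 0, 0), (871, 0, 0),
   (1336, 0, 0), (241, 0, 0), (685, 3, 0), (369, 0, 0), (376, 0, 0), (1783, 0, 0), (1909, 0, 0),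
   (844, 3, 0), (1385, 0, 0), (226, 0, 0), (476, 0, 0), (1585, 0, 0), (467, 3, 0), (1818, 0, 0),
   (954, 0, 0), (1335, 0, 0), (432, 0, 0), (1219, 2, 0), (597, 0, 0), (302, 0, 0), (1177, 0, 0),
   (576, 0, 0), (462, 1, 0), (142, 0, 0), (1694, 0, 0), (1359, 0, 0), (276, 0, 0), (1148, 4, 0),
   (583, 0, 0), (1620, 0, 0), (114, 0, 0), (182, 0, 0), (1647, 1, 0), (150, 0, 0), (873, 0, 0),
   (1338, 0, 0), (243, 0, 0), (324, 1, 0)]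

/-- part 3 of tripTripT3 -/
def tripTripT3_3 : List (ℕ × ℕ × ℕ) := [
   (101, 0, 0), (1157, 0, 0), (1262, 0, 0), (640, 0, 0), (823, 2, 0), (1352, 0, 0), (1607, 0, 0),
   (484, 0, 0), (211, 0, 0), (1358, 5, 0), (275, 0, 0), (461, 0, 0), (141, 0, 0), (1693, 0, 0),
   (45, 2, 0), (2002, 0, 0), (708, 0, 0), (168, 0, 0), (370, 0, 0), (421, 3, 0), (18, 0, 0),
   (1794, 0, 0), (1678, 0, 0), (61, 0, 0), (1849, 3, 0), (716, 0, 0), (23, 0, 0), (1231, 0, 0),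
   (570, 0, 0), (1777, 1, 0), (701, 0, 0), (1543, 0, 0), (392, 0, 0), (175, 0, 0), (79, 5, 0),
   (1597, 0, 0), (64, 0, 0), (188, 0, 0), (1548, 0, 0), (980, 2, 0), (1943, 0, 0), (1106, 0, 0),
   (973, 0, 0), (1061, 0, 0), (130, 5, 0), (1924, 0, 0), (1466, 0, 0), (223, 0, 0), (546, 0, 0),
   (1014, 1, 0), (1122, 0, 0), (1501, 0, 0), (1035, 0, 0), (1074, 0, 0), (256, 1, 1), (470, 0, 0),
   (1185, 0, 0), (936, 0, 0), (1408, 0, 0), (1150, 1, 0), (1891, 0, 0), (758, 0, 0), (87, 0, 0),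
   (379, 0, 0), (1809, 3, 1), (697, 0, 0), (1145, 0, 0), (653, 0, 0), (298, 0, 0), (1778, 2, 0),
   (702, 0, 0), (1544, 0, 0), (393, 0, 0), (176, 0, 0), (386, 1, 2), (1551, 0, 0), (1800, 0, 0),
   (736, 0, 0), (8, 0, 0), (1863, 3, 0), (691, 0, 0), (1775, 0, 0), (772, 0, 0), (14, 0, 0),
   (985, 1, 4), (1312, 0, 0), (1090, 0, 0), (1048, 0, 0), (1006, 0, 0), (883, 1, 0), (1436, 0, 0),
   (266, 0, 0), (922, 0, 0), (1376, 0, 0), (137, 4, 1), (1295, 0, 0), (1452, 0, 0), (354, 0, 0),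
   (493, 0, 0), (1961, 4, 1), (800, 0, 0), (289, 0, 0), (400, 0, 0), (30, 0, 0), (267, 3, 0),
   (923, 0, 0), (1377, 0, 0), (884, 0, 0), (1437, 0, 0), (564, 2, 0), (443, 0, 0), (95, 0, 0),
   (1787, 0, 0), (1277, 0, 0), (862, 3, 1), (1484, 0, 0), (1397, 0, 0), (522, 0, 0), (501, 0, 0),
   (157, 1, 1), (832, 0, 0), (1521, 0, 0), (627, 0, 0), (534, 0, 0), (1152, 4, 1), (1893, 0, 0),
   (760, 0, 0), (89, 0, 0), (381, 0, 0), (665, 4, 0), (331, 0, 0), (852, 0, 0), (1345, 0, 0),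
   (1206, 0, 0), (1850, 4, 3), (717, 0, 0), (24, 0, 0), (1232, 0, 0), (571, 0, 0), (307, 5, 0),
   (1576, 0, 0), (71, 0, 0), (1195, 0, 0), (566, 0, 0), (1660, 1, 1), (314, 0, 0), (201, 0, 0),
   (26, 0, 0), (1161, 0, 0), (195, 5, 2)]

/-- part 4 of tripTripT3 -/
def tripTripT3_4 : List (ℕ × ℕ × ℕ) := [
   (173, 0, 0), (43, 0, 0), (1563, 0, 0), (1570, 0, 0), (826, 2, 7), (1981, 0, 0), (746, 0, 0),
   (458, 0, 0), (409, 0, 0), (1105, 1, 0), (972, 0, 0), (1060, 0, 0), (979, 0, 0), (1942, 0, 0),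
   (1396, 1, 4), (521, 0, 0), (500, 0, 0), (861, 0, 0), (1483, 0, 0), (977, 5, 9), (992, 0, 0),
   (1713, 0, 0), (999, 0, 0), (1026, 0, 0), (1782, 5, 2), (1908, 0, 0), (684, 0, 0), (368, 0, 0),
   (375, 0, 0)]

/-- tree tripTripT3 -/
def tripTripT3 : List (ℕ × ℕ × ℕ) :=
  tripTripT3_0 ++ tripTripT3_1 ++ tripTripT3_2 ++ tripTripT3_3 ++ tripTripT3_4

/-- part 0 of tripTripT4 -/
def tripTripT4_0 : List (ℕ × ℕ × ℕ) := [
   (1869, 0, 0), (1681, 0, 0), (1802, 0, 0), (782, 0, 0), (1769, 1, 0), (1043, 0, 0), (1085, 0, 0),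
   (1018, 0, 0), (1129, 0, 0), (363, 1, 0), (495, 0, 0), (147, 0, 0), (1748, 0, 0), (1458, 0, 0),
   (955, 2, 0), (1424, 0, 0), (435, 0, 0), (1881, 0, 0), (1917, 0, 0), (1472, 1, 0), (1209, 0, 0),
   (679, 0, 0), (336, 0, 0), (1933, 0, 0), (877, 1, 0), (1524, 0, 0), (633, 0, 0), (1658, 0, 0),
   (164, 0, 0), (1480, 2, 0), (233, 0, 0), (1890, 0, 0), (730, 0, 0), (1927, 0, 0), (192, 1, 0),
   (1734, 0, 0), (595, 0, 0), (1629, 0, 0), (116, 0, 0), (847, 1, 0), (1432, 0, 0), (234, 0, 0),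
   (1883, 0, 0), (1686, 0, 0), (551, 2, 0), (1821, 0, 0), (1941, 0, 0), (1469, 0, 0), (433, 0, 0),
   (1012, 1, 0), (1717, 0, 0), (1319, 0, 0), (1100, 0, 0), (1051, 0, 0), (1214, 1, 0), (676, 0, 0),
   (335, 0, 0), (859, 0, 0), (1756, 0, 0), (1553, 2, 0), (1870, 0, 0), (740, 0, 0), (1780, 0, 0),
   (778, 0, 0), (1514, 1, 0), (1044, 0, 0), (1080, 0, 0), (1321, 0, 0), (1138, 0, 0), (279, 1, 0),
   (480, 0, 0), (1592, 0, 0), (1701, 0, 0), (1393, 0, 0), (711, 2, 0), (422, 0, 0), (378, 0, 0),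
   (1797, 0, 0), (2019, 0, 0), (1427, 1, 0), (1211, 0, 0), (1906, 0, 0), (768, 0, 0), (855, 0, 0),
   (878, 1, 0), (1754, 0, 0), (255, 0, 0), (1656, 0, 0), (152, 0, 0), (1119, 2, 0), (982, 0, 0),
   (1956, 0, 0), (1110, 0, 0), (1945, 0, 0), (247, 1, 0), (1745, 0, 0), (613, 0, 0), (905, 0, 0),
   (1370, 0, 0), (849, 1, 0), (1992, 0, 0), (750, 0, 0), (479, 0, 0), (1641, 0, 0), (1236, 2, 0),
   (1896, 0, 0), (1920, 0, 0), (719, 0, 0), (382, 0, 0), (1081, 1, 0), (1721, 0, 0), (1130, 0, 0),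
   (1512, 0, 0), (1039, 0, 0), (264, 1, 0), (516, 0, 0), (1189, 0, 0), (943, 0, 0), (1763, 0, 0),
   (482, 3, 0), (1740, 0, 0), (944, 0, 0), (1419, 0, 0), (260, 0, 0), (860, 1, 0), (1391, 0, 0),
   (1210, 0, 0), (672, 0, 0), (1628, 0, 0), (1290, 1, 0), (573, 0, 0), (1875, 0, 0), (721, 0, 0),
   (1789, 0, 0), (1594, 2, 0), (850, 0, 0), (1531, 0, 0), (630, 0, 0), (540, 0, 0), (1228, 1, 0),
   (945, 0, 0), (1414, 0, 0), (1215, 0, 0), (671, 0, 0), (504, 1, 0), (868, 0, 0), (1768, 0, 0),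
   (1404, 0, 0), (532, 0, 0), (646, 2, 0)]

/-- part 1 of tripTripT4 -/
def tripTripT4_1 : List (ℕ × ℕ × ℕ) := [
   (350, 0, 0), (103, 0, 0), (1167, 0, 0), (1746, 0, 0), (655, 1, 0), (312, 0, 0), (2011, 0, 0),
   (714, 0, 0), (1198, 0, 0), (1667, 1, 0), (1626, 0, 0), (209, 0, 0), (184, 0, 0), (1165, 0, 0),
   (1046, 2, 0), (1078, 0, 0), (1021, 0, 0), (1729, 0, 0), (1509, 0, 0), (698, 2, 0), (1234, 0, 0),
   (656, 0, 0), (1854, 0, 0), (1916, 0, 0), (1489, 1, 0), (1532, 0, 0), (677, 0, 0), (543, 0, 0),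
   (870, 0, 0), (963, 1, 0), (1339, 0, 0), (437, 0, 0), (1650, 0, 0), (1824, 0, 0), (780, 2, 0),
   (33, 0, 0), (1975, 0, 0), (805, 0, 0), (1852, 0, 0), (160, 2, 0), (843, 0, 0), (1770, 0, 0),
   (634, 0, 0), (544, 0, 0), (592, 2, 0), (348, 0, 0), (1580, 0, 0), (83, 0, 0), (1741, 0, 0),
   (1674, 1, 0), (319, 0, 0), (1835, 0, 0), (699, 0, 0), (1164, 0, 0), (645, 1, 0), (1627, 0, 0),
   (118, 0, 0), (1201, 0, 0), (1264, 0, 0), (1134, 2, 0), (1516, 0, 0), (1045, 0, 0), (1137, 0, 0),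
   (1511, 0, 0), (751, 1, 0), (1879, 0, 0), (781, 0, 0), (829, 0, 0), (1995, 0, 0), (989, 1, 0),
   (1980, 0, 0), (1121, 0, 0), (1050, 0, 0), (1069, 0, 0), (1526, 2, 0), (1272, 0, 0), (678, 0, 0),
   (340, 0, 0), (858, 0, 0), (932, 1, 0), (1379, 0, 0), (889, 0, 0), (1765, 0, 0), (273, 0, 0),
   (784, 2, 0), (97, 0, 0), (1868, 0, 0), (1281, 0, 0), (1894, 0, 0), (54, 1, 0), (1737, 0, 0),
   (1668, 0, 0), (349, 0, 0), (205, 0, 0), (1240, 3, 0), (580, 0, 0), (1974, 0, 0), (809, 0, 0),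
   (304, 0, 0), (1252, 1, 0), (1670, 0, 0), (902, 0, 0), (1394, 0, 0), (239, 0, 0), (499, 1, 0),
   (216, 0, 0), (1297, 0, 0), (1457, 0, 0), (1630, 0, 0), (300, 2, 0), (1814, 0, 0), (1682, 0, 0),
   (1171, 0, 0), (662, 0, 0), (1715, 1, 0), (1004, 0, 0), (1722, 0, 0), (1001, 0, 0), (1031, 0, 0),
   (199, 2, 0), (1199, 0, 0), (585, 0, 0), (1625, 0, 0), (1584, 0, 0), (910, 1, 0), (1426, 0, 0),
   (1842, 0, 0), (1922, 0, 0), (728, 0, 0), (1473, 1, 0), (1609, 0, 0), (554, 0, 0), (215, 0, 0),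
   (1928, 0, 0), (1497, 3, 0), (1401, 0, 0), (1888, 0, 0), (795, 0, 0), (864, 0, 0), (742, 1, 0),
   (1549, 0, 0), (399, 0, 0), (1600, 0, 0), (1803, 0, 0), (74, 1, 0), (1242, 0, 0), (574, 0, 0),
   (1856, 0, 0), (1685, 0, 0), (1440, 2, 0)]

/-- part 2 of tripTripT4 -/
def tripTripT4_2 : List (ℕ × ℕ × ℕ) := [
   (1847, 0, 0), (967, 0, 0), (1378, 0, 0), (919, 0, 0), (1033, 1, 0), (988, 0, 0), (1318, 0, 0),
   (1727, 0, 0), (1055, 0, 0), (2010, 4, 0), (743, 0, 0), (174, 0, 0), (389, 0, 0), (1566, 0, 0),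
   (1831, 2, 0), (1911, 0, 0), (704, 0, 0), (1634, 0, 0), (397, 0, 0), (1978, 2, 0), (803, 0, 0),
   (445, 0, 0), (405, 0, 0), (1791, 0, 0), (1882, 1, 0), (1286, 0, 0), (939, 0, 0), (1434, 0, 0),
   (261, 0, 0), (1994, 2, 0), (755, 0, 0), (473, 0, 0), (1241, 0, 0), (941, 0, 0), (1830, 1, 0),
   (705, 0, 0), (1564, 0, 0), (1639, 0, 0), (198, 0, 0), (2005, 1, 0), (779, 0, 0), (178, 0, 0),
   (1866, 0, 0), (706, 0, 0), (1887, 2, 0), (729, 0, 0), (840, 0, 0), (1764, 0, 0), (253, 0, 0),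
   (1810, 1, 0), (777, 0, 0), (1153, 0, 0), (1905, 0, 0), (763, 0, 0), (2001, 1, 0), (812, 0, 0),
   (536, 0, 0), (418, 0, 0), (836, 0, 0), (2009, 2, 0), (1684, 0, 0), (196, 0, 0), (423, 0, 0),
   (49, 0, 0), (1857, 1, 0), (744, 0, 0), (29, 0, 0), (1238, 0, 0), (1665, 0, 0), (1929, 2, 0),
   (1998, 0, 0), (749, 0, 0), (549, 0, 0), (414, 0, 0), (1959, 1, 0), (1108, 0, 0), (1063, 0, 0),
   (1065, 0, 0), (1947, 0, 0), (1843, 1, 0), (1291, 0, 0), (608, 0, 0), (920, 0, 0), (1371, 0, 0),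
   (1984, 2, 0), (783, 0, 0), (468, 0, 0), (1872, 0, 0), (957, 0, 0), (262, 4, 0), (1251, 0, 0),
   (1270, 0, 0), (949, 0, 0), (1417, 0, 0), (1298, 1, 0), (1997, 0, 0), (770, 0, 0), (494, 0, 0),
   (415, 0, 0), (1120, 1, 0), (1017, 0, 0), (1136, 0, 0), (1506, 0, 0), (1954, 0, 0), (328, 2, 0),
   (1182, 0, 0), (1266, 0, 0), (1273, 0, 0), (647, 0, 0), (1487, 2, 0), (1403, 0, 0), (1657, 0, 0),
   (508, 0, 0), (881, 0, 0), (1687, 1, 0), (65, 0, 0), (426, 0, 0), (1554, 0, 0), (1806, 0, 0),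
   (965, 3, 0), (1369, 0, 0), (436, 0, 0), (1250, 0, 0), (1901, 0, 0), (916, 2, 0), (1350, 0, 0),
   (1973, 0, 0), (815, 0, 0), (334, 0, 0), (1283, 1, 0), (1663, 0, 0), (450, 0, 0), (206, 0, 0),
   (1790, 0, 0), (489, 1, 0), (1205, 0, 0), (940, 0, 0), (1415, 0, 0), (1615, 0, 0), (1413, 2, 0),
   (1846, 0, 0), (791, 0, 0), (1188, 0, 0), (950, 0, 0), (1028, 1, 0), (994, 0, 0), (1718, 0, 0),
   (1719, 0, 0), (1032, 0, 0), (1572, 4, 0)]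

/-- part 3 of tripTripT4 -/
def tripTripT4_3 : List (ℕ × ℕ × ℕ) := [
   (200, 0, 0), (1599, 0, 0), (81, 0, 0), (1602, 0, 0), (1644, 1, 0), (117, 0, 0), (1832, 0, 0),
   (1280, 0, 0), (584, 0, 0), (311, 1, 0), (1583, 0, 0), (1574, 0, 0), (1203, 0, 0), (619, 0, 0),
   (1744, 3, 0), (593, 0, 0), (1860, 0, 0), (720, 0, 0), (53, 0, 0), (1605, 2, 0), (848, 0, 0),
   (1392, 0, 0), (1610, 0, 0), (490, 0, 0), (811, 2, 0), (295, 0, 0), (407, 0, 0), (1560, 0, 0),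
   (1969, 0, 0), (578, 1, 0), (1244, 0, 0), (601, 0, 0), (1855, 0, 0), (1285, 0, 0), (1499, 1, 0),
   (1420, 0, 0), (530, 0, 0), (506, 0, 0), (1303, 0, 0), (1053, 4, 0), (1320, 0, 0), (1095, 0, 0),
   (1324, 0, 0), (1098, 0, 0), (886, 1, 0), (1442, 0, 0), (1616, 0, 0), (929, 0, 0), (1395, 0, 0),
   (395, 2, 0), (424, 0, 0), (1785, 0, 0), (1914, 0, 0), (1679, 0, 0), (1428, 1, 0), (1611, 0, 0),
   (1884, 0, 0), (745, 0, 0), (825, 0, 0), (1348, 4, 0), (1243, 0, 0), (670, 0, 0), (1859, 0, 0),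
   (961, 0, 0), (1494, 1, 0), (1400, 0, 0), (528, 0, 0), (1655, 0, 0), (869, 0, 0), (738, 1, 0),
   (373, 0, 0), (390, 0, 0), (2007, 0, 0), (1915, 0, 0), (794, 2, 0), (138, 0, 0), (1307, 0, 0),
   (1455, 0, 0), (1861, 0, 0), (326, 2, 0), (111, 0, 0), (1736, 0, 0), (1268, 0, 0), (649, 0, 0),
   (569, 1, 1), (449, 0, 0), (1581, 0, 0), (1805, 0, 0), (1287, 0, 0), (1766, 1, 0), (360, 0, 0),
   (519, 0, 0), (139, 0, 0), (1300, 0, 0), (282, 2, 0), (1649, 0, 0), (155, 0, 0), (1704, 0, 0),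
   (1362, 0, 0), (69, 1, 0), (1873, 0, 0), (694, 0, 0), (1795, 0, 0), (1690, 0, 0), (1515, 1, 0),
   (1040, 0, 0), (1957, 0, 0), (1115, 0, 0), (1125, 0, 0), (1478, 1, 1), (524, 0, 0), (556, 0, 0),
   (866, 0, 0), (1999, 0, 0), (185, 1, 0), (1965, 0, 0), (807, 0, 0), (1621, 0, 0), (408, 0, 0),
   (1537, 2, 0), (629, 0, 0), (559, 0, 0), (161, 0, 0), (1930, 0, 0), (1493, 3, 0), (1495, 0, 0),
   (1447, 0, 0), (531, 0, 0), (931, 0, 0), (658, 2, 0), (1623, 0, 0), (1815, 0, 0), (741, 0, 0),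
   (1149, 0, 0), (1504, 4, 0), (1072, 0, 0), (1079, 0, 0), (1952, 0, 0), (1139, 0, 0), (1407, 1, 0),
   (525, 0, 0), (507, 0, 0), (1703, 0, 0), (1491, 0, 0), (1317, 5, 0), (1327, 0, 0), (1102, 0, 0),
   (1056, 0, 0), (1011, 0, 0), (933, 1, 0)]

/-- part 4 of tripTripT4 -/
def tripTripT4_4 : List (ℕ × ℕ × ℕ) := [
   (1445, 0, 0), (892, 0, 0), (1498, 0, 0), (1406, 0, 0), (1225, 4, 0), (1669, 0, 0), (320, 0, 0),
   (1204, 0, 0), (579, 0, 0), (487, 1, 0), (217, 0, 0), (1697, 0, 0), (1365, 0, 0), (1617, 0, 0),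
   (1640, 1, 0), (76, 0, 0), (1972, 0, 0), (804, 0, 0), (310, 0, 0), (214, 2, 0), (841, 0, 0),
   (1757, 0, 0), (1614, 0, 0), (518, 0, 0), (1588, 1, 0), (915, 0, 0), (1390, 0, 0), (1841, 0, 0),
   (792, 0, 0), (1418, 1, 0), (891, 0, 0), (1441, 0, 0), (1216, 0, 0), (951, 0, 0), (140, 4, 0),
   (1979, 0, 0), (1482, 0, 0), (355, 0, 0), (555, 0, 0), (1132, 1, 0), (1519, 0, 0), (1513, 0, 0),
   (1086, 0, 0), (1084, 0, 0), (756, 1, 0), (924, 0, 0), (1431, 0, 0), (887, 0, 0), (1996, 0, 0),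
   (599, 2, 0), (448, 0, 0), (1181, 0, 0), (1897, 0, 0), (1289, 0, 0), (1536, 1, 0), (650, 0, 0),
   (542, 0, 0), (162, 0, 0), (1299, 0, 0), (1613, 2, 0), (1653, 0, 0), (218, 0, 0), (875, 0, 0),
   (1355, 0, 0), (1027, 2, 0), (1064, 0, 0), (995, 0, 0), (2021, 0, 0), (1113, 0, 0), (1399, 1, 0),
   (558, 0, 0), (505, 0, 0), (1934, 0, 0), (1500, 0, 0), (1364, 3, 0), (1217, 0, 0), (669, 0, 0),
   (338, 0, 0), (1702, 0, 0), (918, 1, 0), (1344, 0, 0), (1844, 0, 0), (1691, 0, 0), (151, 0, 0),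
   (1416, 4, 0), (284, 0, 0), (474, 0, 0), (1192, 0, 0), (1709, 0, 0), (842, 2, 0), (2023, 0, 0),
   (754, 0, 0), (513, 0, 0), (413, 0, 0), (1325, 2, 0), (1094, 0, 0), (1955, 0, 0), (1114, 0, 0),
   (987, 0, 0), (1591, 2, 0), (1301, 0, 0), (1461, 0, 0), (356, 0, 0), (498, 0, 0), (904, 1, 0),
   (1492, 0, 0), (1402, 0, 0), (1257, 0, 0), (675, 0, 0), (1448, 5, 0), (274, 0, 0), (927, 0, 0),
   (1530, 0, 0), (948, 0, 0), (901, 2, 0), (1759, 0, 0), (254, 0, 0), (1256, 0, 0), (609, 0, 0),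
   (712, 1, 0), (189, 0, 0), (1635, 0, 0), (82, 0, 0), (2013, 0, 0), (1637, 1, 0), (1173, 0, 0),
   (1902, 0, 0), (762, 0, 0), (108, 0, 0), (1528, 1, 1), (637, 0, 0), (537, 0, 0), (163, 0, 0),
   (1699, 0, 0), (557, 1, 0), (134, 0, 0), (1931, 0, 0), (1767, 0, 0), (251, 0, 0), (753, 4, 1),
   (1648, 0, 0), (417, 0, 0), (876, 0, 0), (1985, 0, 0), (1008, 2, 0), (1066, 0, 0), (1316, 0, 0),
   (1958, 0, 0), (1118, 0, 0), (2014, 4, 0)]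

/-- part 5 of tripTripT4 -/
def tripTripT4_5 : List (ℕ × ℕ × ℕ) := [
   (793, 0, 0), (213, 0, 0), (911, 0, 0), (1356, 0, 0), (1829, 2, 0), (775, 0, 0), (48, 0, 0),
   (2016, 0, 0), (713, 0, 0), (814, 4, 1), (299, 0, 0), (1871, 0, 0), (700, 0, 0), (1964, 0, 0),
   (587, 1, 0), (1743, 0, 0), (604, 0, 0), (347, 0, 0), (1180, 0, 0), (1880, 4, 1), (732, 0, 0),
   (1696, 0, 0), (1429, 0, 0), (280, 0, 0), (1279, 2, 1), (654, 0, 0), (447, 0, 0), (1812, 0, 0),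
   (1913, 0, 0), (1654, 2, 0), (154, 0, 0), (1304, 0, 0), (1454, 0, 0), (359, 0, 0), (1227, 1, 0),
   (602, 0, 0), (1224, 0, 0), (1269, 0, 0), (644, 0, 0), (1249, 1, 0), (612, 0, 0), (1706, 0, 0),
   (1374, 0, 0), (281, 0, 0), (1030, 5, 1), (1315, 0, 0), (1096, 0, 0), (1724, 0, 0), (1013, 0, 0),
   (885, 1, 0), (1449, 0, 0), (270, 0, 0), (1939, 0, 0), (1476, 0, 0), (1471, 1, 0), (1840, 0, 0),
   (799, 0, 0), (133, 0, 0), (1938, 0, 0), (1183, 2, 0), (1666, 0, 0), (1226, 0, 0), (624, 0, 0),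
   (305, 0, 0), (1253, 1, 0), (625, 0, 0), (898, 0, 0), (1373, 0, 0), (1612, 0, 0), (503, 3, 0),
   (917, 0, 0), (1488, 0, 0), (1993, 0, 0), (797, 0, 0), (1384, 1, 0), (888, 0, 0), (1535, 0, 0),
   (636, 0, 0), (934, 0, 0), (1822, 4, 0), (1310, 0, 0), (1453, 0, 0), (454, 0, 0), (496, 0, 0),
   (219, 4, 0), (835, 0, 0), (1527, 0, 0), (1672, 0, 0), (541, 0, 0), (1651, 5, 0), (1193, 0, 0),
   (947, 0, 0), (1412, 0, 0), (263, 0, 0), (903, 1, 0), (1372, 0, 0), (1212, 0, 0), (1275, 0, 0),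
   (648, 0, 0), (1019, 4, 1), (1960, 0, 0), (1518, 0, 0), (1038, 0, 0), (1088, 0, 0), (337, 2, 1),
   (1302, 0, 0), (1456, 0, 0), (1230, 0, 0), (674, 0, 0), (865, 1, 0), (1490, 0, 0), (1762, 0, 0),
   (529, 0, 0), (520, 0, 0), (659, 2, 0), (346, 0, 0), (1811, 0, 0), (707, 0, 0), (1733, 0, 0),
   (1919, 5, 0), (788, 0, 0), (412, 0, 0), (912, 0, 0), (1986, 0, 0), (1953, 1, 1), (1109, 0, 0),
   (993, 0, 0), (1725, 0, 0), (1002, 0, 0), (55, 5, 0), (2022, 0, 0), (808, 0, 0), (344, 0, 0),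
   (404, 0, 0), (1539, 2, 0), (1101, 0, 0), (1087, 0, 0), (1023, 0, 0), (1128, 0, 0), (1567, 2, 0),
   (1738, 0, 0), (623, 0, 0), (345, 0, 0), (109, 0, 0), (874, 4, 0), (1425, 0, 0), (246, 0, 0),
   (2017, 0, 0), (733, 0, 0), (925, 3, 1)]

/-- part 6 of tripTripT4 -/
def tripTripT4_6 : List (ℕ × ℕ × ℕ) := [
   (1382, 0, 0), (1705, 0, 0), (1443, 0, 0), (285, 0, 0), (1222, 4, 0), (603, 0, 0), (1624, 0, 0),
   (1184, 0, 0), (621, 0, 0), (469, 4, 0), (1823, 0, 0), (1710, 0, 0), (1361, 0, 0), (441, 0, 0),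
   (1720, 1, 0), (1003, 0, 0), (1322, 0, 0), (1093, 0, 0), (1054, 0, 0), (2020, 4, 0), (1474, 0, 0),
   (278, 0, 0), (550, 0, 0), (146, 0, 0), (1022, 1, 1), (1133, 0, 0), (1505, 0, 0), (1042, 0, 0),
   (1726, 0, 0), (440, 1, 0), (926, 0, 0), (1991, 0, 0), (964, 0, 0), (1438, 0, 0), (403, 2, 2),
   (384, 0, 0), (1966, 0, 0), (1923, 0, 0), (761, 0, 0), (1349, 1, 1), (1213, 0, 0), (1675, 0, 0),
   (339, 0, 0), (880, 0, 0), (1529, 3, 0), (632, 0, 0), (1258, 0, 0), (614, 0, 0), (900, 0, 0),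
   (1565, 2, 0), (1575, 0, 0), (1603, 0, 0), (197, 0, 0), (190, 0, 0), (1571, 1, 1), (427, 0, 0),
   (179, 0, 0), (1796, 0, 0), (1683, 0, 0), (515, 2, 0), (1820, 0, 0), (959, 0, 0), (1753, 0, 0),
   (438, 0, 0), (517, 2, 2), (1589, 0, 0), (851, 0, 0), (1761, 0, 0), (252, 0, 0), (115, 1, 0),
   (425, 0, 0), (1154, 0, 0), (1898, 0, 0), (1689, 0, 0), (1534, 1, 0), (631, 0, 0), (1889, 0, 0),
   (734, 0, 0), (834, 0, 0), (1305, 5, 0), (1465, 0, 0), (362, 0, 0), (930, 0, 0), (1381, 0, 0),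
   (790, 1, 0), (1819, 0, 0), (966, 0, 0), (1343, 0, 0), (1874, 0, 0), (1274, 4, 0), (643, 0, 0),
   (1858, 0, 0), (722, 0, 0), (1158, 0, 0), (446, 2, 12), (110, 0, 0), (2008, 0, 0), (1284, 0, 0),
   (618, 0, 0), (552, 1, 2), (1190, 0, 0), (1940, 0, 0), (1479, 0, 0), (259, 0, 0), (1525, 1, 1),
   (1903, 0, 0), (798, 0, 0), (159, 0, 0), (913, 0, 0), (1041, 3, 4), (1326, 0, 0), (1099, 0, 0),
   (1135, 0, 0), (1510, 0, 0), (1029, 5, 0), (1946, 0, 0), (1112, 0, 0), (1714, 0, 0), (1068, 0, 0),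
   (1282, 2, 0), (1263, 0, 0), (664, 0, 0), (327, 0, 0), (1813, 0, 0), (1735, 5, 11), (1899, 0, 0),
   (769, 0, 0), (93, 0, 0), (391, 0, 0), (1388, 4, 1), (434, 0, 0), (481, 0, 0), (2012, 0, 0),
   (960, 0, 0), (661, 5, 3), (899, 0, 0), (1990, 0, 0), (752, 0, 0), (1248, 0, 0), (1444, 1, 1),
   (271, 0, 0), (1308, 0, 0), (1460, 0, 0), (906, 0, 0), (1354, 3, 0), (1643, 0, 0), (488, 0, 0),
   (1836, 0, 0), (956, 0, 0), (238, 4, 0)]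

/-- part 7 of tripTripT4 -/
def tripTripT4_7 : List (ℕ × ℕ × ℕ) := [
   (1259, 0, 0), (610, 0, 0), (1937, 0, 0), (1475, 0, 0), (1223, 2, 8), (1900, 0, 0), (764, 0, 0),
   (1179, 0, 0), (657, 0, 0), (1951, 3, 1), (1111, 0, 0), (1314, 0, 0), (1103, 0, 0), (1052, 0, 0),
   (1671, 3, 1), (318, 0, 0), (208, 0, 0), (1559, 0, 0), (1175, 0, 0), (641, 1, 0), (451, 0, 0),
   (104, 0, 0), (1967, 0, 0), (1292, 0, 0), (1329, 1, 3), (1517, 0, 0), (1059, 0, 0), (1083, 0, 0),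
   (1020, 0, 0), (600, 3, 1), (313, 0, 0), (1739, 0, 0), (594, 0, 0), (1229, 0, 0), (464, 1, 1),
   (416, 0, 0), (1698, 0, 0), (1989, 0, 0), (757, 0, 0), (1968, 5, 2), (1692, 0, 0), (317, 0, 0),
   (428, 0, 0), (34, 0, 0), (1116, 4, 9), (978, 0, 0), (1067, 0, 0), (1716, 0, 0), (1950, 0, 0),
   (1918, 5, 5), (689, 0, 0), (388, 0, 0), (1636, 0, 0), (1804, 0, 0), (1642, 4, 22), (70, 0, 0),
   (1833, 0, 0), (1680, 0, 0), (80, 0, 0), (1977, 1, 9), (813, 0, 0), (325, 0, 0), (406, 0, 0),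
   (1160, 0, 0), (1191, 1, 40), (1309, 0, 0), (1463, 0, 0), (361, 0, 0), (497, 0, 0)]

/-- tree tripTripT4 -/
def tripTripT4 : List (ℕ × ℕ × ℕ) :=
  tripTripT4_0 ++ tripTripT4_1 ++ tripTripT4_2 ++ tripTripT4_3 ++ tripTripT4_4 ++ tripTripT4_5 ++ tripTripT4_6 ++ tripTripT4_7

/-- the orbit classes -/
def tripTripCls : List (ℕ × List (ℕ × ℕ × ℕ)) :=
  [(0, tripTripT0), (1, tripTripT1), (44, tripTripT2), (7, tripTripT3), (19, tripTripT4)]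

theorem tripTrip_ok : tripleK.splitOK tripTripL tripTripGens tripTripCls = true := by decide +kernel

theorem tripTrip_sizes : (tripTripCls.map fun c =>
    (classList tripleK.ix.n fun i => decide (tripleK.invsIx tripTripL i = tripleK.invsIx tripTripL c.1)).length) = [1, 63, 210, 630, 1120] := by
  decide +kernel

/-- part 0 of tripTripU0 -/
def tripTripU0_0 : List (ℕ × ℕ × ℕ) := [
   (1, 0, 0), (364, 1, 0), (680, 0, 0), (1330, 2, 0), (286, 0, 0), (84, 1, 0), (165, 0, 0),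
   (4, 1, 0), (455, 0, 0), (120, 1, 0), (969, 0, 0), (220, 2, 0), (560, 0, 0), (817, 3, 0),
   (819, 0, 0), (1421, 1, 0), (758, 0, 0), (87, 1, 0), (166, 0, 0), (5, 1, 0), (458, 0, 0),
   (409, 1, 0), (1105, 0, 0), (972, 1, 0), (121, 0, 0), (681, 2, 0), (367, 0, 0), (374, 1, 0),
   (690, 0, 0), (1774, 1, 0), (1772, 0, 0), (21, 2, 0), (23, 0, 0), (1231, 1, 0), (1276, 0, 0),
   (563, 1, 0), (221, 0, 0), (456, 1, 0), (7, 0, 0), (385, 1, 0), (708, 0, 0), (168, 1, 0),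
   (85, 0, 0), (167, 6, 0), (88, 0, 0), (380, 1, 0), (696, 0, 0), (1144, 1, 0), (1142, 0, 0),
   (562, 1, 0), (224, 0, 0), (547, 1, 0), (687, 0, 0), (39, 1, 0), (58, 0, 0), (3, 2, 0),
   (366, 1, 0), (684, 0, 0), (368, 1, 0), (682, 0, 0), (1332, 2, 0), (290, 0, 0), (401, 1, 0),
   (736, 0, 0), (8, 1, 0), (457, 0, 0), (122, 1, 0), (973, 0, 0), (1061, 1, 0), (726, 0, 0),
   (820, 1, 0), (818, 0, 0), (37, 3, 0), (60, 0, 0), (420, 1, 0), (717, 0, 0), (24, 1, 0),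
   (22, 0, 0), (1542, 3, 0), (1544, 0, 0), (393, 1, 0), (702, 0, 0), (1409, 2, 0), (257, 1, 0),
   (616, 0, 0), (293, 1, 0), (1436, 0, 0), (266, 1, 0), (1090, 0, 0), (1048, 1, 0), (1376, 0, 0),
   (883, 1, 0), (937, 0, 0), (172, 2, 0), (492, 0, 0), (136, 1, 0), (985, 0, 0), (1312, 1, 0),
   (1186, 0, 0), (801, 2, 0), (431, 0, 0), (466, 1, 0), (17, 0, 0), (1793, 1, 0), (1800, 0, 0),
   (718, 3, 0), (422, 0, 0), (378, 1, 0), (790, 0, 0), (1819, 1, 0), (1944, 0, 0), (1107, 1, 0),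
   (412, 0, 0), (912, 1, 0), (957, 0, 0), (1984, 1, 0), (1851, 0, 0), (1157, 2, 0), (1158, 0, 0),
   (1274, 1, 0), (1288, 0, 0), (668, 1, 0), (228, 0, 0), (478, 1, 0), (65, 0, 0), (426, 1, 0),
   (724, 0, 0), (183, 1, 0), (101, 0, 0), (923, 2, 0), (825, 0, 0), (1428, 1, 0), (766, 0, 0),
   (204, 1, 0), (203, 0, 0), (28, 1, 0), (473, 0, 0), (1241, 1, 0), (1328, 0, 0), (1092, 1, 0),
   (267, 0, 0), (443, 3, 0), (1467, 0, 0), (1341, 2, 0), (297, 0, 0), (1808, 1, 0), (1827, 0, 0),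
   (1556, 2, 0), (1169, 1, 0), (1162, 0, 0)]

/-- part 1 of tripTripU0 -/
def tripTripU0_1 : List (ℕ × ℕ × ℕ) := [
   (1661, 1, 0), (1607, 0, 0), (484, 1, 0), (42, 0, 0), (1562, 1, 0), (1569, 0, 0), (194, 1, 0),
   (106, 0, 0), (895, 2, 0), (1484, 0, 0), (1397, 1, 0), (639, 0, 0), (323, 1, 0), (1386, 0, 0),
   (227, 1, 0), (666, 0, 0), (332, 1, 0), (1502, 0, 0), (1036, 1, 0), (606, 0, 0), (909, 3, 0),
   (955, 0, 0), (1424, 1, 0), (760, 0, 0), (89, 1, 0), (170, 0, 0), (372, 1, 0), (788, 0, 0),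
   (1382, 2, 0), (1055, 0, 0), (1033, 1, 0), (219, 0, 0), (835, 1, 0), (927, 0, 0), (1530, 1, 0),
   (1324, 0, 0), (1098, 1, 0), (285, 0, 0), (925, 1, 0), (218, 2, 0), (1012, 0, 0), (1717, 1, 0),
   (1591, 0, 0), (1301, 1, 0), (1300, 0, 0), (1766, 1, 0), (1630, 0, 0), (499, 1, 0), (190, 0, 0),
   (1565, 1, 0), (1653, 0, 0), (805, 3, 0), (435, 0, 0), (1881, 1, 0), (1785, 0, 0), (1914, 1, 0),
   (1870, 0, 0), (740, 1, 0), (405, 0, 0), (1791, 1, 0), (1978, 1, 0), (1975, 0, 0), (1095, 2, 0),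
   (271, 0, 0), (1308, 1, 0), (1297, 0, 0), (1457, 1, 0), (360, 0, 0), (519, 1, 0), (205, 0, 0),
   (54, 1, 0), (489, 0, 0), (1205, 1, 0), (1320, 0, 0), (948, 2, 0), (1448, 1, 0), (1412, 0, 0),
   (263, 1, 0), (623, 0, 0), (345, 1, 0), (1444, 0, 0), (866, 2, 0), (1127, 0, 0), (2000, 1, 0),
   (1859, 0, 0), (961, 1, 0), (918, 0, 0), (1344, 1, 0), (538, 0, 0), (1825, 1, 0), (1953, 0, 0),
   (1109, 1, 0), (556, 0, 0), (1115, 2, 0), (1070, 0, 0), (1117, 2, 0), (661, 0, 0), (899, 1, 0),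
   (1488, 0, 0), (1993, 1, 0), (1904, 0, 0), (767, 1, 0), (1432, 0, 0), (234, 1, 0), (670, 0, 0),
   (1820, 2, 0), (1957, 0, 0), (602, 3, 0), (281, 0, 0), (1249, 1, 0), (612, 1, 0), (1043, 0, 0),
   (1085, 1, 0), (160, 0, 0), (843, 1, 0), (850, 0, 0), (1531, 1, 0), (1227, 0, 0), (1309, 2, 0),
   (1305, 0, 0), (1465, 1, 0), (356, 0, 0), (498, 1, 0), (197, 0, 0), (1571, 2, 0), (1563, 0, 0),
   (1570, 1, 0), (1564, 0, 0), (1639, 1, 0), (1683, 0, 0), (1434, 2, 0), (1479, 0, 0), (259, 1, 0),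
   (617, 0, 0), (294, 1, 0), (1438, 0, 0), (440, 1, 0), (1121, 0, 0), (1050, 1, 0), (1377, 0, 0),
   (884, 1, 0), (939, 0, 0), (868, 3, 0), (1130, 0, 0), (1512, 1, 0), (340, 0, 0), (858, 1, 0),
   (877, 0, 0), (1524, 1, 0), (1258, 0, 0)]

/-- part 2 of tripTripU0 -/
def tripTripU0_2 : List (ℕ × ℕ × ℕ) := [
   (614, 1, 0), (1046, 0, 0), (1078, 1, 0), (504, 0, 0), (733, 2, 0), (1067, 0, 0), (1716, 1, 0),
   (1590, 0, 0), (1932, 1, 0), (1931, 0, 0), (1767, 1, 0), (1644, 0, 0), (117, 1, 0), (191, 0, 0),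
   (2006, 1, 0), (2017, 0, 0), (415, 2, 0), (1111, 0, 0), (1314, 1, 0), (1187, 0, 0), (938, 1, 0),
   (885, 0, 0), (1449, 1, 0), (762, 0, 0), (108, 1, 0), (195, 0, 0), (173, 1, 0), (494, 0, 0),
   (1460, 3, 0), (1059, 0, 0), (1083, 1, 0), (214, 0, 0), (841, 1, 0), (929, 0, 0), (1395, 1, 0),
   (1056, 0, 0), (1011, 1, 0), (216, 0, 0), (1691, 2, 0), (1635, 0, 0), (82, 1, 0), (2013, 1, 0),
   (2011, 0, 0), (714, 1, 0), (391, 0, 0), (1735, 1, 0), (1899, 1, 0), (1844, 0, 0), (328, 2, 0),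
   (1391, 0, 0), (1210, 1, 0), (1275, 0, 0), (648, 1, 0), (1513, 0, 0), (1086, 1, 0), (609, 0, 0),
   (901, 1, 0), (1491, 0, 0), (1407, 1, 0), (647, 0, 0), (1487, 3, 0), (934, 0, 0), (1384, 1, 0),
   (1058, 0, 0), (1009, 1, 0), (520, 0, 0), (865, 1, 0), (1137, 0, 0), (1511, 1, 0), (1057, 0, 0),
   (1131, 1, 0), (881, 0, 0), (1687, 2, 0), (1640, 0, 0), (76, 1, 0), (55, 0, 0), (2022, 1, 0),
   (808, 1, 0), (437, 0, 0), (1650, 1, 0), (1554, 0, 0), (1806, 1, 0), (304, 2, 0), (1347, 0, 0),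
   (1208, 1, 0), (1263, 0, 0), (664, 1, 0), (1478, 0, 0), (524, 1, 0), (568, 0, 0), (309, 1, 0),
   (1361, 0, 0), (441, 1, 0), (809, 0, 0), (1498, 3, 0), (898, 0, 0), (1373, 1, 0), (349, 0, 0),
   (1733, 2, 0), (1732, 0, 0), (590, 1, 0), (244, 0, 0), (1659, 1, 0), (1680, 0, 0), (80, 1, 0),
   (79, 0, 0), (1597, 1, 0), (1579, 0, 0), (398, 1, 0), (707, 0, 0), (1656, 3, 0), (1580, 0, 0),
   (83, 1, 0), (1741, 1, 0), (1739, 0, 0), (594, 1, 0), (247, 0, 0), (1745, 1, 0), (1734, 0, 0),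
   (595, 1, 0), (255, 0, 0), (325, 2, 0), (1387, 0, 0), (1552, 2, 0), (1553, 0, 0), (1869, 2, 0),
   (1915, 0, 0), (738, 1, 0), (402, 0, 0), (32, 1, 0), (33, 0, 0), (1883, 2, 0), (1803, 0, 0),
   (742, 1, 0), (408, 0, 0), (185, 1, 0), (104, 0, 0), (1967, 1, 0), (1292, 1, 0), (1243, 0, 0),
   (1230, 3, 0), (1536, 0, 0), (650, 1, 0), (1462, 0, 0), (545, 1, 0), (1454, 0, 0), (359, 1, 0),
   (1458, 0, 0), (363, 1, 0), (1459, 0, 0)]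

/-- part 3 of tripTripU0 -/
def tripTripU0_3 : List (ℕ × ℕ × ℕ) := [
   (358, 1, 0), (1456, 0, 0), (469, 2, 0), (1823, 1, 0), (1950, 0, 0), (1116, 1, 0), (418, 0, 0),
   (836, 1, 0), (2001, 1, 0), (1974, 0, 0), (1266, 2, 0), (1212, 0, 0), (674, 2, 0), (279, 0, 0),
   (480, 1, 0), (487, 0, 0), (217, 1, 0), (1013, 0, 0), (1030, 1, 0), (162, 0, 0), (1299, 1, 0),
   (676, 2, 0), (260, 0, 0), (482, 1, 0), (75, 0, 0), (1202, 1, 0), (1184, 0, 0), (621, 1, 0),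
   (262, 0, 0), (1251, 1, 0), (1159, 0, 0), (1267, 1, 0), (1214, 0, 0), (599, 2, 0), (277, 0, 0),
   (463, 1, 0), (464, 0, 0), (416, 1, 0), (1113, 0, 0), (1027, 1, 0), (158, 0, 0), (833, 1, 0),
   (834, 0, 0), (1534, 1, 0), (1289, 0, 0), (525, 3, 0), (669, 0, 0), (338, 1, 0), (1509, 0, 0),
   (233, 2, 0), (572, 0, 0), (1779, 2, 0), (1879, 0, 0), (781, 1, 0), (1119, 0, 0), (982, 1, 0),
   (132, 0, 0), (1926, 1, 0), (1927, 0, 0), (1480, 1, 0), (784, 0, 0), (97, 1, 0), (177, 0, 0),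
   (2004, 2, 0), (2005, 0, 0), (779, 1, 0), (778, 0, 0), (1514, 2, 0), (1418, 0, 0), (891, 1, 0),
   (947, 0, 0), (1599, 2, 0), (1654, 0, 0), (154, 1, 0), (996, 0, 0), (1749, 1, 0), (1740, 0, 0),
   (944, 1, 0), (889, 0, 0), (1765, 1, 0), (1622, 0, 0), (119, 1, 0), (200, 0, 0), (1621, 2, 0),
   (1752, 0, 0), (250, 1, 0), (584, 0, 0), (311, 2, 0), (1443, 0, 0), (133, 2, 0), (981, 0, 0),
   (1839, 2, 0), (1894, 0, 0), (870, 3, 0), (1133, 0, 0), (1505, 1, 0), (543, 0, 0), (1286, 2, 0),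
   (1325, 0, 0), (1094, 1, 0), (270, 0, 0), (1939, 1, 0), (1928, 0, 0), (1473, 1, 0), (450, 0, 0),
   (206, 1, 0), (1790, 1, 0), (1882, 0, 0), (506, 2, 0), (988, 0, 0), (1318, 1, 0), (1193, 0, 0),
   (803, 2, 0), (432, 0, 0), (467, 1, 0), (19, 0, 0), (1952, 3, 0), (1139, 1, 0), (917, 0, 0),
   (1238, 3, 0), (1284, 0, 0), (618, 1, 0), (258, 0, 0), (472, 1, 0), (29, 0, 0), (490, 2, 0),
   (81, 0, 0), (1602, 1, 0), (1584, 0, 0), (199, 1, 0), (111, 0, 0), (1736, 1, 0), (1268, 1, 0),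
   (1213, 0, 0), (1675, 1, 0), (1610, 0, 0), (1052, 3, 0), (1380, 0, 0), (1936, 1, 0), (1940, 0, 0),
   (184, 2, 0), (497, 0, 0), (1191, 1, 0), (1317, 0, 0), (1327, 1, 0), (1216, 0, 0), (951, 1, 0),
   (886, 0, 0), (1442, 1, 0), (318, 0, 0)]

/-- part 4 of tripTripU0 -/
def tripTripU0_4 : List (ℕ × ℕ × ℕ) := [
   (208, 1, 0), (209, 0, 0), (1696, 2, 0), (1695, 0, 0), (1360, 1, 0), (310, 0, 0), (1225, 2, 0),
   (1528, 0, 0), (637, 1, 0), (635, 0, 0), (539, 1, 0), (1349, 0, 0), (488, 2, 0), (49, 0, 0),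
   (2009, 1, 0), (2010, 0, 0), (743, 1, 0), (407, 0, 0), (1560, 1, 0), (1969, 1, 0), (1968, 0, 0),
   (1692, 1, 0), (1643, 0, 0), (1069, 2, 0), (745, 0, 0), (554, 3, 0), (705, 0, 0), (1416, 2, 0),
   (1415, 0, 0), (1615, 1, 0), (1671, 0, 0), (849, 3, 0), (842, 0, 0), (2023, 1, 0), (2015, 0, 0),
   (1237, 2, 0), (1282, 0, 0), (1657, 3, 0), (1664, 0, 0), (321, 1, 0), (1365, 0, 0), (1617, 1, 0),
   (1669, 0, 0), (320, 1, 0), (1357, 0, 0), (1742, 1, 0), (1746, 0, 0), (646, 1, 0), (1403, 0, 0),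
   (327, 2, 0), (1390, 0, 0), (1841, 1, 0), (1906, 0, 0), (768, 1, 0), (1515, 0, 0), (1040, 1, 0),
   (610, 0, 0), (1937, 1, 0), (1999, 0, 0), (1489, 4, 0), (900, 0, 0), (1529, 1, 0), (1229, 0, 0),
   (600, 1, 0), (532, 0, 0), (1594, 2, 0), (1722, 0, 0), (1001, 1, 0), (507, 0, 0), (1703, 1, 0),
   (1729, 0, 0), (1682, 5, 0), (1637, 0, 0), (1173, 1, 0), (1166, 0, 0), (2018, 1, 0), (2014, 0, 0),
   (793, 1, 0), (389, 0, 0), (1566, 1, 0), (1573, 0, 0), (1834, 1, 0), (1814, 0, 0), (1394, 3, 0),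
   (350, 0, 0), (103, 1, 0), (516, 0, 0), (1189, 1, 0), (1326, 0, 0), (1099, 1, 0), (1045, 0, 0),
   (755, 2, 0), (662, 0, 0), (300, 1, 0), (1440, 0, 0), (1847, 1, 0), (1958, 0, 0), (1118, 1, 0),
   (1431, 0, 0), (887, 1, 0), (941, 0, 0), (1994, 1, 0), (1160, 2, 0), (1977, 1, 0), (1973, 0, 0),
   (815, 1, 0), (434, 0, 0), (481, 1, 0), (70, 0, 0), (1833, 1, 0), (1815, 0, 0), (741, 1, 0),
   (406, 0, 0), (1770, 3, 0), (1743, 0, 0), (604, 1, 0), (282, 0, 0), (1649, 1, 0), (155, 1, 0),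
   (1004, 0, 0), (355, 2, 0), (1452, 0, 0), (354, 1, 0), (1453, 0, 0), (454, 1, 0), (1482, 0, 0),
   (924, 3, 0), (824, 0, 0), (1353, 1, 0), (317, 0, 0), (428, 1, 0), (744, 0, 0), (1768, 2, 0),
   (1706, 0, 0), (1374, 1, 0), (348, 0, 0), (1283, 4, 0), (1239, 0, 0), (620, 1, 0), (261, 0, 0),
   (1933, 2, 0), (1935, 0, 0), (1470, 1, 0), (559, 0, 0), (161, 1, 0), (1029, 0, 0), (1946, 1, 0),
   (1886, 0, 0), (962, 1, 0), (1136, 0, 0)]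

/-- part 5 of tripTripU0 -/
def tripTripU0_5 : List (ℕ × ℕ × ℕ) := [
   (1506, 1, 0), (336, 0, 0), (1866, 3, 0), (1922, 0, 0), (728, 1, 0), (1062, 0, 0), (1037, 2, 0),
   (608, 0, 0), (920, 1, 0), (1500, 0, 0), (1399, 1, 0), (640, 0, 0), (324, 1, 0), (1388, 0, 0),
   (151, 3, 0), (992, 0, 0), (1713, 1, 0), (1588, 0, 0), (915, 1, 0), (959, 0, 0), (1753, 1, 0),
   (1620, 0, 0), (114, 1, 0), (189, 0, 0), (1625, 2, 0), (1758, 0, 0), (283, 1, 0), (603, 0, 0),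
   (1624, 1, 0), (1756, 0, 0), (551, 2, 0), (694, 0, 0), (1795, 1, 0), (1801, 0, 0), (737, 1, 0),
   (403, 0, 0), (384, 1, 0), (700, 0, 0), (1964, 1, 0), (1963, 0, 0), (802, 1, 0), (433, 0, 0),
   (1228, 3, 0), (1539, 0, 0), (1101, 1, 0), (636, 0, 0), (720, 2, 0), (557, 0, 0), (134, 1, 0),
   (1079, 0, 0), (1897, 3, 0), (1843, 0, 0), (1291, 1, 0), (1235, 0, 0), (586, 1, 0), (253, 0, 0),
   (1887, 1, 0), (1811, 0, 0), (1510, 3, 0), (351, 0, 0), (856, 1, 0), (932, 0, 0), (1379, 1, 0),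
   (1087, 0, 0), (1023, 1, 0), (1034, 0, 0), (1126, 1, 0), (931, 0, 0), (1493, 1, 0), (1135, 0, 0),
   (1217, 2, 0), (1269, 0, 0), (644, 1, 0), (1402, 0, 0), (1257, 1, 0), (1264, 0, 0), (645, 1, 0),
   (1404, 0, 0), (761, 3, 0), (1423, 0, 0), (232, 1, 0), (573, 0, 0), (1875, 1, 0), (1998, 0, 0),
   (749, 1, 0), (653, 0, 0), (298, 1, 0), (1343, 0, 0), (1874, 1, 0), (1923, 0, 0), (930, 3, 0),
   (875, 0, 0), (1355, 1, 0), (541, 0, 0), (1188, 2, 0), (1313, 0, 0), (1091, 1, 0), (268, 0, 0),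
   (935, 1, 0), (956, 0, 0), (1354, 1, 0), (316, 0, 0), (1145, 2, 0), (583, 2, 0), (251, 0, 0),
   (1852, 4, 0), (1983, 0, 0), (748, 1, 0), (654, 0, 0), (447, 1, 0), (1471, 0, 0), (1840, 1, 0),
   (1893, 0, 0), (853, 3, 0), (872, 0, 0), (1337, 1, 0), (534, 0, 0), (157, 1, 0), (1025, 0, 0),
   (976, 1, 0), (501, 0, 0), (862, 1, 0), (1123, 0, 0), (276, 2, 0), (597, 0, 0), (302, 1, 0),
   (1346, 0, 0), (1207, 1, 0), (1261, 0, 0), (567, 2, 0), (522, 0, 0), (546, 6, 0), (686, 0, 0),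
   (38, 1, 0), (57, 0, 0), (2, 2, 0), (365, 1, 0), (683, 0, 0), (1351, 2, 0), (314, 0, 0),
   (201, 1, 0), (26, 1, 0), (470, 0, 0), (1185, 1, 0), (1311, 0, 0), (1089, 1, 0), (265, 0, 0),
   (921, 1, 0), (822, 0, 0), (193, 2, 0)]

/-- part 6 of tripTripU0 -/
def tripTripU0_6 : List (ℕ × ℕ × ℕ) := [
   (105, 0, 0), (1555, 1, 0), (1168, 1, 0), (1161, 0, 0), (1660, 1, 0), (1606, 0, 0), (483, 1, 0),
   (41, 0, 0), (1561, 1, 0), (1568, 0, 0), (535, 4, 0), (1339, 0, 0), (1017, 3, 0), (1016, 0, 0),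
   (1124, 1, 0), (864, 0, 0), (1497, 1, 0), (965, 0, 0), (1369, 1, 0), (343, 0, 0), (92, 1, 0),
   (513, 0, 0), (413, 1, 0), (1120, 0, 0), (1406, 2, 0), (1102, 0, 0), (1667, 4, 0), (1614, 0, 0),
   (518, 1, 0), (109, 0, 0), (1567, 1, 0), (1574, 0, 0), (1203, 1, 0), (1183, 0, 0), (1666, 1, 0),
   (1612, 0, 0), (1253, 1, 0), (1165, 0, 0), (1125, 5, 0), (863, 0, 0), (1485, 1, 0), (897, 0, 0),
   (1430, 1, 0), (769, 0, 0), (93, 1, 0), (512, 0, 0), (128, 1, 0), (1077, 0, 0), (272, 2, 0),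
   (1097, 0, 0), (229, 2, 0), (667, 0, 0), (333, 1, 0), (1504, 0, 0), (1072, 1, 0), (810, 0, 0),
   (357, 5, 0), (1455, 0, 0), (1861, 1, 0), (1997, 0, 0), (770, 1, 0), (1464, 0, 0), (983, 2, 0),
   (505, 0, 0), (1934, 1, 0), (1960, 0, 0), (1518, 1, 0), (452, 0, 0), (857, 1, 0), (876, 0, 0),
   (1985, 1, 0), (1889, 0, 0), (734, 1, 0), (1071, 0, 0), (1723, 2, 0), (1670, 0, 0), (902, 1, 0),
   (1490, 0, 0), (1762, 1, 0), (1673, 0, 0), (330, 1, 0), (1392, 0, 0), (1623, 2, 0), (1755, 0, 0),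
   (1845, 1, 0), (1898, 0, 0), (1689, 1, 0), (1764, 0, 0), (1065, 2, 0), (730, 0, 0), (1890, 3, 0),
   (1911, 0, 0), (704, 1, 0), (394, 0, 0), (974, 2, 0), (125, 0, 0), (703, 2, 0), (395, 0, 0),
   (424, 1, 0), (721, 0, 0), (1789, 1, 0), (1788, 0, 0), (1278, 1, 0), (1234, 0, 0), (656, 1, 0),
   (751, 0, 0), (1990, 2, 0), (1860, 0, 0), (116, 3, 0), (517, 0, 0), (1589, 1, 0), (1726, 0, 0),
   (1022, 1, 0), (1021, 0, 0), (425, 3, 0), (722, 0, 0), (164, 4, 0), (1031, 0, 0), (1715, 1, 0),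
   (1655, 0, 0), (869, 1, 0), (1129, 0, 0), (1769, 1, 0), (1628, 0, 0), (860, 1, 0), (878, 0, 0),
   (1754, 1, 0), (1658, 0, 0), (574, 3, 0), (526, 0, 0), (1194, 5, 0), (1322, 0, 0), (1093, 1, 0),
   (531, 0, 0), (1054, 1, 1), (1383, 0, 0), (893, 1, 0), (945, 0, 0), (1414, 1, 0), (1215, 1, 0),
   (1271, 0, 0), (642, 1, 0), (1447, 0, 0), (641, 3, 0), (1398, 0, 0), (523, 1, 0), (569, 0, 0),
   (449, 1, 0), (1474, 0, 0), (278, 1, 0)]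

/-- part 7 of tripTripU0 -/
def tripTripU0_7 : List (ℕ × ℕ × ℕ) := [
   (598, 0, 0), (303, 1, 0), (1348, 0, 0), (1822, 4, 0), (1948, 0, 0), (527, 2, 0), (579, 0, 0),
   (1641, 4, 0), (1728, 0, 0), (1000, 1, 0), (143, 0, 0), (894, 5, 0), (1483, 0, 0), (1396, 1, 0),
   (638, 0, 0), (322, 1, 0), (1385, 0, 0), (226, 1, 0), (665, 0, 0), (331, 1, 0), (1501, 0, 0),
   (1035, 1, 0), (605, 0, 0), (907, 3, 0), (952, 0, 0), (1333, 1, 0), (287, 0, 0), (1141, 2, 0),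
   (1143, 0, 0), (651, 1, 0), (746, 0, 0), (1366, 2, 0), (341, 0, 0), (90, 1, 0), (510, 0, 0),
   (126, 1, 0), (1074, 0, 0), (1014, 1, 0), (1122, 1, 0), (861, 0, 0), (735, 2, 0), (400, 0, 0),
   (30, 1, 0), (1961, 1, 0), (800, 1, 0), (430, 0, 0), (465, 1, 0), (16, 0, 0), (1792, 1, 0),
   (1799, 0, 0), (716, 3, 0), (419, 0, 0), (1711, 2, 0), (1585, 0, 0), (844, 1, 0), (837, 0, 0),
   (1750, 1, 0), (1618, 0, 0), (112, 1, 0), (186, 0, 0), (1546, 1, 0), (1645, 0, 0), (148, 1, 0),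
   (990, 0, 0), (352, 2, 0), (1450, 0, 0), (1557, 4, 0), (1558, 0, 0), (553, 2, 0), (712, 0, 0),
   (578, 6, 0), (237, 0, 0), (1247, 1, 0), (1149, 0, 0), (658, 1, 0), (754, 0, 0), (798, 3, 0),
   (1425, 0, 0), (246, 1, 0), (593, 0, 0), (1780, 2, 0), (1878, 0, 0), (727, 1, 0), (1063, 0, 0),
   (1042, 2, 0), (613, 0, 0), (905, 1, 0), (1492, 0, 0), (1372, 4, 0), (347, 0, 0), (1180, 1, 0),
   (1256, 0, 0), (634, 3, 0), (633, 0, 0), (326, 2, 0), (1446, 0, 0), (269, 1, 0), (1104, 0, 0),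
   (942, 3, 0), (888, 0, 0), (1535, 1, 0), (1222, 0, 0), (1039, 3, 0), (675, 0, 0), (904, 1, 0),
   (1519, 0, 0), (280, 2, 0), (601, 0, 0), (1855, 1, 0), (1987, 0, 0), (475, 2, 0), (34, 0, 0),
   (1884, 2, 0), (1796, 0, 0), (966, 4, 0), (1252, 3, 0), (1172, 0, 0), (622, 1, 0), (264, 0, 0),
   (855, 2, 0), (873, 0, 0), (1338, 1, 0), (536, 0, 0), (1192, 2, 0), (1319, 0, 0), (1100, 1, 0),
   (274, 0, 0), (1051, 1, 1), (1445, 0, 0), (892, 1, 0), (1138, 0, 0), (1223, 6, 0), (1525, 0, 0),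
   (1903, 1, 0), (903, 3, 0), (1494, 0, 0), (1400, 1, 0), (678, 0, 0), (940, 3, 0), (933, 0, 0),
   (1259, 6, 0), (1280, 0, 0), (1068, 4, 0), (732, 0, 0), (713, 4, 0), (390, 0, 0), (2007, 1, 0),
   (1868, 2, 0), (1913, 0, 0), (1279, 1, 0)]

/-- part 8 of tripTripU0 -/
def tripTripU0_8 : List (ℕ × ℕ × ℕ) := [
   (1233, 0, 0), (1024, 4, 0), (156, 0, 0), (831, 1, 0), (1520, 1, 0), (1218, 0, 0), (596, 1, 0),
   (275, 0, 0), (461, 1, 0), (141, 1, 0), (997, 0, 0), (223, 2, 0), (561, 0, 0), (816, 3, 0),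
   (36, 3, 0), (59, 0, 0), (725, 3, 0), (1060, 0, 0), (979, 1, 0), (130, 0, 0), (1924, 1, 0),
   (1466, 1, 0), (442, 0, 0), (94, 1, 0), (175, 0, 0), (1777, 1, 0), (1876, 0, 0), (135, 2, 0),
   (984, 0, 0), (521, 2, 0), (566, 0, 0), (307, 1, 0), (1358, 0, 0), (13, 2, 0), (11, 0, 0),
   (1771, 3, 0), (20, 2, 0), (1140, 1, 0), (971, 4, 0), (124, 0, 0), (908, 1, 0), (953, 0, 0),
   (1334, 1, 0), (288, 0, 0), (86, 1, 0), (169, 0, 0), (371, 1, 0), (786, 0, 0), (63, 4, 0),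
   (477, 0, 0), (1586, 1, 0), (1712, 0, 0), (998, 1, 0), (142, 0, 0), (1694, 1, 0), (1359, 1, 0),
   (308, 0, 0), (1577, 1, 0), (1596, 0, 0), (1632, 2, 0), (1677, 0, 0), (1422, 2, 0), (759, 0, 0),
   (1521, 2, 0), (1219, 0, 0), (991, 4, 0), (149, 0, 0), (773, 3, 0), (774, 0, 0), (377, 1, 0),
   (692, 0, 0), (1776, 1, 0), (52, 2, 0), (74, 0, 0), (1242, 1, 0), (1285, 0, 0), (1499, 2, 0),
   (906, 0, 0), (1204, 2, 0), (1709, 2, 0), (1705, 0, 0), (312, 3, 0), (1363, 0, 0), (1848, 1, 0),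
   (1900, 0, 0), (764, 1, 0), (1427, 0, 0), (1211, 1, 0), (1265, 0, 0), (1895, 2, 0), (1888, 0, 0),
   (795, 1, 0), (1064, 0, 0), (995, 1, 0), (153, 0, 0), (1910, 2, 0), (1864, 0, 0), (986, 2, 0),
   (138, 0, 0), (1307, 1, 0), (1310, 0, 0), (1461, 2, 0), (361, 0, 0), (1302, 2, 0), (1304, 0, 0),
   (1287, 6, 1), (1240, 0, 0), (580, 1, 0), (240, 0, 0), (1976, 1, 0), (1965, 0, 0), (807, 1, 0),
   (438, 0, 0), (515, 1, 0), (98, 0, 0), (1798, 1, 0), (1805, 0, 0), (1685, 3, 0), (1642, 0, 0),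
   (1725, 2, 0), (1686, 0, 0), (847, 1, 0), (839, 0, 0), (187, 3, 0), (113, 0, 0), (181, 1, 0),
   (100, 0, 0), (1156, 1, 0), (1608, 3, 0), (1663, 0, 0), (485, 1, 1), (44, 0, 0), (1638, 1, 0),
   (1684, 0, 0), (196, 1, 0), (107, 0, 0), (896, 2, 0), (1486, 0, 0), (1433, 1, 0), (813, 0, 0),
   (1575, 4, 0), (1603, 1, 0), (1583, 0, 0), (794, 4, 0), (423, 0, 0), (1719, 2, 0), (1592, 0, 0),
   (1701, 1, 0), (1700, 0, 0), (453, 2, 0)]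

/-- part 9 of tripTripU0 -/
def tripTripU0_9 : List (ℕ × ℕ × ℕ) := [
   (1475, 0, 0), (238, 1, 0), (577, 0, 0), (1220, 1, 0), (1523, 0, 0), (663, 1, 0), (812, 0, 0),
   (1370, 2, 0), (544, 0, 0), (592, 3, 0), (528, 0, 0), (649, 3, 0), (1405, 0, 0), (1411, 3, 0),
   (1410, 0, 0), (1152, 2, 0), (1153, 0, 0), (1905, 1, 0), (1919, 0, 0), (542, 3, 0), (1389, 0, 0),
   (245, 1, 0), (673, 0, 0), (129, 2, 0), (1076, 0, 0), (576, 3, 0), (236, 0, 0), (1246, 1, 0),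
   (1147, 0, 0), (582, 1, 0), (249, 0, 0), (511, 1, 0), (91, 0, 0), (51, 1, 0), (72, 0, 0),
   (1196, 1, 0), (1177, 0, 0), (1006, 4, 0), (211, 0, 0), (823, 1, 0), (922, 0, 0), (137, 5, 0),
   (987, 0, 0), (1901, 4, 0), (1954, 0, 0), (1744, 5, 0), (1747, 0, 0), (591, 1, 0), (243, 0, 0),
   (1647, 1, 0), (1549, 0, 0), (399, 1, 0), (715, 0, 0), (1598, 1, 0), (1578, 0, 0), (73, 1, 0),
   (53, 0, 0), (540, 2, 0), (1362, 0, 0), (69, 2, 0), (47, 0, 0), (852, 5, 0), (871, 0, 0),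
   (1336, 1, 0), (533, 0, 0), (43, 4, 0), (486, 0, 0), (429, 1, 0), (1114, 0, 0), (1495, 2, 0),
   (949, 0, 0), (1417, 1, 0), (1419, 0, 0), (1167, 4, 0), (1174, 0, 0), (1688, 3, 0), (1674, 0, 0),
   (319, 1, 0), (1356, 0, 0), (1854, 2, 0), (1986, 0, 0), (1810, 3, 0), (1828, 0, 0), (688, 1, 0),
   (549, 0, 0), (414, 1, 0), (1110, 0, 0), (1945, 1, 0), (1818, 0, 0), (954, 1, 0), (910, 0, 0),
   (1426, 1, 0), (763, 0, 0), (1880, 3, 0), (911, 4, 0), (967, 0, 0), (1378, 1, 0), (1049, 0, 0),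
   (1007, 1, 0), (213, 0, 0), (417, 3, 0), (1112, 0, 0), (1714, 1, 0), (1587, 0, 0), (846, 1, 0),
   (840, 0, 0), (1408, 4, 1), (256, 1, 0), (615, 0, 0), (292, 1, 0), (1435, 0, 0), (975, 3, 1),
   (500, 0, 0), (18, 4, 0), (468, 0, 0), (1872, 1, 0), (1959, 0, 0), (1108, 1, 0), (411, 0, 0),
   (828, 1, 0), (829, 0, 0), (1995, 1, 0), (1920, 0, 0), (719, 1, 0), (421, 0, 0), (1195, 4, 0),
   (1176, 0, 0), (575, 1, 0), (235, 0, 0), (1245, 1, 0), (1146, 0, 0), (581, 1, 0), (248, 0, 0),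
   (291, 4, 0), (1335, 0, 0), (1786, 4, 0), (1576, 3, 0), (1595, 0, 0), (62, 1, 0), (476, 0, 0),
   (493, 6, 0), (174, 0, 0), (1451, 3, 1), (353, 0, 0), (1631, 6, 0), (1676, 0, 0), (747, 5, 0),
   (652, 0, 0), (1295, 3, 0), (1296, 0, 0)]

/-- part 10 of tripTripU0 -/
def tripTripU0_10 : List (ℕ × ℕ × ℕ) := [
   (1507, 5, 0), (337, 0, 0), (146, 4, 0), (1002, 0, 0), (2020, 1, 1), (110, 3, 0), (198, 0, 0),
   (1830, 1, 0), (1885, 0, 0), (731, 1, 0), (1066, 0, 0), (1316, 1, 0), (1190, 0, 0), (1720, 5, 1),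
   (1605, 0, 0), (848, 1, 0), (928, 0, 0), (1760, 1, 0), (1724, 0, 0), (672, 4, 0), (252, 0, 0),
   (115, 2, 0), (188, 0, 0), (1548, 1, 0), (1648, 0, 0), (1476, 5, 0), (1073, 0, 0), (1010, 1, 0),
   (215, 0, 0), (2019, 2, 0), (2016, 0, 0), (1181, 3, 0), (1200, 0, 0), (1323, 4, 0), (1270, 0, 0),
   (804, 2, 0), (558, 0, 0), (1273, 3, 0), (1532, 0, 0), (677, 1, 0), (630, 0, 0), (1634, 4, 0),
   (1678, 0, 0), (61, 1, 0), (40, 0, 0), (1633, 1, 0), (1679, 0, 0), (68, 1, 1), (48, 0, 0),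
   (1856, 2, 0), (1989, 0, 0), (757, 1, 0), (660, 0, 0), (306, 1, 0), (1350, 0, 0), (1970, 1, 1),
   (1972, 0, 0), (1329, 4, 0), (1303, 0, 0), (811, 2, 0), (439, 0, 0), (1533, 3, 0), (1949, 5, 0),
   (1824, 0, 0), (963, 1, 0), (916, 0, 0), (1527, 3, 0), (1226, 0, 0), (624, 1, 0), (284, 0, 0),
   (474, 1, 0), (508, 2, 0), (994, 0, 0), (1718, 1, 0), (1593, 0, 0), (879, 1, 0), (859, 0, 0),
   (776, 3, 2), (1784, 1, 0), (1783, 0, 0), (1909, 1, 0), (1865, 0, 0), (685, 1, 1), (369, 0, 0),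
   (376, 1, 0), (693, 0, 0), (1988, 2, 0), (1857, 0, 0), (1559, 6, 0), (1651, 0, 0), (1665, 3, 0),
   (1611, 0, 0), (1871, 2, 0), (1918, 0, 0), (689, 1, 0), (548, 0, 0), (171, 4, 0), (491, 0, 0),
   (388, 1, 3), (710, 0, 0), (1636, 1, 1), (1681, 0, 0), (1802, 1, 0), (1794, 0, 0), (202, 3, 0),
   (27, 1, 0), (471, 0, 0), (1662, 3, 0), (1609, 0, 0), (1537, 5, 0), (1244, 0, 0), (629, 1, 1),
   (628, 0, 0), (1543, 4, 0), (1541, 0, 0), (10, 3, 0), (222, 4, 0), (564, 0, 0), (2003, 4, 0),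
   (709, 1, 0), (386, 0, 0), (1551, 1, 0), (1863, 2, 0), (1908, 0, 0), (845, 4, 0), (838, 0, 0),
   (1751, 1, 0), (1619, 0, 0), (1232, 2, 0), (1277, 0, 0), (571, 1, 1), (231, 0, 0), (1877, 1, 0),
   (1778, 0, 0), (1178, 5, 2), (1198, 0, 0), (655, 1, 0), (797, 0, 0), (503, 1, 0), (977, 0, 0),
   (273, 3, 4), (1096, 0, 0), (1698, 5, 0), (1873, 2, 0), (1916, 0, 0), (698, 1, 0), (381, 0, 0),
   (1731, 3, 0), (589, 1, 0), (242, 0, 0)]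

/-- part 11 of tripTripU0 -/
def tripTripU0_11 : List (ℕ × ℕ × ℕ) := [
   (1646, 1, 0), (1547, 0, 0), (78, 1, 0), (99, 6, 0), (180, 0, 0), (462, 5, 0), (1155, 1, 2),
   (1260, 1, 0), (1206, 0, 0), (882, 3, 1), (936, 0, 0), (31, 5, 0), (1962, 1, 0), (980, 5, 4),
   (131, 0, 0), (1925, 1, 0), (1943, 1, 2), (1817, 0, 0), (827, 4, 0), (1982, 1, 0), (1850, 0, 0),
   (832, 4, 1), (1293, 6, 0), (241, 3, 0), (588, 0, 0), (67, 5, 0), (46, 0, 0), (854, 5, 0),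
   (874, 0, 0), (1352, 3, 1), (315, 0, 0), (1005, 6, 1), (210, 0, 0), (392, 3, 0), (701, 0, 0),
   (1345, 3, 3), (301, 0, 0), (1775, 2, 6), (1773, 0, 0), (772, 1, 1), (14, 1, 0), (12, 0, 0),
   (35, 6, 0), (56, 0, 0), (1540, 1, 1), (1838, 4, 3), (1892, 0, 0), (370, 6, 1), (785, 0, 0),
   (123, 1, 0), (970, 0, 0), (1375, 2, 2), (1047, 0, 0), (1503, 6, 1), (334, 0, 0), (1797, 4, 0),
   (1804, 0, 0), (1835, 3, 1), (699, 1, 0), (552, 0, 0), (1084, 2, 0), (1018, 0, 0), (1132, 1, 1),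
   (756, 2, 1), (1103, 0, 0), (657, 3, 2), (752, 0, 0), (1248, 1, 0), (1148, 0, 0), (1748, 3, 3),
   (1516, 4, 0), (335, 0, 0), (1164, 1, 6), (1170, 0, 0), (565, 2, 0), (225, 0, 0), (444, 1, 1),
   (1469, 0, 0), (1038, 6, 0), (607, 0, 0), (1550, 4, 0), (1862, 2, 0), (1907, 0, 0), (9, 6, 0),
   (460, 0, 0), (387, 1, 1), (711, 0, 0), (1015, 3, 2), (1340, 6, 0), (296, 0, 0), (1807, 1, 0),
   (1826, 0, 0), (64, 6, 0), (479, 0, 0), (625, 3, 0), (1044, 0, 0), (1080, 1, 0), (139, 0, 0),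
   (1321, 1, 1), (436, 3, 0), (806, 0, 0), (1221, 1, 0), (1522, 0, 0), (1106, 6, 0), (410, 0, 0),
   (176, 4, 0), (95, 0, 0), (1787, 1, 0), (77, 6, 2), (289, 2, 0), (1331, 0, 0), (1439, 2, 8),
   (537, 0, 0), (163, 1, 0), (1032, 0, 0), (1028, 1, 0), (509, 0, 0), (867, 1, 0), (1128, 0, 0),
   (1298, 6, 0), (1902, 2, 0), (1846, 0, 0), (791, 1, 0), (383, 0, 0), (1082, 2, 0), (145, 0, 0),
   (946, 6, 2), (1134, 0, 0), (313, 3, 0), (1364, 0, 0), (1702, 6, 1), (1704, 0, 0), (1236, 6, 3),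
   (1281, 0, 0), (1896, 1, 1), (1842, 0, 0), (1813, 2, 0), (1832, 0, 0), (550, 5, 0), (789, 0, 0),
   (144, 1, 0), (999, 0, 0), (1026, 1, 0), (159, 0, 0), (913, 1, 0), (958, 0, 0), (1652, 3, 0),
   (1572, 0, 0), (1737, 3, 3), (1738, 0, 0)]

/-- part 12 of tripTripU0 -/
def tripTripU0_12 : List (ℕ × ℕ × ℕ) := [
   (1668, 1, 1), (1613, 0, 0), (451, 2, 0), (1477, 0, 0), (346, 3, 2), (1371, 0, 0), (1929, 2, 0),
   (373, 2, 4), (787, 0, 0), (459, 6, 0), (6, 0, 0), (671, 5, 6), (239, 0, 0), (950, 6, 0),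
   (964, 0, 0), (1413, 1, 1), (1966, 2, 0), (1761, 4, 2), (1627, 0, 0), (118, 1, 0), (192, 0, 0),
   (1201, 1, 1), (1182, 0, 0), (960, 6, 1), (914, 0, 0), (792, 3, 1), (396, 0, 0), (611, 6, 0),
   (1041, 0, 0), (530, 2, 0), (619, 0, 0), (1463, 3, 1), (1420, 0, 0), (295, 3, 0), (1437, 0, 0),
   (1075, 6, 0), (127, 0, 0), (375, 4, 0), (691, 0, 0), (1782, 1, 1), (1809, 3, 0), (1829, 0, 0),
   (775, 1, 0), (799, 0, 0), (427, 4, 1), (723, 0, 0), (1496, 2, 0), (179, 1, 2), (496, 0, 0),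
   (1979, 4, 4), (697, 1, 2), (382, 0, 0), (1081, 2, 0), (152, 0, 0), (1721, 1, 1), (783, 2, 0),
   (814, 0, 0), (299, 1, 0), (1342, 0, 0), (631, 5, 2), (1272, 5, 2), (362, 2, 3), (1517, 0, 0),
   (446, 3, 1), (1481, 0, 0), (1315, 3, 1), (1255, 0, 0), (1836, 4, 5), (1951, 0, 0), (1367, 3, 4),
   (342, 0, 0), (1175, 2, 8), (1672, 6, 1), (404, 2, 0), (796, 0, 0), (1154, 2, 5), (1250, 0, 0),
   (1008, 5, 1), (212, 0, 0), (1150, 4, 0), (1891, 1, 0), (1837, 0, 0), (821, 4, 0), (1981, 4, 0),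
   (1849, 0, 0), (1381, 3, 7), (1053, 0, 0), (140, 4, 1), (989, 0, 0), (1980, 1, 0), (1971, 0, 0),
   (968, 1, 0), (919, 0, 0), (632, 2, 3), (495, 2, 0), (514, 0, 0), (147, 1, 1), (1003, 0, 0),
   (2008, 3, 5), (1581, 3, 0), (1600, 0, 0), (1938, 2, 1), (1941, 0, 0), (1306, 1, 12), (1538, 0, 0),
   (1508, 4, 1), (339, 0, 0), (880, 1, 0), (1707, 3, 4), (1710, 0, 0), (254, 5, 5), (587, 0, 0),
   (926, 5, 0), (830, 0, 0), (102, 5, 0), (182, 0, 0), (1991, 1, 3), (1955, 0, 0), (943, 4, 0),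
   (890, 0, 0), (765, 3, 0), (1429, 0, 0), (1020, 6, 0), (1763, 1, 4), (2021, 6, 0), (2012, 0, 0),
   (777, 2, 0), (1690, 5, 2), (1812, 4, 18), (1831, 0, 0), (1930, 2, 1), (1912, 4, 5), (1867, 0, 0),
   (1759, 3, 6), (1629, 0, 0), (1858, 3, 3), (1992, 0, 0), (750, 1, 0), (679, 0, 0), (1209, 5, 1),
   (1262, 0, 0), (739, 2, 9), (555, 0, 0), (1699, 1, 13), (1708, 3, 4), (1697, 0, 0), (695, 1, 11),
   (379, 0, 0), (1730, 3, 0), (230, 3, 0)]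

/-- part 13 of tripTripU0 -/
def tripTripU0_13 : List (ℕ × ℕ × ℕ) := [
   (570, 0, 0), (150, 4, 4), (993, 0, 0), (1781, 2, 5), (627, 6, 3), (1088, 1, 6), (729, 0, 0),
   (397, 4, 0), (706, 0, 0), (1019, 1, 3), (96, 1, 4), (178, 0, 0), (2002, 4, 3), (45, 1, 11),
   (66, 0, 0), (1368, 5, 4), (344, 0, 0), (50, 6, 5), (71, 0, 0), (1294, 5, 4), (15, 3, 31),
   (1942, 6, 1), (1816, 0, 0), (1197, 3, 8), (1179, 0, 0), (502, 5, 15), (978, 0, 0), (782, 1, 6),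
   (780, 0, 0), (529, 4, 3), (585, 0, 0), (1956, 2, 3), (1917, 0, 0), (1472, 2, 0), (448, 0, 0),
   (1921, 1, 21), (1254, 3, 0), (1199, 0, 0), (1441, 6, 8), (305, 0, 0), (1727, 3, 3), (1616, 0, 0),
   (643, 2, 6), (1401, 0, 0), (1171, 6, 4), (1163, 0, 0), (207, 3, 4), (1604, 4, 10), (1224, 2, 4),
   (1526, 0, 0), (1151, 3, 5), (1947, 5, 9), (1821, 0, 0), (1393, 5, 18), (329, 0, 0), (1582, 1, 0),
   (1601, 0, 0), (445, 4, 5), (1468, 0, 0), (626, 3, 40), (1545, 4, 0), (1693, 3, 4), (851, 4, 6),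
   (1290, 3, 21), (826, 4, 13), (1757, 4, 19), (1626, 0, 0), (1853, 4, 6), (1996, 0, 0), (771, 4, 3),
   (25, 5, 27), (753, 6, 24), (659, 0, 0)]

/-- tree tripTripU0 -/
def tripTripU0 : List (ℕ × ℕ × ℕ) :=
  tripTripU0_0 ++ tripTripU0_1 ++ tripTripU0_2 ++ tripTripU0_3 ++ tripTripU0_4 ++ tripTripU0_5 ++ tripTripU0_6 ++ tripTripU0_7 ++ tripTripU0_8 ++ tripTripU0_9 ++ tripTripU0_10 ++ tripTripU0_11 ++ tripTripU0_12 ++ tripTripU0_13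

/-- part 0 of tripTripU1 -/
def tripTripU1_0 : List (ℕ × ℕ × ℕ) := [
   (44, 0, 0), (1620, 0, 0), (1092, 0, 0), (1755, 0, 0), (985, 0, 0), (1470, 0, 0), (244, 1, 0),
   (1706, 0, 0), (1100, 0, 0), (1380, 0, 0), (100, 0, 0), (1280, 0, 0), (456, 0, 0), (121, 1, 0),
   (108, 0, 0), (1743, 0, 0), (1104, 0, 0), (1401, 0, 0), (832, 0, 0), (739, 0, 0), (1758, 2, 0),
   (998, 0, 0), (1362, 0, 0), (58, 0, 0), (65, 0, 0), (1570, 0, 0), (1000, 0, 0), (1071, 1, 0),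
   (1431, 0, 0), (401, 0, 0), (1235, 0, 0), (548, 0, 0), (433, 0, 0), (1707, 0, 0), (1363, 1, 0),
   (72, 0, 0), (712, 0, 0), (57, 0, 0), (80, 0, 0), (1626, 0, 0), (1097, 0, 0), (1058, 1, 0),
   (1460, 0, 0), (95, 0, 0), (1159, 0, 0), (787, 0, 0), (223, 0, 0), (1700, 0, 0), (453, 2, 0),
   (661, 0, 0), (405, 0, 0), (1237, 0, 0), (799, 0, 0), (430, 0, 0), (914, 0, 0), (1202, 3, 0),
   (543, 0, 0), (635, 0, 0), (1298, 0, 0), (516, 0, 0), (756, 0, 0), (852, 0, 0), (1345, 1, 0),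
   (702, 0, 0), (292, 0, 0), (583, 0, 0), (299, 0, 0), (1666, 0, 0), (1110, 0, 0), (1945, 1, 0),
   (2023, 0, 0), (1943, 0, 0), (1985, 0, 0), (1773, 0, 0), (1780, 0, 0), (2004, 0, 0), (710, 1, 0),
   (59, 0, 0), (1575, 0, 0), (1055, 0, 0), (1458, 0, 0), (67, 0, 0), (75, 0, 0), (486, 2, 0),
   (1614, 0, 0), (1130, 0, 0), (1393, 0, 0), (149, 0, 0), (116, 0, 0), (1170, 0, 0), (617, 1, 0),
   (133, 0, 0), (1582, 0, 0), (1328, 0, 0), (1435, 0, 0), (242, 0, 0), (898, 0, 0), (1373, 1, 0),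
   (1219, 0, 0), (669, 0, 0), (232, 0, 0), (834, 0, 0), (1687, 0, 0), (1014, 0, 0), (1122, 1, 0),
   (1392, 0, 0), (332, 0, 0), (600, 0, 0), (1152, 0, 0), (473, 0, 0), (1688, 0, 0), (1430, 2, 0),
   (1232, 0, 0), (550, 0, 0), (432, 0, 0), (910, 0, 0), (1642, 0, 0), (1070, 0, 0), (1127, 1, 0),
   (1391, 0, 0), (726, 0, 0), (90, 0, 0), (1163, 0, 0), (536, 0, 0), (1672, 0, 0), (541, 1, 0),
   (634, 0, 0), (849, 0, 0), (199, 0, 0), (733, 0, 0), (112, 0, 0), (1175, 0, 0), (1671, 1, 0),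
   (1019, 0, 0), (1372, 0, 0), (1277, 0, 0), (461, 0, 0), (243, 0, 0), (897, 0, 0), (145, 3, 0),
   (324, 0, 0), (1263, 0, 0), (1650, 0, 0), (1041, 0, 0), (1500, 0, 0), (165, 0, 0), (4, 1, 0),
   (43, 0, 0), (291, 0, 0), (1663, 0, 0)]

/-- part 1 of tripTripU1 -/
def tripTripU1_1 : List (ℕ × ℕ × ℕ) := [
   (1716, 0, 0), (1507, 0, 0), (1467, 0, 0), (224, 1, 0), (1697, 0, 0), (1026, 0, 0), (1378, 0, 0),
   (1577, 0, 0), (1315, 0, 0), (1437, 0, 0), (267, 1, 0), (855, 0, 0), (1741, 0, 0), (1084, 0, 0),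
   (1405, 0, 0), (1294, 0, 0), (514, 0, 0), (1593, 2, 0), (1013, 0, 0), (1528, 0, 0), (484, 0, 0),
   (252, 0, 0), (846, 0, 0), (196, 0, 0), (423, 1, 0), (411, 0, 0), (403, 0, 0), (1744, 0, 0),
   (1088, 0, 0), (1433, 0, 0), (908, 0, 0), (1341, 1, 0), (27, 0, 0), (688, 0, 0), (2, 0, 0),
   (1564, 0, 0), (1724, 0, 0), (1517, 0, 0), (1059, 1, 0), (1499, 0, 0), (176, 0, 0), (139, 0, 0),
   (718, 0, 0), (1143, 0, 0), (1652, 0, 0), (452, 2, 0), (660, 0, 0), (1236, 0, 0), (552, 0, 0),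
   (783, 0, 0), (907, 0, 0), (426, 0, 0), (1554, 1, 0), (986, 0, 0), (1469, 0, 0), (1540, 0, 0),
   (994, 0, 0), (1410, 0, 0), (564, 0, 0), (443, 1, 0), (655, 0, 0), (376, 0, 0), (382, 0, 0),
   (1690, 0, 0), (1060, 0, 0), (1428, 0, 0), (1611, 1, 0), (1128, 0, 0), (1477, 0, 0), (120, 0, 0),
   (109, 0, 0), (1220, 0, 0), (668, 0, 0), (946, 3, 0), (206, 0, 0), (1191, 0, 0), (794, 0, 0),
   (1206, 0, 0), (928, 0, 0), (363, 0, 0), (495, 1, 0), (1208, 0, 0), (924, 0, 0), (1617, 0, 0),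
   (1132, 0, 0), (1394, 0, 0), (1186, 0, 0), (937, 1, 0), (179, 0, 0), (137, 0, 0), (719, 0, 0),
   (1730, 0, 0), (1081, 0, 0), (1420, 0, 0), (530, 1, 0), (1305, 0, 0), (932, 0, 0), (285, 0, 0),
   (870, 0, 0), (1204, 0, 0), (1255, 0, 0), (810, 2, 0), (94, 0, 0), (1167, 0, 0), (798, 0, 0),
   (626, 0, 0), (842, 0, 0), (347, 0, 0), (1180, 1, 0), (1247, 0, 0), (524, 0, 0), (1705, 0, 0),
   (1133, 0, 0), (1395, 0, 0), (157, 0, 0), (953, 2, 0), (171, 0, 0), (143, 0, 0), (325, 0, 0),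
   (1746, 0, 0), (1079, 0, 0), (1402, 0, 0), (1257, 1, 0), (933, 0, 0), (893, 0, 0), (881, 0, 0),
   (219, 0, 0), (1194, 0, 0), (1254, 0, 0), (611, 1, 0), (721, 0, 0), (1155, 0, 0), (792, 0, 0),
   (352, 0, 0), (943, 0, 0), (346, 0, 0), (1811, 1, 0), (1963, 0, 0), (1879, 0, 0), (2014, 0, 0),
   (1960, 0, 0), (1992, 0, 0), (1817, 0, 0), (696, 2, 0), (686, 0, 0), (36, 0, 0), (310, 0, 0),
   (1673, 0, 0), (1094, 0, 0), (1350, 0, 0)]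

/-- part 2 of tripTripU1 -/
def tripTripU1_2 : List (ℕ × ℕ × ℕ) := [
   (1973, 1, 0), (1939, 0, 0), (1848, 0, 0), (1934, 0, 0), (1835, 0, 0), (1971, 0, 0), (1885, 0, 0),
   (731, 1, 0), (716, 0, 0), (1161, 0, 0), (540, 0, 0), (650, 0, 0), (941, 0, 0), (185, 0, 0),
   (1965, 1, 0), (1878, 0, 0), (1840, 0, 0), (2020, 0, 0), (1953, 0, 0), (1991, 0, 0), (1808, 0, 0),
   (1368, 3, 0), (1144, 0, 0), (1649, 0, 0), (1037, 0, 0), (1486, 0, 0), (1596, 0, 0), (1018, 0, 0),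
   (1129, 1, 0), (1419, 0, 0), (606, 0, 0), (98, 0, 0), (1157, 0, 0), (788, 0, 0), (1606, 0, 0),
   (483, 1, 0), (255, 0, 0), (902, 0, 0), (623, 0, 0), (153, 0, 0), (118, 0, 0), (1284, 0, 0),
   (618, 1, 0), (1590, 0, 0), (1011, 0, 0), (1537, 0, 0), (455, 0, 0), (245, 0, 0), (896, 0, 0),
   (1197, 2, 0), (503, 0, 0), (1615, 0, 0), (1329, 0, 0), (1446, 0, 0), (266, 0, 0), (856, 0, 0),
   (1357, 1, 0), (759, 0, 0), (566, 0, 0), (47, 0, 0), (304, 0, 0), (1692, 0, 0), (979, 0, 0),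
   (1942, 1, 0), (1988, 0, 0), (1850, 0, 0), (1895, 0, 0), (1783, 0, 0), (1789, 0, 0), (2019, 0, 0),
   (711, 1, 0), (1568, 0, 0), (1004, 0, 0), (1416, 0, 0), (589, 0, 0), (70, 0, 0), (73, 0, 0),
   (460, 2, 0), (1609, 0, 0), (1729, 0, 0), (1512, 0, 0), (1376, 0, 0), (91, 0, 0), (1148, 0, 0),
   (590, 2, 0), (69, 0, 0), (1574, 0, 0), (1113, 0, 0), (1358, 0, 0), (78, 0, 0), (318, 0, 0),
   (208, 1, 0), (1228, 0, 0), (674, 0, 0), (1211, 0, 0), (927, 0, 0), (757, 0, 0), (861, 0, 0),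
   (1483, 1, 0), (187, 0, 0), (335, 0, 0), (598, 0, 0), (1153, 0, 0), (1651, 0, 0), (1117, 0, 0),
   (1077, 1, 0), (1762, 0, 0), (1123, 0, 0), (1389, 0, 0), (122, 0, 0), (93, 0, 0), (1732, 0, 0),
   (653, 2, 0), (377, 0, 0), (1637, 0, 0), (1119, 0, 0), (1421, 0, 0), (386, 0, 0), (446, 0, 0),
   (110, 1, 0), (1224, 0, 0), (815, 0, 0), (230, 0, 0), (843, 0, 0), (769, 0, 0), (605, 0, 0),
   (894, 1, 0), (622, 0, 0), (336, 0, 0), (602, 0, 0), (1281, 0, 0), (470, 0, 0), (753, 0, 0),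
   (1648, 1, 0), (1723, 0, 0), (1519, 0, 0), (1386, 0, 0), (127, 0, 0), (92, 0, 0), (1145, 0, 0),
   (1501, 5, 0), (1352, 0, 0), (293, 0, 0), (568, 0, 0), (15, 0, 0), (1558, 0, 0), (1728, 0, 0),
   (475, 3, 0), (752, 0, 0), (952, 0, 0)]

/-- part 3 of tripTripU1 -/
def tripTripU1_3 : List (ℕ × ℕ × ℕ) := [
   (186, 0, 0), (338, 0, 0), (647, 0, 0), (1265, 0, 0), (1904, 1, 0), (1896, 0, 0), (1791, 0, 0),
   (1913, 0, 0), (1907, 0, 0), (1792, 0, 0), (1856, 0, 0), (1685, 1, 0), (1311, 0, 0), (1442, 0, 0),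
   (353, 0, 0), (940, 0, 0), (177, 0, 0), (138, 0, 0), (1307, 1, 0), (557, 0, 0), (440, 0, 0),
   (916, 0, 0), (1242, 0, 0), (556, 0, 0), (439, 0, 0), (1131, 2, 0), (1531, 0, 0), (501, 0, 0),
   (260, 0, 0), (1295, 0, 0), (513, 0, 0), (1616, 0, 0), (929, 1, 0), (283, 0, 0), (869, 0, 0),
   (209, 0, 0), (1193, 0, 0), (499, 0, 0), (1214, 0, 0), (676, 1, 0), (270, 0, 0), (858, 0, 0),
   (1287, 0, 0), (500, 0, 0), (263, 0, 0), (1306, 0, 0), (1459, 1, 0), (1151, 0, 0), (474, 0, 0),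
   (748, 0, 0), (819, 0, 0), (1602, 0, 0), (1057, 0, 0), (1288, 2, 0), (921, 0, 0), (282, 0, 0),
   (904, 0, 0), (624, 0, 0), (1190, 0, 0), (497, 0, 0), (931, 2, 0), (284, 0, 0), (1303, 0, 0),
   (519, 0, 0), (1216, 0, 0), (930, 0, 0), (1217, 0, 0), (1669, 2, 0), (1316, 0, 0), (1441, 0, 0),
   (747, 0, 0), (822, 0, 0), (188, 0, 0), (334, 0, 0), (1283, 2, 0), (533, 0, 0), (633, 0, 0),
   (899, 0, 0), (621, 0, 0), (730, 0, 0), (99, 0, 0), (1750, 3, 0), (991, 0, 0), (1412, 0, 0),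
   (562, 0, 0), (19, 0, 0), (1557, 0, 0), (1108, 0, 0), (1063, 1, 0), (1764, 0, 0), (1061, 0, 0),
   (1425, 0, 0), (366, 0, 0), (373, 0, 0), (1633, 0, 0), (68, 1, 0), (74, 0, 0), (1684, 0, 0),
   (997, 0, 0), (1365, 0, 0), (315, 0, 0), (592, 0, 0), (348, 1, 0), (648, 0, 0), (601, 0, 0),
   (1160, 0, 0), (791, 0, 0), (746, 0, 0), (837, 0, 0), (341, 2, 0), (612, 0, 0), (327, 0, 0),
   (1266, 0, 0), (790, 0, 0), (235, 0, 0), (959, 0, 0), (1753, 1, 0), (1712, 0, 0), (1505, 0, 0),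
   (1332, 0, 0), (8, 0, 0), (1548, 0, 0), (974, 0, 0), (1062, 1, 0), (1424, 0, 0), (1632, 0, 0),
   (1064, 0, 0), (1423, 0, 0), (368, 0, 0), (1635, 0, 0), (82, 1, 0), (320, 0, 0), (808, 0, 0),
   (66, 0, 0), (83, 0, 0), (766, 0, 0), (588, 0, 0), (7, 2, 0), (1563, 0, 0), (1050, 0, 0),
   (1766, 0, 0), (980, 0, 0), (1349, 0, 0), (682, 0, 0), (3, 1, 0), (1549, 0, 0), (1713, 0, 0),
   (1504, 0, 0), (1751, 0, 0), (976, 0, 0)]

/-- part 4 of tripTripU1 -/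
def tripTripU1_4 : List (ℕ × ℕ × ℕ) := [
   (1338, 0, 0), (973, 3, 0), (1754, 0, 0), (971, 0, 0), (1339, 0, 0), (1542, 0, 0), (978, 0, 0),
   (1752, 0, 0), (250, 1, 0), (847, 0, 0), (1603, 0, 0), (1022, 0, 0), (1374, 0, 0), (1169, 0, 0),
   (487, 0, 0), (217, 1, 0), (340, 0, 0), (1269, 0, 0), (1250, 0, 0), (527, 0, 0), (964, 0, 0),
   (871, 0, 0), (1336, 1, 0), (37, 0, 0), (295, 0, 0), (1662, 0, 0), (982, 0, 0), (1756, 0, 0),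
   (1106, 0, 0), (1397, 2, 0), (823, 0, 0), (173, 0, 0), (125, 0, 0), (1579, 0, 0), (1749, 0, 0),
   (1516, 0, 0), (1045, 1, 0), (1492, 0, 0), (1196, 0, 0), (504, 0, 0), (258, 0, 0), (1296, 0, 0),
   (1656, 0, 0), (152, 1, 0), (114, 0, 0), (1171, 0, 0), (1653, 0, 0), (1043, 0, 0), (1491, 0, 0),
   (194, 0, 0), (172, 1, 0), (128, 0, 0), (89, 0, 0), (1733, 0, 0), (1726, 0, 0), (1513, 0, 0),
   (1484, 0, 0), (40, 3, 0), (1621, 0, 0), (1727, 0, 0), (1506, 0, 0), (1346, 0, 0), (687, 0, 0),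
   (5, 0, 0), (969, 3, 0), (1355, 0, 0), (288, 0, 0), (569, 0, 0), (1552, 0, 0), (987, 0, 0),
   (1767, 0, 0), (251, 1, 0), (1701, 0, 0), (1032, 0, 0), (1383, 0, 0), (113, 0, 0), (1172, 0, 0),
   (485, 0, 0), (212, 1, 0), (159, 0, 0), (1739, 0, 0), (1326, 0, 0), (1447, 0, 0), (883, 0, 0),
   (875, 0, 0), (1534, 4, 0), (547, 0, 0), (434, 0, 0), (909, 0, 0), (422, 0, 0), (1641, 0, 0),
   (1069, 0, 0), (989, 1, 0), (1472, 0, 0), (680, 0, 0), (41, 0, 0), (309, 0, 0), (641, 0, 0),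
   (1665, 0, 0), (1857, 1, 0), (1899, 0, 0), (1804, 0, 0), (1805, 0, 0), (1915, 0, 0), (1799, 0, 0),
   (1806, 0, 0), (744, 3, 0), (1185, 0, 0), (498, 0, 0), (1230, 0, 0), (951, 0, 0), (280, 0, 0),
   (867, 0, 0), (1538, 1, 0), (511, 0, 0), (269, 0, 0), (854, 0, 0), (1198, 0, 0), (1655, 0, 0),
   (1044, 0, 0), (1080, 1, 0), (1478, 0, 0), (816, 0, 0), (190, 0, 0), (333, 0, 0), (599, 0, 0),
   (1735, 0, 0), (1905, 2, 0), (1867, 0, 0), (1868, 0, 0), (1921, 0, 0), (1862, 0, 0), (1869, 0, 0),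
   (1875, 0, 0), (1317, 2, 0), (1481, 0, 0), (220, 0, 0), (841, 0, 0), (343, 0, 0), (608, 0, 0),
   (1581, 0, 0), (1938, 2, 0), (1873, 0, 0), (1872, 0, 0), (1871, 0, 0), (1975, 0, 0), (1890, 0, 0),
   (1874, 0, 0), (1227, 3, 0), (1275, 0, 0)]

/-- part 5 of tripTripU1 -/
def tripTripU1_5 : List (ℕ × ℕ × ℕ) := [
   (526, 0, 0), (888, 0, 0), (963, 0, 0), (210, 0, 0), (163, 0, 0), (1699, 1, 0), (1116, 0, 0),
   (1375, 0, 0), (106, 0, 0), (1222, 0, 0), (667, 0, 0), (233, 0, 0), (1814, 2, 0), (1974, 0, 0),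
   (1906, 0, 0), (1842, 0, 0), (1930, 0, 0), (1918, 0, 0), (1816, 0, 0), (695, 2, 0), (701, 0, 0),
   (307, 0, 0), (645, 0, 0), (643, 0, 0), (580, 0, 0), (700, 0, 0), (1964, 1, 0), (2017, 0, 0),
   (1954, 0, 0), (1999, 0, 0), (1827, 0, 0), (1820, 0, 0), (1809, 0, 0), (697, 1, 0), (683, 0, 0),
   (1561, 0, 0), (1054, 0, 0), (1463, 0, 0), (571, 0, 0), (34, 0, 0), (1968, 1, 0), (1889, 0, 0),
   (1903, 0, 0), (1929, 0, 0), (1832, 0, 0), (1917, 0, 0), (1807, 0, 0), (831, 2, 0), (742, 0, 0),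
   (331, 0, 0), (603, 0, 0), (1223, 0, 0), (671, 0, 0), (751, 0, 0), (1990, 2, 0), (1962, 0, 0),
   (1880, 0, 0), (1839, 0, 0), (1927, 0, 0), (2013, 0, 0), (1952, 0, 0), (1139, 1, 0), (1385, 0, 0),
   (142, 0, 0), (326, 0, 0), (1262, 0, 0), (468, 0, 0), (1612, 0, 0), (1253, 1, 0), (529, 0, 0),
   (890, 0, 0), (879, 0, 0), (218, 0, 0), (164, 0, 0), (1184, 0, 0), (939, 2, 0), (1600, 0, 0),
   (1020, 0, 0), (1475, 0, 0), (1140, 0, 0), (480, 0, 0), (354, 0, 0), (493, 1, 0), (1209, 0, 0),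
   (1708, 0, 0), (1046, 0, 0), (1493, 0, 0), (202, 0, 0), (1189, 0, 0), (1072, 3, 0), (1497, 0, 0),
   (420, 0, 0), (413, 0, 0), (402, 0, 0), (1234, 0, 0), (1659, 0, 0), (1886, 6, 0), (1846, 0, 0),
   (1979, 0, 0), (1887, 0, 0), (1847, 0, 0), (1933, 0, 0), (1972, 0, 0), (804, 1, 0), (11, 0, 0),
   (53, 0, 0), (1689, 0, 0), (1089, 0, 0), (1356, 0, 0), (302, 0, 0), (1177, 1, 0), (1249, 0, 0),
   (523, 0, 0), (885, 0, 0), (1704, 0, 0), (1034, 0, 0), (1384, 0, 0), (957, 2, 0), (180, 0, 0),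
   (732, 0, 0), (322, 0, 0), (1267, 0, 0), (538, 0, 0), (632, 0, 0), (1258, 1, 0), (677, 0, 0),
   (887, 0, 0), (877, 0, 0), (745, 0, 0), (156, 0, 0), (1183, 0, 0), (949, 2, 0), (620, 0, 0),
   (140, 0, 0), (722, 0, 0), (1276, 0, 0), (476, 0, 0), (359, 0, 0), (1654, 1, 0), (1323, 0, 0),
   (1498, 0, 0), (276, 0, 0), (865, 0, 0), (203, 0, 0), (1188, 0, 0), (950, 1, 0), (424, 0, 0),
   (415, 0, 0), (780, 0, 0), (1231, 0, 0)]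

/-- part 6 of tripTripU1 -/
def tripTripU1_6 : List (ℕ × ℕ × ℕ) := [
   (553, 0, 0), (454, 0, 0), (496, 1, 0), (1212, 0, 0), (967, 0, 0), (275, 0, 0), (868, 0, 0),
   (350, 0, 0), (1270, 0, 0), (919, 3, 0), (918, 0, 0), (429, 0, 0), (418, 0, 0), (1240, 0, 0),
   (1259, 0, 0), (558, 0, 0), (505, 1, 0), (262, 0, 0), (1310, 0, 0), (510, 0, 0), (272, 0, 0),
   (903, 0, 0), (1271, 0, 0), (642, 1, 0), (572, 0, 0), (33, 0, 0), (1682, 0, 0), (1105, 0, 0),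
   (1351, 0, 0), (308, 0, 0), (1926, 5, 0), (1829, 0, 0), (2012, 0, 0), (1951, 0, 0), (2001, 0, 0),
   (1877, 0, 0), (1841, 0, 0), (1056, 3, 0), (1536, 0, 0), (466, 0, 0), (239, 0, 0), (954, 0, 0),
   (168, 0, 0), (1592, 0, 0), (784, 2, 0), (651, 0, 0), (390, 0, 0), (448, 0, 0), (814, 0, 0),
   (374, 0, 0), (391, 0, 0), (1087, 2, 0), (1462, 0, 0), (827, 0, 0), (184, 0, 0), (727, 0, 0),
   (87, 0, 0), (1737, 0, 0), (1668, 1, 0), (1002, 0, 0), (1364, 0, 0), (709, 0, 0), (62, 0, 0),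
   (79, 0, 0), (317, 0, 0), (428, 1, 0), (1241, 0, 0), (555, 0, 0), (1243, 0, 0), (935, 0, 0),
   (441, 0, 0), (917, 0, 0), (1488, 1, 0), (181, 0, 0), (729, 0, 0), (85, 0, 0), (1164, 0, 0),
   (1658, 0, 0), (1101, 0, 0), (900, 3, 0), (811, 0, 0), (130, 0, 0), (111, 0, 0), (1289, 0, 0),
   (665, 0, 0), (246, 0, 0), (1858, 2, 0), (1977, 0, 0), (1881, 0, 0), (1843, 0, 0), (1941, 0, 0),
   (1826, 0, 0), (1823, 0, 0), (1710, 1, 0), (1024, 0, 0), (1382, 0, 0), (323, 0, 0), (1264, 0, 0),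
   (467, 0, 0), (238, 0, 0), (1628, 3, 0), (1098, 0, 0), (1525, 0, 0), (471, 0, 0), (750, 0, 0),
   (817, 0, 0), (189, 0, 0), (1625, 2, 0), (1102, 0, 0), (1455, 0, 0), (31, 0, 0), (699, 0, 0),
   (681, 0, 0), (38, 0, 0), (1631, 1, 0), (1067, 0, 0), (1434, 0, 0), (652, 0, 0), (378, 0, 0),
   (381, 0, 0), (774, 0, 0), (1508, 2, 0), (1409, 0, 0), (567, 0, 0), (18, 0, 0), (25, 0, 0),
   (1679, 0, 0), (1711, 0, 0), (30, 3, 0), (707, 0, 0), (758, 0, 0), (581, 0, 0), (312, 0, 0),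
   (644, 0, 0), (805, 0, 0), (1852, 1, 0), (2018, 0, 0), (1947, 0, 0), (1987, 0, 0), (1908, 0, 0),
   (1777, 0, 0), (1794, 0, 0), (1678, 1, 0), (972, 0, 0), (1757, 0, 0), (1048, 0, 0), (1454, 0, 0),
   (12, 0, 0), (29, 0, 0), (1238, 1, 0)]

/-- part 7 of tripTripU1 -/
def tripTripU1_7 : List (ℕ × ℕ × ℕ) := [
   (559, 0, 0), (663, 0, 0), (912, 0, 0), (425, 0, 0), (781, 0, 0), (400, 0, 0), (1520, 3, 0),
   (477, 0, 0), (356, 0, 0), (938, 0, 0), (178, 0, 0), (1591, 0, 0), (1114, 0, 0), (1495, 2, 0),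
   (872, 0, 0), (214, 0, 0), (158, 0, 0), (1179, 0, 0), (1745, 0, 0), (1086, 0, 0), (274, 2, 0),
   (1302, 0, 0), (1256, 0, 0), (531, 0, 0), (891, 0, 0), (1304, 0, 0), (520, 0, 0), (1686, 2, 0),
   (1005, 0, 0), (1527, 0, 0), (534, 0, 0), (630, 0, 0), (828, 0, 0), (183, 0, 0), (1439, 5, 0),
   (222, 0, 0), (825, 0, 0), (1597, 0, 0), (1017, 0, 0), (1759, 0, 0), (1312, 0, 0), (1090, 1, 0),
   (1344, 0, 0), (22, 0, 0), (689, 0, 0), (1541, 0, 0), (993, 0, 0), (1763, 0, 0), (264, 1, 0),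
   (1301, 0, 0), (518, 0, 0), (273, 0, 0), (860, 0, 0), (1203, 0, 0), (508, 0, 0), (728, 2, 0),
   (1576, 0, 0), (1318, 0, 0), (1448, 0, 0), (627, 0, 0), (830, 0, 0), (182, 0, 0), (1647, 2, 0),
   (1038, 0, 0), (1768, 0, 0), (1025, 0, 0), (1379, 0, 0), (86, 0, 0), (1149, 0, 0), (658, 1, 0),
   (447, 0, 0), (657, 0, 0), (776, 0, 0), (379, 0, 0), (778, 0, 0), (442, 0, 0), (1146, 3, 0),
   (478, 0, 0), (355, 0, 0), (1709, 0, 0), (1029, 0, 0), (1381, 0, 0), (717, 0, 0), (24, 1, 0),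
   (1680, 0, 0), (970, 0, 0), (1354, 0, 0), (1619, 0, 0), (1093, 0, 0), (1342, 0, 0), (1775, 3, 0),
   (2006, 0, 0), (1944, 0, 0), (1984, 0, 0), (2003, 0, 0), (1946, 0, 0), (1983, 0, 0), (32, 2, 0),
   (698, 0, 0), (1676, 0, 0), (990, 0, 0), (1415, 0, 0), (639, 0, 0), (574, 0, 0), (1803, 2, 0),
   (1801, 0, 0), (1802, 0, 0), (2010, 0, 0), (1950, 0, 0), (1989, 0, 0), (1800, 0, 0), (736, 1, 0),
   (126, 0, 0), (107, 0, 0), (1221, 0, 0), (1675, 0, 0), (1040, 0, 0), (1489, 0, 0), (1532, 1, 0),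
   (922, 0, 0), (279, 0, 0), (863, 0, 0), (204, 0, 0), (1740, 0, 0), (1083, 0, 0), (892, 2, 0),
   (880, 0, 0), (1205, 0, 0), (509, 0, 0), (1215, 0, 0), (1308, 0, 0), (532, 0, 0), (1594, 2, 0),
   (1320, 0, 0), (1535, 0, 0), (522, 0, 0), (886, 0, 0), (873, 0, 0), (213, 0, 0), (911, 1, 0),
   (421, 0, 0), (412, 0, 0), (1640, 0, 0), (1325, 0, 0), (1449, 0, 0), (431, 0, 0), (1006, 2, 0),
   (1524, 0, 0), (457, 0, 0), (229, 0, 0)]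

/-- part 8 of tripTripU1 -/
def tripTripU1_8 : List (ℕ × ℕ × ℕ) := [
   (1695, 0, 0), (1027, 0, 0), (1760, 0, 0), (765, 5, 0), (638, 0, 0), (586, 0, 0), (306, 0, 0),
   (806, 0, 0), (690, 0, 0), (50, 0, 0), (1595, 3, 0), (1021, 0, 0), (1417, 0, 0), (1261, 0, 0),
   (469, 0, 0), (237, 0, 0), (955, 0, 0), (507, 3, 0), (361, 0, 0), (1309, 0, 0), (515, 0, 0),
   (271, 0, 0), (961, 0, 0), (1195, 0, 0), (1660, 2, 0), (995, 0, 0), (1414, 0, 0), (801, 0, 0),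
   (16, 0, 0), (52, 0, 0), (761, 0, 0), (1993, 5, 0), (1925, 0, 0), (1830, 0, 0), (1818, 0, 0),
   (1810, 0, 0), (2022, 0, 0), (1957, 0, 0), (1115, 1, 0), (1366, 0, 0), (1162, 0, 0), (537, 0, 0),
   (628, 0, 0), (829, 0, 0), (1601, 0, 0), (1573, 3, 0), (1003, 0, 0), (1474, 0, 0), (56, 0, 0),
   (81, 0, 0), (316, 0, 0), (591, 0, 0), (962, 3, 0), (201, 0, 0), (1192, 0, 0), (542, 0, 0),
   (1272, 0, 0), (926, 0, 0), (281, 0, 0), (915, 6, 0), (427, 0, 0), (417, 0, 0), (408, 0, 0),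
   (1239, 0, 0), (554, 0, 0), (438, 0, 0), (1008, 2, 0), (1770, 0, 0), (1075, 0, 0), (1400, 0, 0),
   (818, 0, 0), (174, 0, 0), (1587, 0, 0), (773, 2, 0), (367, 0, 0), (1638, 0, 0), (1073, 0, 0),
   (1464, 0, 0), (375, 0, 0), (383, 0, 0), (1166, 1, 0), (539, 0, 0), (812, 0, 0), (826, 0, 0),
   (192, 0, 0), (768, 0, 0), (596, 0, 0), (301, 1, 0), (807, 0, 0), (296, 0, 0), (587, 0, 0),
   (763, 0, 0), (575, 0, 0), (706, 0, 0), (2005, 1, 0), (2021, 0, 0), (2000, 0, 0), (1982, 0, 0),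
   (1778, 0, 0), (1779, 0, 0), (1776, 0, 0), (1924, 4, 0), (1833, 0, 0), (1859, 0, 0), (1900, 0, 0),
   (1966, 0, 0), (1882, 0, 0), (1919, 0, 0), (1286, 1, 1), (491, 0, 0), (1213, 0, 0), (934, 0, 0),
   (637, 0, 0), (866, 0, 0), (207, 0, 0), (328, 5, 1), (1292, 0, 0), (465, 0, 0), (247, 0, 0),
   (965, 0, 0), (615, 0, 0), (146, 0, 0), (1920, 2, 0), (1891, 0, 0), (1797, 0, 0), (1855, 0, 0),
   (1923, 0, 0), (1781, 0, 0), (1798, 0, 0), (1747, 1, 0), (1074, 0, 0), (1403, 0, 0), (895, 0, 0),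
   (619, 0, 0), (132, 0, 0), (102, 0, 0), (1825, 4, 0), (1970, 0, 0), (1976, 0, 0), (1888, 0, 0),
   (1936, 0, 0), (1935, 0, 0), (1836, 0, 0), (956, 1, 0), (166, 0, 0), (144, 0, 0), (1627, 0, 0),
   (1327, 0, 0), (1440, 0, 0), (236, 0, 0)]

/-- part 9 of tripTripU1 -/
def tripTripU1_9 : List (ℕ × ℕ × ℕ) := [
   (1246, 1, 0), (525, 0, 0), (884, 0, 0), (874, 0, 0), (1605, 0, 0), (1023, 0, 0), (1529, 0, 0),
   (1399, 3, 0), (1694, 0, 0), (1028, 0, 0), (1377, 0, 0), (88, 0, 0), (1734, 0, 0), (1076, 0, 0),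
   (1016, 1, 0), (1369, 0, 0), (1731, 0, 0), (1078, 0, 0), (1398, 0, 0), (820, 0, 0), (1599, 0, 0),
   (1639, 2, 0), (1068, 0, 0), (1429, 0, 0), (393, 0, 0), (396, 0, 0), (394, 0, 0), (395, 0, 0),
   (1860, 4, 0), (1901, 0, 0), (1812, 0, 0), (1967, 0, 0), (1922, 0, 0), (1837, 0, 0), (1931, 0, 0),
   (913, 5, 0), (782, 0, 0), (409, 0, 0), (407, 0, 0), (1244, 0, 0), (679, 0, 0), (435, 0, 0),
   (278, 4, 0), (1703, 0, 0), (1033, 0, 0), (1530, 0, 0), (492, 0, 0), (1210, 0, 0), (923, 0, 0),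
   (582, 3, 0), (300, 0, 0), (577, 0, 0), (693, 0, 0), (1555, 0, 0), (1112, 0, 0), (1408, 0, 0),
   (256, 1, 0), (1300, 0, 0), (544, 0, 0), (636, 0, 0), (857, 0, 0), (1201, 0, 0), (795, 0, 0),
   (864, 1, 0), (1604, 0, 0), (1321, 0, 0), (1444, 0, 0), (1207, 0, 0), (925, 0, 0), (277, 0, 0),
   (463, 1, 0), (225, 0, 0), (1696, 0, 0), (1722, 0, 0), (1511, 0, 0), (1367, 0, 0), (1147, 0, 0),
   (800, 6, 0), (45, 0, 0), (313, 0, 0), (813, 0, 0), (570, 0, 0), (55, 0, 0), (764, 0, 0),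
   (155, 4, 0), (330, 0, 0), (1268, 0, 0), (488, 0, 0), (254, 0, 0), (960, 0, 0), (193, 0, 0),
   (1543, 2, 0), (1718, 0, 0), (1514, 0, 0), (1451, 0, 0), (17, 0, 0), (28, 0, 0), (685, 0, 0),
   (369, 1, 0), (1634, 0, 0), (1725, 0, 0), (1515, 0, 0), (1422, 0, 0), (371, 0, 0), (372, 0, 0),
   (999, 2, 0), (1361, 0, 0), (1569, 0, 0), (1001, 0, 0), (1360, 0, 0), (60, 0, 0), (1572, 0, 0),
   (200, 1, 0), (339, 0, 0), (604, 0, 0), (1173, 0, 0), (489, 0, 0), (754, 0, 0), (844, 0, 0),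
   (1902, 1, 3), (1821, 0, 0), (1813, 0, 0), (1978, 0, 0), (1876, 0, 0), (1844, 0, 0), (1937, 0, 0),
   (1490, 4, 0), (342, 0, 0), (609, 0, 0), (96, 0, 0), (1158, 0, 0), (1691, 0, 0), (1035, 0, 0),
   (565, 4, 0), (1553, 0, 0), (1717, 0, 0), (1518, 0, 0), (1330, 0, 0), (42, 0, 0), (294, 0, 0),
   (385, 4, 0), (449, 0, 0), (664, 0, 0), (656, 0, 0), (384, 0, 0), (777, 0, 0), (771, 0, 0),
   (13, 1, 0), (1567, 0, 0), (1118, 0, 0)]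

/-- part 10 of tripTripU1 -/
def tripTripU1_10 : List (ℕ × ℕ × ℕ) := [
   (1450, 0, 0), (46, 0, 0), (305, 0, 0), (802, 0, 0), (290, 6, 0), (1664, 0, 0), (981, 0, 0),
   (1348, 0, 0), (1677, 0, 0), (975, 0, 0), (1353, 0, 0), (1608, 1, 0), (1125, 0, 0), (1761, 0, 0),
   (1015, 0, 0), (1370, 0, 0), (1142, 0, 0), (464, 0, 0), (416, 1, 0), (451, 0, 0), (1274, 0, 0),
   (551, 0, 0), (436, 0, 0), (966, 0, 0), (419, 0, 0), (1168, 3, 0), (490, 0, 0), (360, 0, 0),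
   (944, 0, 0), (198, 0, 0), (154, 0, 0), (724, 0, 0), (76, 5, 3), (714, 0, 0), (708, 0, 0),
   (77, 0, 0), (321, 0, 0), (646, 0, 0), (593, 0, 0), (1630, 4, 0), (1138, 0, 0), (1390, 0, 0),
   (136, 0, 0), (720, 0, 0), (1141, 0, 0), (479, 0, 0), (625, 3, 0), (161, 0, 0), (1182, 0, 0),
   (1291, 0, 0), (521, 0, 0), (889, 0, 0), (905, 0, 0), (1790, 5, 0), (1909, 0, 0), (1774, 0, 0),
   (2009, 0, 0), (1955, 0, 0), (1997, 0, 0), (1782, 0, 0), (1787, 2, 0), (1911, 0, 0), (1772, 0, 0),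
   (1795, 0, 0), (2015, 0, 0), (1958, 0, 0), (1986, 0, 0), (1636, 5, 1), (1066, 0, 0), (1480, 0, 0),
   (364, 0, 0), (389, 0, 0), (444, 0, 0), (654, 0, 0), (362, 6, 0), (945, 0, 0), (1200, 0, 0),
   (506, 0, 0), (755, 0, 0), (1293, 0, 0), (517, 0, 0), (1589, 1, 0), (1007, 0, 0), (1523, 0, 0),
   (1646, 0, 0), (1039, 0, 0), (1485, 0, 0), (169, 0, 0), (1562, 2, 0), (1051, 0, 0), (1452, 0, 0),
   (14, 0, 0), (1559, 0, 0), (1107, 0, 0), (1333, 0, 0), (123, 3, 0), (1583, 0, 0), (1324, 0, 0),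
   (1465, 0, 0), (231, 0, 0), (835, 0, 0), (737, 0, 0), (9, 1, 0), (1545, 0, 0), (1714, 0, 0),
   (1769, 0, 0), (1502, 0, 0), (1337, 0, 0), (6, 0, 0), (560, 6, 0), (49, 0, 0), (303, 0, 0),
   (803, 0, 0), (1550, 0, 0), (996, 0, 0), (1479, 0, 0), (259, 1, 0), (1748, 0, 0), (1085, 0, 0),
   (1406, 0, 0), (853, 0, 0), (1199, 0, 0), (502, 0, 0), (1436, 6, 0), (227, 0, 0), (824, 0, 0),
   (170, 0, 0), (1588, 0, 0), (1720, 0, 0), (1539, 0, 0), (631, 2, 0), (836, 0, 0), (741, 0, 0),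
   (725, 0, 0), (105, 0, 0), (1225, 0, 0), (678, 0, 0), (1565, 4, 0), (1049, 0, 0), (1453, 0, 0),
   (1551, 0, 0), (988, 0, 0), (1468, 0, 0), (1, 0, 0), (35, 2, 0), (311, 0, 0), (640, 0, 0),
   (573, 0, 0), (1560, 0, 0), (1111, 0, 0)]

/-- part 11 of tripTripU1 -/
def tripTripU1_11 : List (ℕ × ℕ × ℕ) := [
   (1466, 0, 0), (1340, 2, 0), (51, 0, 0), (762, 0, 0), (561, 0, 0), (48, 0, 0), (1624, 0, 0),
   (1121, 0, 0), (2016, 1, 2), (1956, 0, 0), (1995, 0, 0), (1863, 0, 0), (1866, 0, 0), (1864, 0, 0),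
   (1865, 0, 0), (692, 1, 1), (23, 0, 0), (1683, 0, 0), (1047, 0, 0), (1457, 0, 0), (297, 0, 0),
   (579, 0, 0), (26, 3, 3), (703, 0, 0), (289, 0, 0), (1667, 0, 0), (1052, 0, 0), (1456, 0, 0),
   (691, 0, 0), (249, 4, 0), (848, 0, 0), (195, 0, 0), (151, 0, 0), (1584, 0, 0), (1319, 0, 0),
   (1443, 0, 0), (629, 2, 1), (1698, 0, 0), (1030, 0, 0), (1476, 0, 0), (84, 0, 0), (1165, 0, 0),
   (535, 0, 0), (1187, 2, 0), (494, 0, 0), (1742, 0, 0), (1137, 0, 0), (1407, 0, 0), (862, 0, 0),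
   (205, 0, 0), (54, 1, 0), (760, 0, 0), (563, 0, 0), (1566, 0, 0), (1053, 0, 0), (1482, 0, 0),
   (10, 0, 0), (1771, 1, 0), (1796, 0, 0), (1851, 0, 0), (1894, 0, 0), (2007, 0, 0), (1948, 0, 0),
   (1998, 0, 0), (749, 1, 0), (1693, 0, 0), (1031, 0, 0), (1418, 0, 0), (597, 0, 0), (1154, 0, 0),
   (472, 0, 0), (1661, 3, 0), (983, 0, 0), (1347, 0, 0), (684, 0, 0), (1546, 0, 0), (992, 0, 0),
   (1411, 0, 0), (129, 3, 0), (1578, 0, 0), (1314, 0, 0), (1765, 0, 0), (1036, 0, 0), (1487, 0, 0),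
   (167, 0, 0), (1427, 4, 1), (772, 0, 0), (370, 0, 0), (387, 0, 0), (445, 0, 0), (1674, 0, 0),
   (1065, 0, 0), (319, 1, 1), (594, 0, 0), (713, 0, 0), (71, 0, 0), (715, 0, 0), (314, 0, 0),
   (595, 0, 0), (1629, 1, 0), (1099, 0, 0), (1371, 0, 0), (1156, 0, 0), (789, 0, 0), (221, 0, 0),
   (840, 0, 0), (286, 3, 1), (585, 0, 0), (298, 0, 0), (578, 0, 0), (1681, 0, 0), (984, 0, 0),
   (1473, 0, 0), (1413, 2, 0), (576, 0, 0), (694, 0, 0), (21, 0, 0), (704, 0, 0), (1618, 0, 0),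
   (1096, 0, 0), (584, 6, 4), (1623, 0, 0), (1095, 0, 0), (1471, 0, 0), (20, 0, 0), (705, 0, 0),
   (287, 0, 0), (779, 4, 1), (392, 0, 0), (399, 0, 0), (450, 0, 0), (659, 0, 0), (397, 0, 0),
   (398, 0, 0), (351, 4, 0), (614, 0, 0), (1181, 0, 0), (1251, 0, 0), (797, 0, 0), (882, 0, 0),
   (878, 0, 0), (1335, 4, 1), (1544, 0, 0), (1715, 0, 0), (1503, 0, 0), (1334, 0, 0), (1547, 0, 0),
   (977, 0, 0), (124, 3, 6), (1580, 0, 0)]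

/-- part 12 of tripTripU1 -/
def tripTripU1_12 : List (ℕ × ℕ × ℕ) := [
   (1313, 0, 0), (1438, 0, 0), (1607, 0, 0), (1126, 0, 0), (1387, 0, 0), (228, 1, 0), (821, 0, 0),
   (1598, 0, 0), (1721, 0, 0), (1510, 0, 0), (1521, 0, 0), (462, 0, 0), (1091, 3, 0), (1343, 0, 0),
   (1556, 0, 0), (1109, 0, 0), (1331, 0, 0), (39, 0, 0), (1622, 0, 0), (119, 1, 0), (1226, 0, 0),
   (673, 0, 0), (253, 0, 0), (850, 0, 0), (743, 0, 0), (148, 0, 0), (793, 3, 1), (248, 0, 0),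
   (851, 0, 0), (349, 0, 0), (613, 0, 0), (117, 0, 0), (1174, 0, 0), (1082, 5, 0), (1404, 0, 0),
   (845, 0, 0), (197, 0, 0), (150, 0, 0), (115, 0, 0), (1738, 0, 0), (1571, 2, 3), (1719, 0, 0),
   (1509, 0, 0), (1359, 0, 0), (63, 0, 0), (64, 0, 0), (61, 0, 0), (1849, 4, 0), (1898, 0, 0),
   (1854, 0, 0), (1897, 0, 0), (1912, 0, 0), (1786, 0, 0), (1914, 0, 0), (1910, 1, 2), (2002, 0, 0),
   (1949, 0, 0), (1994, 0, 0), (1892, 0, 0), (1785, 0, 0), (1788, 0, 0), (1278, 1, 0), (458, 0, 0),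
   (1613, 0, 0), (1135, 0, 0), (1461, 0, 0), (131, 0, 0), (103, 0, 0), (947, 6, 0), (215, 0, 0),
   (162, 0, 0), (1285, 0, 0), (1245, 0, 0), (528, 0, 0), (906, 0, 0), (649, 3, 1), (610, 0, 0),
   (104, 0, 0), (1282, 0, 0), (785, 0, 0), (241, 0, 0), (901, 0, 0), (1229, 2, 0), (675, 0, 0),
   (261, 0, 0), (1299, 0, 0), (796, 0, 0), (265, 0, 0), (859, 0, 0), (1645, 1, 8), (1042, 0, 0),
   (1496, 0, 0), (616, 0, 0), (134, 0, 0), (101, 0, 0), (1279, 0, 0), (1657, 3, 9), (1134, 0, 0),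
   (1494, 0, 0), (211, 0, 0), (160, 0, 0), (1178, 0, 0), (1248, 0, 0), (344, 5, 2), (1670, 0, 0),
   (1010, 0, 0), (1526, 0, 0), (786, 0, 0), (226, 0, 0), (839, 0, 0), (670, 2, 3), (240, 0, 0),
   (958, 0, 0), (735, 0, 0), (141, 0, 0), (329, 0, 0), (1273, 0, 0), (723, 4, 1), (1218, 0, 0),
   (672, 0, 0), (357, 0, 0), (942, 0, 0), (740, 0, 0), (135, 0, 0), (1884, 3, 1), (1845, 0, 0),
   (1932, 0, 0), (1834, 0, 0), (1824, 0, 0), (1815, 0, 0), (1969, 0, 0), (767, 3, 5), (1260, 0, 0),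
   (481, 0, 0), (358, 0, 0), (968, 0, 0), (175, 0, 0), (147, 0, 0), (809, 3, 8), (1150, 0, 0),
   (482, 0, 0), (770, 0, 0), (936, 0, 0), (191, 0, 0), (337, 0, 0), (1533, 1, 9), (666, 0, 0),
   (234, 0, 0), (833, 0, 0), (738, 0, 0)]

/-- part 13 of tripTripU1 -/
def tripTripU1_13 : List (ℕ × ℕ × ℕ) := [
   (1585, 0, 0), (1012, 0, 0), (1522, 1, 3), (459, 0, 0), (1610, 0, 0), (1124, 0, 0), (1388, 0, 0),
   (1586, 0, 0), (1009, 0, 0), (1981, 6, 1), (1793, 0, 0), (1853, 0, 0), (1893, 0, 0), (1784, 0, 0),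
   (2008, 0, 0), (1959, 0, 0), (1643, 5, 0), (1136, 0, 0), (1432, 0, 0), (410, 0, 0), (404, 0, 0),
   (1233, 0, 0), (549, 0, 0), (414, 1, 0), (406, 0, 0), (1290, 0, 0), (546, 0, 0), (437, 0, 0),
   (920, 0, 0), (662, 0, 0), (1322, 2, 1), (1445, 0, 0), (257, 0, 0), (1297, 0, 0), (512, 0, 0),
   (268, 0, 0), (1702, 0, 0), (1928, 6, 21), (1828, 0, 0), (1819, 0, 0), (2011, 0, 0), (1980, 0, 0),
   (1996, 0, 0), (1838, 0, 0), (607, 3, 17), (97, 0, 0), (1736, 0, 0), (1120, 0, 0), (1396, 0, 0),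
   (838, 0, 0), (345, 0, 0), (1176, 6, 1), (1252, 0, 0), (545, 0, 0), (948, 0, 0), (876, 0, 0),
   (216, 0, 0), (734, 0, 0), (1883, 1, 16), (1861, 0, 0), (1940, 0, 0), (1831, 0, 0), (1822, 0, 0),
   (1916, 0, 0), (1961, 0, 0), (775, 2, 23), (365, 0, 0), (388, 0, 0), (1644, 0, 0), (1103, 0, 0),
   (1426, 0, 0), (380, 0, 0), (1870, 3, 22)]

/-- tree tripTripU1 -/
def tripTripU1 : List (ℕ × ℕ × ℕ) :=
  tripTripU1_0 ++ tripTripU1_1 ++ tripTripU1_2 ++ tripTripU1_3 ++ tripTripU1_4 ++ tripTripU1_5 ++ tripTripU1_6 ++ tripTripU1_7 ++ tripTripU1_8 ++ tripTripU1_9 ++ tripTripU1_10 ++ tripTripU1_11 ++ tripTripU1_12 ++ tripTripU1_13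

/-- part 0 of tripTripU2 -/
def tripTripU2_0 : List (ℕ × ℕ × ℕ) := [
   (7, 0, 0), (841, 0, 0), (1499, 0, 0), (634, 0, 0), (531, 0, 0), (1075, 0, 0), (1015, 1, 0),
   (970, 0, 0), (9, 0, 0), (840, 0, 0), (1457, 0, 0), (1404, 0, 0), (508, 0, 0), (881, 1, 0),
   (1121, 0, 0), (1608, 0, 0), (468, 0, 0), (386, 0, 0), (1345, 0, 0), (116, 0, 0), (192, 1, 0),
   (1475, 0, 0), (1603, 0, 0), (730, 0, 0), (1725, 0, 0), (32, 0, 0), (403, 0, 0), (384, 1, 0),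
   (406, 0, 0), (207, 0, 0), (744, 0, 0), (1687, 0, 0), (1681, 0, 0), (1636, 0, 0), (1804, 1, 0),
   (1872, 0, 0), (1948, 0, 0), (1809, 0, 0), (1829, 0, 0), (1914, 0, 0), (2023, 0, 0), (754, 1, 0),
   (1655, 0, 0), (980, 0, 0), (365, 0, 0), (29, 0, 0), (859, 0, 0), (1461, 0, 0), (356, 1, 0),
   (934, 0, 0), (639, 0, 0), (352, 0, 0), (537, 0, 0), (895, 0, 0), (638, 0, 0), (322, 1, 0),
   (345, 0, 0), (965, 0, 0), (1673, 0, 0), (357, 0, 0), (559, 0, 0), (302, 0, 0), (1177, 1, 0),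
   (1195, 0, 0), (1280, 0, 0), (1748, 0, 0), (1265, 0, 0), (1243, 0, 0), (1251, 0, 0), (1270, 1, 0),
   (1323, 0, 0), (1247, 0, 0), (1144, 0, 0), (1161, 0, 0), (1524, 0, 0), (1301, 0, 0), (618, 2, 0),
   (753, 0, 0), (1765, 0, 0), (67, 0, 0), (409, 0, 0), (988, 0, 0), (854, 0, 0), (1347, 1, 0),
   (115, 0, 0), (217, 0, 0), (1518, 0, 0), (1570, 0, 0), (133, 0, 0), (1067, 0, 0), (1716, 1, 0),
   (376, 0, 0), (382, 0, 0), (111, 0, 0), (1394, 0, 0), (743, 0, 0), (1686, 0, 0), (847, 1, 0),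
   (612, 0, 0), (1513, 0, 0), (485, 0, 0), (124, 0, 0), (990, 0, 0), (1338, 0, 0), (243, 1, 0),
   (1438, 0, 0), (78, 0, 0), (1375, 0, 0), (1001, 0, 0), (863, 0, 0), (1092, 0, 0), (1073, 1, 0),
   (303, 0, 0), (325, 0, 0), (348, 0, 0), (1479, 0, 0), (1626, 0, 0), (336, 0, 0), (1933, 1, 0),
   (1902, 0, 0), (1919, 0, 0), (2017, 0, 0), (1782, 0, 0), (1862, 0, 0), (1790, 0, 0), (1283, 1, 0),
   (1770, 0, 0), (1173, 0, 0), (1241, 0, 0), (1317, 0, 0), (1178, 0, 0), (1198, 0, 0), (655, 1, 0),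
   (888, 0, 0), (674, 0, 0), (276, 0, 0), (785, 0, 0), (1547, 0, 0), (826, 0, 0), (1981, 1, 0),
   (1803, 0, 0), (1934, 0, 0), (1958, 0, 0), (1839, 0, 0), (1879, 0, 0), (1793, 0, 0), (1677, 1, 0),
   (1550, 0, 0), (378, 0, 0), (913, 0, 0)]

/-- part 1 of tripTripU2 -/
def tripTripU2_1 : List (ℕ × ℕ × ℕ) := [
   (602, 0, 0), (284, 0, 0), (796, 0, 0), (129, 1, 0), (1129, 0, 0), (1452, 0, 0), (251, 0, 0),
   (507, 0, 0), (1502, 0, 0), (57, 0, 0), (166, 1, 0), (689, 0, 0), (1700, 0, 0), (1455, 0, 0),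
   (438, 0, 0), (506, 0, 0), (1006, 0, 0), (985, 1, 0), (85, 0, 0), (174, 0, 0), (959, 0, 0),
   (1766, 0, 0), (253, 0, 0), (556, 0, 0), (866, 1, 0), (1103, 0, 0), (237, 0, 0), (494, 0, 0),
   (187, 0, 0), (1466, 0, 0), (1572, 0, 0), (200, 1, 0), (1476, 0, 0), (1719, 0, 0), (132, 0, 0),
   (1063, 0, 0), (52, 0, 0), (1369, 0, 0), (436, 1, 0), (497, 0, 0), (202, 0, 0), (735, 0, 0),
   (1680, 0, 0), (1698, 0, 0), (656, 0, 0), (1854, 1, 0), (1875, 0, 0), (1855, 0, 0), (1858, 0, 0),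
   (1860, 0, 0), (1920, 0, 0), (2015, 0, 0), (724, 1, 0), (1605, 0, 0), (1110, 0, 0), (1633, 0, 0),
   (33, 0, 0), (407, 0, 0), (1391, 0, 0), (1210, 1, 0), (1308, 0, 0), (1261, 0, 0), (1206, 0, 0),
   (1249, 0, 0), (1294, 0, 0), (1260, 0, 0), (566, 2, 0), (886, 0, 0), (951, 0, 0), (627, 0, 0),
   (521, 0, 0), (462, 0, 0), (816, 0, 0), (1330, 1, 0), (62, 0, 0), (865, 0, 0), (1138, 0, 0),
   (628, 0, 0), (524, 0, 0), (477, 0, 0), (1586, 1, 0), (979, 0, 0), (372, 0, 0), (834, 0, 0),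
   (603, 0, 0), (1407, 0, 0), (793, 0, 0), (213, 1, 0), (1112, 0, 0), (1752, 0, 0), (69, 0, 0),
   (416, 0, 0), (1507, 0, 0), (114, 0, 0), (182, 1, 0), (719, 0, 0), (1602, 0, 0), (1471, 0, 0),
   (1639, 0, 0), (140, 0, 0), (1069, 0, 0), (989, 1, 0), (402, 0, 0), (183, 0, 0), (723, 0, 0),
   (1761, 0, 0), (713, 0, 0), (1641, 0, 0), (849, 1, 0), (661, 0, 0), (1041, 0, 0), (493, 0, 0),
   (169, 0, 0), (701, 0, 0), (1754, 0, 0), (255, 1, 0), (1445, 0, 0), (998, 0, 0), (121, 0, 0),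
   (978, 0, 0), (839, 0, 0), (1453, 0, 0), (454, 1, 0), (539, 0, 0), (323, 0, 0), (341, 0, 0),
   (762, 0, 0), (1706, 0, 0), (643, 0, 0), (1965, 2, 0), (1979, 0, 0), (1977, 0, 0), (1973, 0, 0),
   (1976, 0, 0), (1962, 0, 0), (1961, 0, 0), (800, 1, 0), (1610, 0, 0), (926, 0, 0), (652, 0, 0),
   (235, 0, 0), (495, 0, 0), (872, 0, 0), (1337, 1, 0), (844, 0, 0), (609, 0, 0), (1134, 0, 0),
   (667, 0, 0), (224, 0, 0), (476, 0, 0)]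

/-- part 2 of tripTripU2 -/
def tripTripU2_2 : List (ℕ × ℕ × ℕ) := [
   (1585, 1, 0), (983, 0, 0), (909, 0, 0), (578, 0, 0), (263, 0, 0), (1446, 0, 0), (709, 0, 0),
   (1334, 2, 0), (77, 0, 0), (1379, 0, 0), (1130, 0, 0), (607, 0, 0), (1038, 0, 0), (478, 0, 0),
   (1587, 1, 0), (982, 0, 0), (387, 0, 0), (1348, 0, 0), (119, 0, 0), (1395, 0, 0), (1113, 0, 0),
   (1027, 1, 0), (703, 0, 0), (1753, 0, 0), (82, 0, 0), (1431, 0, 0), (1003, 0, 0), (158, 0, 0),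
   (833, 1, 0), (599, 0, 0), (282, 0, 0), (1481, 0, 0), (1569, 0, 0), (130, 0, 0), (1064, 0, 0),
   (995, 1, 0), (1423, 0, 0), (74, 0, 0), (163, 0, 0), (1512, 0, 0), (710, 0, 0), (1588, 0, 0),
   (915, 1, 0), (611, 0, 0), (1044, 0, 0), (512, 0, 0), (684, 0, 0), (1561, 0, 0), (1344, 0, 0),
   (1844, 1, 0), (1996, 0, 0), (1800, 0, 0), (1816, 0, 0), (1946, 0, 0), (1926, 0, 0), (1894, 0, 0),
   (784, 1, 0), (1624, 0, 0), (327, 0, 0), (453, 0, 0), (764, 0, 0), (1627, 0, 0), (346, 0, 0),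
   (1811, 1, 0), (1935, 0, 0), (1923, 0, 0), (2014, 0, 0), (1881, 0, 0), (1863, 0, 0), (1786, 0, 0),
   (1276, 1, 0), (1734, 0, 0), (1298, 0, 0), (1274, 0, 0), (1212, 0, 0), (1254, 0, 0), (1196, 0, 0),
   (567, 1, 0), (882, 0, 0), (669, 0, 0), (883, 0, 0), (665, 0, 0), (227, 0, 0), (921, 0, 0),
   (210, 2, 0), (1109, 0, 0), (1695, 0, 0), (573, 0, 0), (437, 0, 0), (1441, 0, 0), (113, 0, 0),
   (181, 1, 0), (716, 0, 0), (1599, 0, 0), (957, 0, 0), (1674, 0, 0), (240, 0, 0), (555, 0, 0),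
   (1132, 2, 0), (1091, 0, 0), (225, 0, 0), (479, 0, 0), (1352, 0, 0), (1358, 0, 0), (152, 0, 0),
   (878, 1, 0), (1482, 0, 0), (1614, 0, 0), (505, 0, 0), (1061, 0, 0), (21, 0, 0), (93, 0, 0),
   (391, 1, 0), (1372, 0, 0), (209, 0, 0), (745, 0, 0), (1728, 0, 0), (1552, 0, 0), (377, 0, 0),
   (1867, 1, 0), (1868, 0, 0), (1813, 0, 0), (1835, 0, 0), (1918, 0, 0), (2019, 0, 0), (2007, 0, 0),
   (1915, 1, 0), (2012, 0, 0), (1947, 0, 0), (1864, 0, 0), (1789, 0, 0), (1814, 0, 0), (1992, 0, 0),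
   (750, 1, 0), (1708, 0, 0), (571, 0, 0), (430, 0, 0), (474, 0, 0), (853, 0, 0), (615, 0, 0),
   (292, 1, 0), (898, 0, 0), (949, 0, 0), (650, 0, 0), (545, 0, 0), (534, 0, 0), (286, 0, 0),
   (84, 1, 0), (171, 0, 0), (956, 0, 0)]

/-- part 3 of tripTripU2 -/
def tripTripU2_3 : List (ℕ × ℕ × ℕ) := [
   (1709, 0, 0), (631, 0, 0), (558, 0, 0), (471, 0, 0), (1186, 1, 0), (1311, 0, 0), (1148, 0, 0),
   (1296, 0, 0), (1267, 0, 0), (1532, 0, 0), (1253, 0, 0), (625, 1, 0), (1117, 0, 0), (1647, 0, 0),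
   (14, 0, 0), (385, 0, 0), (1349, 0, 0), (860, 0, 0), (874, 2, 0), (807, 0, 0), (1762, 0, 0),
   (488, 0, 0), (410, 0, 0), (984, 0, 0), (92, 0, 0), (846, 2, 0), (608, 0, 0), (1042, 0, 0),
   (1437, 0, 0), (60, 0, 0), (141, 0, 0), (1505, 0, 0), (987, 3, 0), (107, 0, 0), (1388, 0, 0),
   (715, 0, 0), (1760, 0, 0), (1002, 0, 0), (411, 0, 0), (828, 1, 0), (654, 0, 0), (247, 0, 0),
   (1444, 0, 0), (194, 0, 0), (725, 0, 0), (1715, 0, 0), (1004, 1, 0), (1377, 0, 0), (1000, 0, 0),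
   (143, 0, 0), (1504, 0, 0), (79, 0, 0), (1378, 0, 0), (919, 1, 0), (671, 0, 0), (257, 0, 0),
   (510, 0, 0), (687, 0, 0), (1693, 0, 0), (574, 0, 0), (1856, 1, 0), (1994, 0, 0), (1857, 0, 0),
   (1859, 0, 0), (1955, 0, 0), (1851, 0, 0), (1852, 0, 0), (780, 1, 0), (1601, 0, 0), (721, 0, 0),
   (1642, 0, 0), (700, 0, 0), (1640, 0, 0), (185, 0, 0), (2010, 3, 0), (1821, 0, 0), (1956, 0, 0),
   (1788, 0, 0), (1810, 0, 0), (1833, 0, 0), (1998, 0, 0), (749, 1, 0), (1652, 0, 0), (1341, 0, 0),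
   (392, 0, 0), (139, 0, 0), (1131, 0, 0), (617, 0, 0), (294, 1, 0), (897, 0, 0), (645, 0, 0),
   (1420, 0, 0), (541, 0, 0), (332, 0, 0), (1047, 0, 0), (1005, 1, 0), (173, 0, 0), (955, 0, 0),
   (1667, 0, 0), (1401, 0, 0), (554, 0, 0), (136, 0, 0), (786, 2, 0), (1540, 0, 0), (16, 0, 0),
   (911, 0, 0), (942, 0, 0), (635, 0, 0), (532, 0, 0), (504, 1, 0), (1123, 0, 0), (561, 0, 0),
   (229, 0, 0), (928, 0, 0), (1451, 0, 0), (248, 0, 0), (87, 2, 0), (190, 0, 0), (1500, 0, 0),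
   (1668, 0, 0), (270, 0, 0), (1088, 0, 0), (22, 0, 0), (1142, 1, 0), (1143, 0, 0), (1165, 0, 0),
   (1538, 0, 0), (1268, 0, 0), (1216, 0, 0), (1326, 0, 0), (1099, 1, 0), (1037, 0, 0), (460, 0, 0),
   (39, 0, 0), (1351, 0, 0), (1362, 0, 0), (869, 0, 0), (1494, 1, 0), (808, 0, 0), (1616, 0, 0),
   (1079, 0, 0), (366, 0, 0), (23, 0, 0), (109, 0, 0), (1567, 1, 0), (1371, 0, 0), (427, 0, 0),
   (731, 0, 0), (1720, 0, 0), (177, 0, 0)]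

/-- part 4 of tripTripU2 -/
def tripTripU2_4 : List (ℕ × ℕ × ℕ) := [
   (774, 0, 0), (1508, 2, 0), (1360, 0, 0), (151, 0, 0), (1021, 0, 0), (1503, 0, 0), (61, 0, 0),
   (144, 0, 0), (1707, 1, 0), (580, 0, 0), (439, 0, 0), (516, 0, 0), (717, 0, 0), (1595, 0, 0),
   (694, 0, 0), (1795, 1, 0), (1988, 0, 0), (1989, 0, 0), (1824, 0, 0), (1952, 0, 0), (1944, 0, 0),
   (1776, 0, 0), (773, 1, 0), (1558, 0, 0), (110, 0, 0), (1432, 0, 0), (714, 0, 0), (1594, 0, 0),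
   (1029, 0, 0), (1805, 3, 0), (1825, 0, 0), (1953, 0, 0), (1909, 0, 0), (2005, 0, 0), (1797, 0, 0),
   (1995, 0, 0), (751, 1, 0), (1659, 0, 0), (31, 0, 0), (400, 0, 0), (184, 0, 0), (961, 0, 0),
   (1671, 0, 0), (318, 1, 0), (904, 0, 0), (1102, 0, 0), (354, 0, 0), (536, 0, 0), (308, 0, 0),
   (1408, 0, 0), (256, 1, 0), (514, 0, 0), (953, 0, 0), (1660, 0, 0), (234, 0, 0), (935, 0, 0),
   (576, 0, 0), (1219, 1, 0), (1218, 0, 0), (1222, 0, 0), (1306, 0, 0), (1273, 0, 0), (1230, 0, 0),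
   (1258, 0, 0), (614, 1, 0), (1046, 0, 0), (787, 0, 0), (1544, 0, 0), (45, 0, 0), (1425, 0, 0),
   (850, 0, 0), (1531, 1, 0), (1284, 0, 0), (1740, 0, 0), (1316, 0, 0), (1233, 0, 0), (1158, 0, 0),
   (1183, 0, 0), (1666, 1, 0), (261, 0, 0), (557, 0, 0), (696, 0, 0), (1576, 0, 0), (179, 0, 0),
   (966, 0, 0), (1343, 1, 0), (399, 0, 0), (1381, 0, 0), (1013, 0, 0), (212, 0, 0), (1108, 0, 0),
   (1563, 0, 0), (444, 2, 0), (304, 0, 0), (329, 0, 0), (1419, 0, 0), (766, 0, 0), (1628, 0, 0),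
   (1052, 0, 0), (1951, 1, 0), (1828, 0, 0), (1910, 0, 0), (2009, 0, 0), (1986, 0, 0), (1870, 0, 0),
   (1822, 0, 0), (1310, 1, 0), (1746, 0, 0), (1211, 0, 0), (1259, 0, 0), (1156, 0, 0), (1176, 0, 0),
   (1199, 0, 0), (585, 1, 0), (1495, 0, 0), (673, 0, 0), (266, 0, 0), (1074, 0, 0), (6, 0, 0),
   (819, 0, 0), (1421, 1, 0), (75, 0, 0), (870, 0, 0), (1100, 0, 0), (748, 0, 0), (1648, 0, 0),
   (46, 0, 0), (2003, 1, 0), (1781, 0, 0), (1866, 0, 0), (1930, 0, 0), (1900, 0, 0), (1848, 0, 0),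
   (1922, 0, 0), (728, 1, 0), (1718, 0, 0), (1342, 0, 0), (395, 0, 0), (147, 0, 0), (1510, 0, 0),
   (195, 0, 0), (1545, 2, 0), (48, 0, 0), (1428, 0, 0), (1364, 0, 0), (164, 0, 0), (1034, 0, 0),
   (1107, 0, 0), (974, 1, 0), (40, 0, 0)]

/-- part 5 of tripTripU2 -/
def tripTripU2_5 : List (ℕ × ℕ × ℕ) := [
   (1354, 0, 0), (1365, 0, 0), (1383, 0, 0), (1022, 0, 0), (1016, 0, 0), (1124, 1, 0), (565, 0, 0),
   (244, 0, 0), (1442, 0, 0), (1359, 0, 0), (148, 0, 0), (1018, 0, 0), (1066, 3, 0), (101, 0, 0),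
   (204, 0, 0), (742, 0, 0), (1767, 0, 0), (1573, 0, 0), (414, 0, 0), (1929, 1, 0), (1905, 0, 0),
   (1843, 0, 0), (1885, 0, 0), (1827, 0, 0), (1907, 0, 0), (2006, 0, 0), (398, 2, 0), (162, 0, 0),
   (1033, 0, 0), (737, 0, 0), (1679, 0, 0), (1566, 0, 0), (1426, 0, 0), (1842, 1, 0), (1890, 0, 0),
   (1787, 0, 0), (1807, 0, 0), (1830, 0, 0), (1941, 0, 0), (2018, 0, 0), (383, 2, 0), (858, 0, 0),
   (624, 0, 0), (757, 0, 0), (1691, 0, 0), (1551, 0, 0), (374, 0, 0), (1942, 2, 0), (1779, 0, 0),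
   (1927, 0, 0), (1898, 0, 0), (1993, 0, 0), (1884, 0, 0), (1817, 0, 0), (827, 4, 0), (651, 0, 0),
   (239, 0, 0), (930, 0, 0), (616, 0, 0), (746, 0, 0), (1649, 0, 0), (155, 1, 0), (1511, 0, 0),
   (999, 0, 0), (125, 0, 0), (993, 0, 0), (1353, 0, 0), (1361, 0, 0), (441, 1, 0), (791, 0, 0),
   (1577, 0, 0), (175, 0, 0), (775, 0, 0), (1699, 0, 0), (601, 0, 0), (1928, 2, 0), (1940, 0, 0),
   (1903, 0, 0), (1888, 0, 0), (1877, 0, 0), (1771, 0, 0), (1777, 0, 0), (71, 2, 0), (160, 0, 0),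
   (1133, 0, 0), (802, 0, 0), (1609, 0, 0), (481, 0, 0), (1422, 0, 0), (231, 1, 0), (546, 0, 0),
   (27, 0, 0), (852, 0, 0), (619, 0, 0), (964, 0, 0), (1675, 0, 0), (339, 1, 0), (1057, 0, 0),
   (1049, 0, 0), (291, 0, 0), (310, 0, 0), (1415, 0, 0), (1416, 0, 0), (1153, 2, 0), (1238, 0, 0),
   (1526, 0, 0), (1184, 0, 0), (1205, 0, 0), (1328, 0, 0), (1732, 0, 0), (590, 1, 0), (268, 0, 0),
   (1081, 0, 0), (1332, 0, 0), (59, 0, 0), (145, 0, 0), (1519, 0, 0), (280, 2, 0), (799, 0, 0),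
   (1556, 0, 0), (94, 0, 0), (423, 0, 0), (958, 0, 0), (1669, 0, 0), (320, 1, 0), (340, 0, 0),
   (1058, 0, 0), (760, 0, 0), (1621, 0, 0), (312, 0, 0), (1434, 0, 0), (1149, 3, 0), (1300, 0, 0),
   (1536, 0, 0), (1214, 0, 0), (1255, 0, 0), (1312, 0, 0), (1141, 0, 0), (220, 3, 0), (461, 0, 0),
   (823, 0, 0), (936, 0, 0), (630, 0, 0), (933, 0, 0), (666, 0, 0), (127, 2, 0), (1122, 0, 0),
   (568, 0, 0), (885, 0, 0), (672, 0, 0)]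

/-- part 6 of tripTripU2 -/
def tripTripU2_6 : List (ℕ × ℕ × ℕ) := [
   (1397, 0, 0), (483, 0, 0), (123, 2, 0), (994, 0, 0), (1485, 0, 0), (591, 0, 0), (272, 0, 0),
   (1516, 0, 0), (58, 0, 0), (167, 1, 0), (683, 0, 0), (1565, 0, 0), (1488, 0, 0), (659, 0, 0),
   (271, 0, 0), (1083, 0, 0), (1020, 1, 0), (1007, 0, 0), (170, 0, 0), (704, 0, 0), (1757, 0, 0),
   (1363, 0, 0), (417, 0, 0), (876, 1, 0), (814, 0, 0), (1612, 0, 0), (496, 0, 0), (420, 0, 0),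
   (695, 0, 0), (1580, 0, 0), (83, 1, 0), (1384, 0, 0), (1032, 0, 0), (727, 0, 0), (1714, 0, 0),
   (47, 0, 0), (1424, 0, 0), (435, 1, 0), (552, 0, 0), (100, 0, 0), (201, 0, 0), (739, 0, 0),
   (1710, 0, 0), (1665, 0, 0), (1657, 4, 0), (466, 0, 0), (364, 0, 0), (26, 0, 0), (856, 0, 0),
   (947, 0, 0), (812, 0, 0), (1370, 2, 0), (879, 0, 0), (810, 0, 0), (1723, 0, 0), (467, 0, 0),
   (368, 0, 0), (50, 0, 0), (1730, 1, 0), (1154, 0, 0), (1307, 0, 0), (1266, 0, 0), (1215, 0, 0),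
   (1256, 0, 0), (1277, 0, 0), (564, 1, 0), (241, 0, 0), (1439, 0, 0), (845, 0, 0), (605, 0, 0),
   (1039, 0, 0), (923, 0, 0), (582, 3, 0), (1396, 0, 0), (487, 0, 0), (862, 0, 0), (1089, 0, 0),
   (228, 0, 0), (924, 0, 0), (1985, 4, 0), (1932, 0, 0), (1901, 0, 0), (1954, 0, 0), (1878, 0, 0),
   (1775, 0, 0), (1792, 0, 0), (1676, 1, 0), (1554, 0, 0), (912, 0, 0), (657, 0, 0), (262, 0, 0),
   (519, 0, 0), (736, 0, 0), (8, 1, 0), (837, 0, 0), (1454, 0, 0), (890, 0, 0), (675, 0, 0),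
   (1036, 0, 0), (456, 0, 0), (560, 3, 0), (226, 0, 0), (925, 0, 0), (937, 0, 0), (626, 0, 0),
   (525, 0, 0), (922, 0, 0), (1376, 1, 0), (997, 0, 0), (128, 0, 0), (1125, 0, 0), (583, 0, 0),
   (1399, 0, 0), (490, 0, 0), (334, 2, 0), (1054, 0, 0), (1410, 0, 0), (317, 0, 0), (338, 0, 0),
   (1514, 0, 0), (316, 0, 0), (203, 1, 0), (738, 0, 0), (1683, 0, 0), (1755, 0, 0), (397, 0, 0),
   (415, 0, 0), (1011, 0, 0), (1756, 3, 0), (117, 0, 0), (429, 0, 0), (1111, 0, 0), (1578, 0, 0),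
   (178, 0, 0), (778, 0, 0), (1553, 1, 0), (390, 0, 0), (1427, 0, 0), (118, 0, 0), (219, 0, 0),
   (1116, 0, 0), (1678, 0, 0), (489, 3, 1), (157, 0, 0), (1024, 0, 0), (688, 0, 0), (1696, 0, 0),
   (586, 0, 0), (1433, 0, 0), (526, 1, 0)]

/-- part 7 of tripTripU2 -/
def tripTripU2_7 : List (ℕ × ℕ × ℕ) := [
   (547, 0, 0), (20, 0, 0), (90, 0, 0), (875, 0, 0), (968, 0, 0), (1672, 0, 0), (404, 2, 0),
   (877, 0, 0), (809, 0, 0), (1617, 0, 0), (790, 0, 0), (1632, 0, 0), (30, 0, 0), (1876, 2, 0),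
   (1778, 0, 0), (1924, 0, 0), (1895, 0, 0), (1936, 0, 0), (1906, 0, 0), (1838, 0, 0), (324, 3, 0),
   (344, 0, 0), (765, 0, 0), (1763, 0, 0), (319, 0, 0), (452, 0, 0), (1053, 0, 0), (1320, 1, 0),
   (1197, 0, 0), (1279, 0, 0), (1737, 0, 0), (1525, 0, 0), (1239, 0, 0), (1191, 0, 0), (1309, 1, 0),
   (1272, 0, 0), (1257, 0, 0), (1246, 0, 0), (1140, 0, 0), (1146, 0, 0), (1297, 0, 0), (623, 2, 0),
   (756, 0, 0), (1726, 0, 0), (12, 0, 0), (367, 0, 0), (54, 0, 0), (1492, 0, 0), (1402, 1, 0),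
   (499, 0, 0), (211, 0, 0), (1105, 0, 0), (1548, 0, 0), (829, 0, 0), (658, 0, 0), (1623, 1, 0),
   (447, 0, 0), (448, 0, 0), (328, 0, 0), (350, 0, 0), (769, 0, 0), (1689, 0, 0), (1534, 2, 0),
   (1174, 0, 0), (1194, 0, 0), (1322, 0, 0), (1278, 0, 0), (1733, 0, 0), (1166, 0, 0), (1904, 2, 0),
   (1861, 0, 0), (1889, 0, 0), (1850, 0, 0), (1849, 0, 0), (1853, 0, 0), (1937, 0, 0), (1201, 2, 0),
   (1285, 0, 0), (1741, 0, 0), (1281, 0, 0), (1744, 0, 0), (1160, 0, 0), (1240, 0, 0), (1045, 4, 1),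
   (1076, 0, 0), (3, 0, 0), (38, 0, 0), (1355, 0, 0), (1491, 0, 0), (613, 0, 0), (905, 1, 0),
   (813, 0, 0), (1630, 0, 0), (538, 0, 0), (443, 0, 0), (301, 0, 0), (326, 0, 0), (1245, 2, 1),
   (1147, 0, 0), (1293, 0, 0), (1264, 0, 0), (1305, 0, 0), (1275, 0, 0), (1207, 0, 0), (597, 2, 0),
   (275, 0, 0), (789, 0, 0), (1694, 0, 0), (570, 0, 0), (434, 0, 0), (927, 0, 0), (1530, 1, 0),
   (1319, 0, 0), (1187, 0, 0), (1314, 0, 0), (1163, 0, 0), (1523, 0, 0), (1175, 0, 0), (641, 2, 0),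
   (359, 0, 0), (1448, 0, 0), (315, 0, 0), (331, 0, 0), (1051, 0, 0), (896, 0, 0), (1368, 1, 0),
   (196, 0, 0), (732, 0, 0), (1769, 0, 0), (68, 0, 0), (412, 0, 0), (996, 0, 0), (1749, 1, 0),
   (1152, 0, 0), (1234, 0, 0), (1167, 0, 0), (1529, 0, 0), (1203, 0, 0), (1286, 0, 0), (939, 1, 0),
   (633, 0, 0), (1447, 0, 0), (484, 0, 0), (120, 0, 0), (975, 0, 0), (824, 0, 0), (991, 3, 0),
   (1331, 0, 0), (65, 0, 0), (868, 0, 0)]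

/-- part 8 of tripTripU2 -/
def tripTripU2_8 : List (ℕ × ℕ × ℕ) := [
   (1517, 0, 0), (250, 0, 0), (503, 0, 0), (917, 1, 0), (1095, 0, 0), (258, 0, 0), (513, 0, 0),
   (702, 0, 0), (1750, 0, 0), (70, 0, 0), (1802, 2, 0), (1823, 0, 0), (2000, 0, 0), (1801, 0, 0),
   (1819, 0, 0), (1949, 0, 0), (1983, 0, 0), (88, 3, 0), (186, 0, 0), (1470, 0, 0), (1701, 0, 0),
   (610, 0, 0), (1072, 0, 0), (472, 0, 0), (502, 2, 0), (973, 0, 0), (36, 0, 0), (1339, 0, 0),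
   (851, 0, 0), (1460, 0, 0), (1043, 0, 0), (1085, 1, 0), (682, 0, 0), (1543, 0, 0), (49, 0, 0),
   (1497, 0, 0), (594, 0, 0), (274, 0, 0), (97, 4, 0), (426, 0, 0), (1472, 0, 0), (1584, 0, 0),
   (215, 0, 0), (1119, 0, 0), (1557, 0, 0), (1170, 1, 0), (1188, 0, 0), (1318, 0, 0), (1522, 0, 0),
   (1171, 0, 0), (1192, 0, 0), (1539, 0, 0), (1101, 1, 0), (523, 0, 0), (459, 0, 0), (35, 0, 0),
   (1336, 0, 0), (848, 0, 0), (946, 0, 0), (1496, 1, 0), (646, 0, 0), (362, 0, 0), (1087, 0, 0),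
   (288, 0, 0), (289, 0, 0), (311, 0, 0), (1583, 1, 0), (1390, 0, 0), (779, 0, 0), (1591, 0, 0),
   (1010, 0, 0), (421, 0, 0), (698, 0, 0), (18, 1, 1), (910, 0, 0), (587, 0, 0), (1405, 0, 0),
   (518, 0, 0), (726, 0, 0), (1711, 0, 0), (1783, 6, 0), (1865, 0, 0), (1798, 0, 0), (1990, 0, 0),
   (1834, 0, 0), (1917, 0, 0), (2021, 0, 0), (104, 3, 0), (428, 0, 0), (741, 0, 0), (1685, 0, 0),
   (1600, 0, 0), (776, 0, 0), (1637, 0, 0), (1735, 3, 0), (1236, 0, 0), (1237, 0, 0), (1182, 0, 0),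
   (1204, 0, 0), (1287, 0, 0), (1747, 0, 0), (1464, 2, 0), (254, 0, 0), (509, 0, 0), (1025, 0, 0),
   (681, 0, 0), (1549, 0, 0), (842, 0, 0), (1478, 4, 0), (1653, 0, 0), (131, 0, 0), (1060, 0, 0),
   (28, 0, 0), (855, 0, 0), (622, 0, 0), (1622, 1, 0), (899, 0, 0), (664, 0, 0), (358, 0, 0),
   (542, 0, 0), (342, 0, 0), (758, 0, 0), (1520, 2, 0), (1172, 0, 0), (1303, 0, 0), (1327, 0, 0),
   (1208, 0, 0), (1248, 0, 0), (1162, 0, 0), (1661, 1, 0), (230, 0, 0), (550, 0, 0), (832, 0, 0),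
   (596, 0, 0), (279, 0, 0), (967, 0, 0), (480, 1, 1), (1484, 0, 0), (588, 0, 0), (269, 0, 0),
   (1137, 0, 0), (562, 0, 0), (223, 0, 0), (105, 2, 0), (1389, 0, 0), (960, 0, 0), (1670, 0, 0),
   (1040, 0, 0), (548, 0, 0), (24, 0, 0)]

/-- part 9 of tripTripU2 -/
def tripTripU2_9 : List (ℕ × ℕ × ℕ) := [
   (1232, 1, 0), (1155, 0, 0), (1180, 0, 0), (1304, 0, 0), (1292, 0, 0), (1742, 0, 0), (1250, 0, 0),
   (1023, 5, 0), (1026, 0, 0), (685, 0, 0), (1564, 0, 0), (1356, 0, 0), (1429, 0, 0), (154, 0, 0),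
   (788, 2, 0), (1562, 0, 0), (1340, 0, 0), (396, 0, 0), (867, 0, 0), (1098, 0, 0), (277, 0, 0),
   (463, 1, 0), (820, 0, 0), (581, 0, 0), (1400, 0, 0), (929, 0, 0), (606, 0, 0), (1035, 0, 0),
   (1731, 5, 0), (1150, 0, 0), (1235, 0, 0), (1299, 0, 0), (1269, 0, 0), (1217, 0, 0), (1291, 0, 0),
   (677, 3, 0), (522, 0, 0), (455, 0, 0), (4, 0, 0), (822, 0, 0), (940, 0, 0), (948, 0, 0),
   (205, 2, 0), (963, 0, 0), (1692, 0, 0), (1611, 0, 0), (551, 0, 0), (380, 0, 0), (99, 0, 0),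
   (511, 5, 0), (680, 0, 0), (1546, 0, 0), (830, 0, 0), (950, 0, 0), (632, 0, 0), (530, 0, 0),
   (1463, 3, 0), (360, 0, 0), (543, 0, 0), (1048, 0, 0), (287, 0, 0), (295, 0, 0), (901, 0, 0),
   (1759, 1, 0), (198, 0, 0), (781, 0, 0), (1717, 0, 0), (96, 0, 0), (422, 0, 0), (707, 0, 0),
   (1656, 3, 0), (691, 0, 0), (1631, 0, 0), (34, 0, 0), (916, 0, 0), (621, 0, 0), (755, 0, 0),
   (473, 1, 0), (106, 0, 0), (1385, 0, 0), (712, 0, 0), (1703, 0, 0), (1094, 0, 0), (432, 0, 0),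
   (168, 4, 0), (705, 0, 0), (1768, 0, 0), (593, 0, 0), (440, 0, 0), (1080, 0, 0), (86, 0, 0),
   (818, 2, 0), (563, 0, 0), (245, 0, 0), (1498, 0, 0), (589, 0, 0), (265, 0, 0), (1078, 0, 0),
   (273, 2, 0), (1084, 0, 0), (971, 0, 0), (2, 0, 0), (44, 0, 0), (1490, 0, 0), (1458, 0, 0),
   (363, 1, 0), (798, 0, 0), (1619, 0, 0), (296, 0, 0), (446, 0, 0), (900, 0, 0), (647, 0, 0),
   (1487, 3, 0), (944, 0, 0), (636, 0, 0), (1086, 0, 0), (457, 0, 0), (1, 0, 0), (41, 0, 0),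
   (314, 2, 0), (335, 0, 0), (1135, 0, 0), (640, 0, 0), (355, 0, 0), (540, 0, 0), (1409, 0, 0),
   (1151, 2, 0), (1231, 0, 0), (1159, 0, 0), (1302, 0, 0), (1271, 0, 0), (1288, 0, 0), (1745, 0, 0),
   (1115, 5, 0), (1713, 0, 0), (15, 0, 0), (388, 0, 0), (1357, 0, 0), (1374, 0, 0), (218, 0, 0),
   (1223, 4, 0), (1244, 0, 0), (1224, 0, 0), (1227, 0, 0), (1229, 0, 0), (1289, 0, 0), (1743, 0, 0),
   (604, 1, 0), (285, 0, 0), (1120, 0, 0)]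

/-- part 10 of tripTripU2 -/
def tripTripU2_10 : List (ℕ × ℕ × ℕ) := [
   (1542, 0, 0), (13, 0, 0), (389, 0, 0), (1489, 0, 0), (515, 2, 0), (772, 0, 0), (1555, 0, 0),
   (98, 0, 0), (918, 0, 0), (806, 0, 0), (1615, 0, 0), (1413, 3, 0), (450, 0, 0), (337, 0, 0),
   (1056, 0, 0), (343, 0, 0), (761, 0, 0), (1625, 0, 0), (792, 4, 0), (1751, 0, 0), (66, 0, 0),
   (413, 0, 0), (1128, 0, 0), (598, 0, 0), (278, 0, 0), (1964, 4, 0), (1968, 0, 0), (2001, 0, 0),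
   (1969, 0, 0), (1971, 0, 0), (1980, 0, 0), (1963, 0, 0), (577, 2, 0), (259, 0, 0), (517, 0, 0),
   (1467, 0, 0), (1568, 0, 0), (134, 0, 0), (1136, 0, 0), (1506, 1, 0), (394, 0, 0), (138, 0, 0),
   (1012, 0, 0), (1387, 0, 0), (711, 0, 0), (1592, 0, 0), (424, 3, 0), (777, 0, 0), (1582, 0, 0),
   (206, 0, 0), (782, 0, 0), (1682, 0, 0), (1581, 0, 0), (1938, 2, 0), (1897, 0, 0), (1846, 0, 0),
   (1887, 0, 0), (1908, 0, 0), (2002, 0, 0), (1785, 0, 0), (708, 1, 1), (1589, 0, 0), (1127, 0, 0),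
   (653, 0, 0), (238, 0, 0), (498, 0, 0), (1386, 0, 0), (43, 5, 0), (1486, 0, 0), (595, 0, 0),
   (1406, 0, 0), (1082, 0, 0), (122, 0, 0), (972, 0, 0), (135, 3, 0), (1009, 0, 0), (873, 0, 0),
   (803, 0, 0), (1613, 0, 0), (1440, 0, 0), (393, 0, 0), (176, 1, 0), (771, 0, 0), (1559, 0, 0),
   (857, 0, 0), (662, 0, 0), (752, 0, 0), (1654, 0, 0), (1658, 3, 1), (297, 0, 0), (442, 0, 0),
   (305, 0, 0), (903, 0, 0), (649, 0, 0), (770, 0, 0), (80, 4, 0), (1382, 0, 0), (1509, 0, 0),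
   (150, 0, 0), (1017, 0, 0), (992, 0, 0), (1335, 0, 0), (95, 6, 1), (419, 0, 0), (699, 0, 0),
   (1702, 0, 0), (620, 0, 0), (783, 0, 0), (1651, 0, 0), (1193, 1, 0), (1321, 0, 0), (1313, 0, 0),
   (1145, 0, 0), (1164, 0, 0), (1527, 0, 0), (1528, 0, 0), (637, 1, 0), (797, 0, 0), (1646, 0, 0),
   (10, 0, 0), (370, 0, 0), (835, 0, 0), (945, 0, 0), (1414, 1, 0), (330, 0, 0), (351, 0, 0),
   (1118, 0, 0), (1620, 0, 0), (299, 0, 0), (449, 0, 0), (1324, 2, 0), (1220, 0, 0), (1221, 0, 0),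
   (1225, 0, 0), (1533, 0, 0), (1226, 0, 0), (1228, 0, 0), (1263, 2, 1), (1213, 0, 0), (1535, 0, 0),
   (1169, 0, 0), (1185, 0, 0), (1315, 0, 0), (1295, 0, 0), (242, 3, 0), (1435, 0, 0), (63, 0, 0),
   (861, 0, 0), (1093, 0, 0), (884, 0, 0)]

/-- part 11 of tripTripU2 -/
def tripTripU2_11 : List (ℕ × ℕ × ℕ) := [
   (668, 0, 0), (1380, 5, 0), (1068, 0, 0), (137, 0, 0), (1008, 0, 0), (188, 0, 0), (1469, 0, 0),
   (1575, 0, 0), (445, 2, 0), (313, 0, 0), (1417, 0, 0), (349, 0, 0), (768, 0, 0), (1724, 0, 0),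
   (298, 0, 0), (1537, 2, 2), (1738, 0, 0), (1190, 0, 0), (1325, 0, 0), (1157, 0, 0), (1179, 0, 0),
   (1202, 0, 0), (1664, 1, 0), (887, 0, 0), (679, 0, 0), (236, 0, 0), (491, 0, 0), (172, 0, 0),
   (952, 0, 0), (1333, 1, 0), (81, 0, 0), (1493, 0, 0), (1097, 0, 0), (267, 0, 0), (1077, 0, 0),
   (37, 0, 0), (817, 5, 0), (569, 0, 0), (889, 0, 0), (1465, 0, 0), (249, 0, 0), (500, 0, 0),
   (976, 0, 0), (986, 3, 0), (89, 0, 0), (189, 0, 0), (1473, 0, 0), (1758, 0, 0), (153, 0, 0),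
   (1070, 0, 0), (1921, 3, 1), (2008, 0, 0), (1812, 0, 0), (1873, 0, 0), (1913, 0, 0), (2011, 0, 0),
   (1831, 0, 0), (1911, 1, 0), (2020, 0, 0), (1896, 0, 0), (1874, 0, 0), (1882, 0, 0), (1808, 0, 0),
   (1826, 0, 0), (686, 1, 0), (1697, 0, 0), (941, 0, 0), (663, 0, 0), (527, 0, 0), (492, 0, 0),
   (165, 0, 0), (91, 4, 1), (871, 0, 0), (804, 0, 0), (1705, 0, 0), (670, 0, 0), (431, 0, 0),
   (470, 0, 0), (501, 5, 0), (969, 0, 0), (5, 0, 0), (825, 0, 0), (943, 0, 0), (1462, 0, 0),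
   (529, 0, 0), (520, 1, 0), (1106, 0, 0), (1541, 0, 0), (19, 0, 0), (914, 0, 0), (1456, 0, 0),
   (264, 0, 0), (425, 6, 0), (722, 0, 0), (1604, 0, 0), (740, 0, 0), (1690, 0, 0), (1560, 0, 0),
   (405, 0, 0), (1791, 1, 0), (1871, 0, 0), (1832, 0, 0), (1916, 0, 0), (2013, 0, 0), (1912, 0, 0),
   (2016, 0, 0), (1181, 3, 0), (1242, 0, 0), (1282, 0, 0), (1739, 0, 0), (1200, 0, 0), (1290, 0, 0),
   (1736, 0, 0), (1845, 3, 2), (1886, 0, 0), (1943, 0, 0), (1772, 0, 0), (1780, 0, 0), (1931, 0, 0),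
   (1997, 0, 0), (347, 2, 1), (767, 0, 0), (1629, 0, 0), (763, 0, 0), (1644, 0, 0), (306, 0, 0),
   (451, 0, 0), (1329, 2, 0), (1262, 0, 0), (1209, 0, 0), (1252, 0, 0), (1521, 0, 0), (1168, 0, 0),
   (1189, 0, 0), (1065, 4, 0), (381, 0, 0), (102, 0, 0), (208, 0, 0), (1477, 0, 0), (1684, 0, 0),
   (1590, 0, 0), (486, 3, 2), (142, 0, 0), (1501, 0, 0), (64, 0, 0), (864, 0, 0), (1096, 0, 0),
   (1398, 0, 0), (290, 3, 0), (307, 0, 0)]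

/-- part 12 of tripTripU2 -/
def tripTripU2_12 : List (ℕ × ℕ × ℕ) := [
   (1412, 0, 0), (902, 0, 0), (648, 0, 0), (1059, 0, 0), (535, 0, 0), (584, 4, 1), (1403, 0, 0),
   (1443, 0, 0), (149, 0, 0), (1014, 0, 0), (977, 0, 0), (821, 0, 0), (379, 3, 2), (103, 0, 0),
   (880, 0, 0), (811, 0, 0), (1688, 0, 0), (1650, 0, 0), (375, 0, 0), (734, 5, 1), (1722, 0, 0),
   (692, 0, 0), (1634, 0, 0), (55, 0, 0), (1430, 0, 0), (199, 0, 0), (2022, 1, 2), (1966, 0, 0),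
   (1975, 0, 0), (1967, 0, 0), (1970, 0, 0), (1972, 0, 0), (1978, 0, 0), (1071, 5, 2), (697, 0, 0),
   (1579, 0, 0), (191, 0, 0), (1480, 0, 0), (1574, 0, 0), (161, 0, 0), (1392, 6, 0), (1474, 0, 0),
   (1593, 0, 0), (1019, 0, 0), (1062, 0, 0), (25, 0, 0), (108, 0, 0), (981, 1, 2), (369, 0, 0),
   (53, 0, 0), (1373, 0, 0), (1393, 0, 0), (733, 0, 0), (1721, 0, 0), (891, 6, 4), (676, 0, 0),
   (747, 0, 0), (1645, 0, 0), (17, 0, 0), (907, 0, 0), (579, 0, 0), (1729, 3, 0), (572, 0, 0),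
   (433, 0, 0), (482, 0, 0), (1367, 0, 0), (193, 0, 0), (729, 0, 0), (73, 6, 1), (159, 0, 0),
   (1031, 0, 0), (1468, 0, 0), (1571, 0, 0), (146, 0, 0), (1515, 0, 0), (931, 5, 9), (1090, 0, 0),
   (221, 0, 0), (464, 0, 0), (838, 0, 0), (1450, 0, 0), (252, 0, 0), (1925, 3, 9), (1891, 0, 0),
   (1841, 0, 0), (1939, 0, 0), (1892, 0, 0), (1837, 0, 0), (1880, 0, 0), (759, 1, 2), (1618, 0, 0),
   (300, 0, 0), (920, 0, 0), (644, 0, 0), (361, 0, 0), (544, 0, 0), (592, 3, 0), (892, 0, 0),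
   (1104, 0, 0), (222, 0, 0), (458, 0, 0), (42, 0, 0), (1483, 0, 0), (51, 5, 0), (1366, 0, 0),
   (197, 0, 0), (962, 0, 0), (1727, 0, 0), (232, 0, 0), (549, 0, 0), (1055, 1, 2), (333, 0, 0),
   (1050, 0, 0), (309, 0, 0), (1411, 0, 0), (321, 0, 0), (1418, 0, 0), (373, 3, 0), (843, 0, 0),
   (1459, 0, 0), (283, 0, 0), (795, 0, 0), (1712, 0, 0), (11, 0, 0), (371, 3, 12), (831, 0, 0),
   (600, 0, 0), (893, 0, 0), (815, 0, 0), (1607, 0, 0), (465, 0, 0), (401, 2, 1), (180, 0, 0),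
   (720, 0, 0), (1704, 0, 0), (805, 0, 0), (1643, 0, 0), (475, 0, 0), (408, 4, 4), (216, 0, 0),
   (1114, 0, 0), (1597, 0, 0), (693, 0, 0), (1638, 0, 0), (1350, 0, 0), (836, 3, 18), (660, 0, 0),
   (281, 0, 0), (794, 0, 0), (1596, 0, 0)]

/-- part 13 of tripTripU2 -/
def tripTripU2_13 : List (ℕ × ℕ × ℕ) := [
   (690, 0, 0), (1635, 0, 0), (1774, 1, 1), (1796, 0, 0), (1999, 0, 0), (1899, 0, 0), (1847, 0, 0),
   (1957, 0, 0), (1773, 0, 0), (469, 6, 1), (908, 0, 0), (575, 0, 0), (260, 0, 0), (932, 0, 0),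
   (801, 0, 0), (1606, 0, 0), (156, 3, 12), (1028, 0, 0), (954, 0, 0), (1663, 0, 0), (246, 0, 0),
   (1449, 0, 0), (72, 0, 0), (1799, 6, 9), (1820, 0, 0), (1960, 0, 0), (1893, 0, 0), (1840, 0, 0),
   (1883, 0, 0), (1982, 0, 0), (293, 6, 3), (894, 0, 0), (642, 0, 0), (906, 0, 0), (678, 0, 0),
   (353, 0, 0), (533, 0, 0), (1126, 3, 4), (938, 0, 0), (629, 0, 0), (528, 0, 0), (1436, 0, 0),
   (56, 0, 0), (126, 0, 0), (1784, 5, 7), (1869, 0, 0), (1987, 0, 0), (1815, 0, 0), (1836, 0, 0),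
   (1959, 0, 0), (2004, 0, 0), (553, 5, 4), (1346, 0, 0), (112, 0, 0), (214, 0, 0), (1139, 0, 0),
   (1662, 0, 0), (233, 0, 0), (76, 3, 78), (418, 0, 0), (1030, 0, 0), (718, 0, 0), (1598, 0, 0),
   (706, 0, 0), (1764, 0, 0), (1945, 4, 42), (1794, 0, 0), (1984, 0, 0), (1806, 0, 0), (1991, 0, 0),
   (1950, 0, 0), (1818, 0, 0), (1974, 5, 512)]

/-- tree tripTripU2 -/
def tripTripU2 : List (ℕ × ℕ × ℕ) :=
  tripTripU2_0 ++ tripTripU2_1 ++ tripTripU2_2 ++ tripTripU2_3 ++ tripTripU2_4 ++ tripTripU2_5 ++ tripTripU2_6 ++ tripTripU2_7 ++ tripTripU2_8 ++ tripTripU2_9 ++ tripTripU2_10 ++ tripTripU2_11 ++ tripTripU2_12 ++ tripTripU2_13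

/-- part 0 of tripTripU3 -/
def tripTripU3_0 : List (ℕ × ℕ × ℕ) := [
   (19, 0, 0), (83, 0, 0), (219, 0, 0), (454, 0, 0), (815, 0, 0), (1329, 0, 0), (1750, 0, 0),
   (3, 0, 0), (34, 0, 0), (119, 0, 0), (285, 0, 0), (559, 0, 0), (968, 0, 0), (1539, 0, 0),
   (1540, 0, 0), (9, 0, 0), (55, 0, 0), (164, 0, 0), (363, 0, 0), (679, 0, 0), (1139, 0, 0),
   (1770, 0, 0), (634, 1, 0), (1085, 0, 0), (1707, 0, 0), (1468, 0, 0), (1151, 0, 0), (62, 0, 0),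
   (189, 0, 0), (415, 0, 0), (767, 0, 0), (1272, 0, 0), (1074, 0, 0), (1696, 0, 0), (1347, 0, 0),
   (95, 0, 0), (252, 0, 0), (517, 0, 0), (917, 0, 0), (1479, 0, 0), (1261, 0, 0), (975, 0, 0),
   (1564, 0, 0), (137, 0, 0), (327, 0, 0), (1813, 1, 0), (1846, 0, 0), (1888, 0, 0), (1939, 0, 0),
   (1999, 0, 0), (1982, 0, 0), (1778, 0, 0), (1796, 0, 0), (1823, 0, 0), (1859, 0, 0), (1904, 0, 0),
   (1958, 0, 0), (2021, 0, 0), (2004, 0, 0), (1783, 0, 0), (1804, 0, 0), (1834, 0, 0), (1873, 0, 0),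
   (1921, 0, 0), (1978, 0, 0), (1961, 0, 0), (1774, 0, 0), (1789, 0, 0), (1290, 1, 0), (1276, 0, 0),
   (1143, 0, 0), (23, 0, 0), (102, 0, 0), (262, 0, 0), (530, 0, 0), (933, 0, 0), (1498, 0, 0),
   (1484, 0, 0), (1337, 0, 0), (42, 0, 0), (145, 0, 0), (338, 0, 0), (648, 0, 0), (1102, 0, 0),
   (1727, 0, 0), (1713, 0, 0), (1552, 0, 0), (68, 0, 0), (198, 0, 0), (427, 0, 0), (782, 0, 0),
   (1769, 2, 0), (1542, 0, 0), (18, 0, 0), (82, 0, 0), (218, 0, 0), (453, 0, 0), (814, 0, 0),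
   (1328, 0, 0), (1730, 0, 0), (2, 0, 0), (33, 0, 0), (118, 0, 0), (284, 0, 0), (558, 0, 0),
   (967, 0, 0), (1538, 0, 0), (1330, 0, 0), (8, 0, 0), (54, 0, 0), (163, 0, 0), (362, 0, 0),
   (678, 0, 0), (1138, 0, 0), (1514, 1, 0), (1661, 0, 0), (977, 0, 0), (1566, 0, 0), (150, 0, 0),
   (346, 0, 0), (659, 0, 0), (1116, 0, 0), (1744, 0, 0), (681, 0, 0), (1153, 0, 0), (71, 0, 0),
   (204, 0, 0), (436, 0, 0), (794, 0, 0), (1305, 0, 0), (1435, 0, 0), (820, 0, 0), (1349, 0, 0),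
   (106, 0, 0), (269, 0, 0), (540, 0, 0), (946, 0, 0), (1496, 1, 0), (1451, 0, 0), (976, 0, 0),
   (1565, 0, 0), (143, 0, 0), (336, 0, 0), (646, 0, 0), (1100, 0, 0), (1725, 0, 0), (1678, 0, 0),
   (1152, 0, 0), (66, 0, 0), (196, 0, 0)]

/-- part 1 of tripTripU3 -/
def tripTripU3_1 : List (ℕ × ℕ × ℕ) := [
   (425, 0, 0), (780, 0, 0), (1288, 0, 0), (1245, 0, 0), (819, 0, 0), (1348, 0, 0), (100, 0, 0),
   (260, 0, 0), (528, 0, 0), (931, 0, 0), (1493, 1, 0), (1409, 0, 0), (567, 0, 0), (994, 0, 0),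
   (1592, 0, 0), (333, 0, 0), (643, 0, 0), (1097, 0, 0), (1722, 0, 0), (1633, 0, 0), (692, 0, 0),
   (1173, 0, 0), (193, 0, 0), (422, 0, 0), (777, 0, 0), (1285, 0, 0), (1206, 0, 0), (458, 0, 0),
   (834, 0, 0), (1372, 0, 0), (257, 0, 0), (525, 0, 0), (928, 0, 0), (1760, 1, 0), (288, 0, 0),
   (574, 0, 0), (1004, 0, 0), (1605, 0, 0), (444, 0, 0), (805, 0, 0), (1319, 0, 0), (1595, 0, 0),
   (369, 0, 0), (700, 0, 0), (1184, 0, 0), (275, 0, 0), (549, 0, 0), (958, 0, 0), (1529, 0, 0),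
   (220, 0, 0), (464, 0, 0), (843, 0, 0), (1384, 0, 0), (353, 0, 0), (669, 0, 0), (1129, 0, 0),
   (192, 3, 0), (418, 0, 0), (770, 0, 0), (1275, 0, 0), (1122, 0, 0), (1753, 0, 0), (22, 0, 0),
   (98, 0, 0), (255, 0, 0), (520, 0, 0), (920, 0, 0), (1482, 0, 0), (1312, 0, 0), (1546, 0, 0),
   (40, 0, 0), (140, 0, 0), (330, 0, 0), (637, 0, 0), (1088, 0, 0), (1710, 0, 0), (1522, 0, 0),
   (10, 0, 0), (65, 0, 0), (426, 1, 0), (781, 0, 0), (1289, 0, 0), (1260, 0, 0), (972, 0, 0),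
   (1558, 0, 0), (101, 0, 0), (261, 0, 0), (529, 0, 0), (932, 0, 0), (1497, 0, 0), (1467, 0, 0),
   (1147, 0, 0), (41, 0, 0), (144, 0, 0), (337, 0, 0), (647, 0, 0), (1101, 0, 0), (1726, 0, 0),
   (1695, 0, 0), (1342, 0, 0), (67, 0, 0), (197, 0, 0), (190, 1, 0), (416, 0, 0), (768, 0, 0),
   (1273, 0, 0), (1089, 0, 0), (1714, 0, 0), (1557, 0, 0), (96, 0, 0), (253, 0, 0), (518, 0, 0),
   (918, 0, 0), (1480, 0, 0), (1277, 0, 0), (1146, 0, 0), (38, 0, 0), (138, 0, 0), (328, 0, 0),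
   (635, 0, 0), (1086, 0, 0), (1708, 0, 0), (1485, 0, 0), (1341, 0, 0), (63, 0, 0), (187, 1, 0),
   (413, 0, 0), (765, 0, 0), (1270, 0, 0), (1047, 0, 0), (1663, 0, 0), (986, 0, 0), (1581, 0, 0),
   (250, 0, 0), (515, 0, 0), (915, 0, 0), (1477, 0, 0), (1232, 0, 0), (686, 0, 0), (1164, 0, 0),
   (135, 0, 0), (325, 0, 0), (632, 0, 0), (1083, 0, 0), (1705, 0, 0), (1437, 0, 0), (827, 0, 0),
   (1362, 0, 0), (282, 1, 0), (556, 0, 0)]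

/-- part 2 of tripTripU3 -/
def tripTripU3_2 : List (ℕ × ℕ × ℕ) := [
   (965, 0, 0), (1536, 0, 0), (969, 0, 0), (1549, 0, 0), (52, 0, 0), (161, 0, 0), (360, 0, 0),
   (676, 0, 0), (1136, 0, 0), (1767, 0, 0), (1142, 0, 0), (16, 0, 0), (80, 0, 0), (216, 0, 0),
   (451, 0, 0), (812, 0, 0), (1326, 0, 0), (1693, 0, 0), (1335, 0, 0), (31, 0, 0), (116, 0, 0),
   (847, 2, 0), (1391, 0, 0), (401, 0, 0), (750, 0, 0), (1252, 0, 0), (861, 0, 0), (1411, 0, 0),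
   (576, 0, 0), (1009, 0, 0), (1613, 0, 0), (502, 0, 0), (899, 0, 0), (1458, 0, 0), (1025, 0, 0),
   (1635, 0, 0), (703, 0, 0), (1190, 0, 0), (314, 0, 0), (618, 0, 0), (1066, 0, 0), (1685, 0, 0),
   (1208, 0, 0), (465, 0, 0), (1816, 1, 0), (1852, 0, 0), (1897, 0, 0), (1951, 0, 0), (2014, 0, 0),
   (1878, 0, 0), (1929, 0, 0), (1989, 0, 0), (1827, 0, 0), (1866, 0, 0), (1914, 0, 0), (1971, 0, 0),
   (1849, 0, 0), (1894, 0, 0), (1948, 0, 0), (2011, 0, 0), (1839, 0, 0), (1881, 0, 0), (1932, 0, 0),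
   (1992, 0, 0), (1863, 0, 0), (1911, 0, 0), (1968, 0, 0), (1692, 1, 0), (1313, 0, 0), (1550, 0, 0),
   (61, 0, 0), (185, 0, 0), (408, 0, 0), (757, 0, 0), (1259, 0, 0), (952, 0, 0), (1523, 0, 0),
   (20, 0, 0), (93, 0, 0), (247, 0, 0), (509, 0, 0), (906, 0, 0), (1465, 0, 0), (1123, 0, 0),
   (1754, 0, 0), (37, 0, 0), (134, 0, 0), (321, 0, 0), (625, 0, 0), (1073, 0, 0), (1010, 1, 0),
   (1614, 0, 0), (512, 0, 0), (912, 0, 0), (1474, 0, 0), (1196, 0, 0), (370, 0, 0), (704, 0, 0),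
   (1191, 0, 0), (322, 0, 0), (629, 0, 0), (1080, 0, 0), (1702, 0, 0), (1398, 0, 0), (466, 0, 0),
   (848, 0, 0), (1392, 0, 0), (410, 0, 0), (762, 0, 0), (1267, 0, 0), (1014, 0, 0), (1621, 0, 0),
   (577, 0, 0), (1220, 1, 0), (570, 0, 0), (1000, 0, 0), (1601, 0, 0), (402, 0, 0), (751, 0, 0),
   (1253, 0, 0), (871, 0, 0), (1424, 0, 0), (696, 0, 0), (1180, 0, 0), (241, 0, 0), (503, 0, 0),
   (900, 0, 0), (1459, 0, 0), (1036, 0, 0), (1649, 0, 0), (839, 0, 0), (1380, 0, 0), (315, 0, 0),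
   (619, 0, 0), (1067, 0, 0), (1686, 0, 0), (551, 3, 0), (960, 0, 0), (1531, 0, 0), (364, 0, 0),
   (689, 0, 0), (1167, 0, 0), (156, 0, 0), (355, 0, 0), (671, 0, 0), (1131, 0, 0), (1762, 0, 0),
   (457, 0, 0), (830, 0, 0), (1365, 0, 0)]

/-- part 3 of tripTripU3 -/
def tripTripU3_3 : List (ℕ × ℕ × ℕ) := [
   (211, 0, 0), (446, 0, 0), (807, 0, 0), (1321, 0, 0), (1618, 0, 0), (565, 0, 0), (989, 0, 0),
   (1584, 0, 0), (277, 0, 0), (463, 1, 0), (842, 0, 0), (1383, 0, 0), (342, 0, 0), (655, 0, 0),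
   (1112, 0, 0), (1740, 0, 0), (287, 0, 0), (573, 0, 0), (1003, 0, 0), (1604, 0, 0), (432, 0, 0),
   (790, 0, 0), (1301, 0, 0), (1385, 0, 0), (368, 0, 0), (699, 0, 0), (1183, 0, 0), (265, 0, 0),
   (536, 0, 0), (942, 0, 0), (1510, 0, 0), (1607, 0, 0), (484, 1, 0), (875, 0, 0), (1428, 0, 0),
   (726, 0, 0), (1222, 0, 0), (581, 0, 0), (1017, 0, 0), (1624, 0, 0), (598, 0, 0), (1040, 0, 0),
   (1653, 0, 0), (873, 0, 0), (1426, 0, 0), (709, 0, 0), (1199, 0, 0), (385, 0, 0), (728, 0, 0),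
   (1224, 0, 0), (596, 0, 0), (1038, 0, 0), (1651, 0, 0), (854, 0, 0), (1401, 0, 0), (1812, 2, 0),
   (1845, 0, 0), (1887, 0, 0), (1938, 0, 0), (1998, 0, 0), (1962, 0, 0), (1777, 0, 0), (1795, 0, 0),
   (1822, 0, 0), (1858, 0, 0), (1903, 0, 0), (1957, 0, 0), (2020, 0, 0), (1983, 0, 0), (1782, 0, 0),
   (1803, 0, 0), (1833, 0, 0), (1872, 0, 0), (1920, 0, 0), (1977, 0, 0), (1942, 0, 0), (2005, 0, 0),
   (1788, 0, 0), (1278, 1, 0), (1150, 0, 0), (59, 0, 0), (183, 0, 0), (406, 0, 0), (755, 0, 0),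
   (1257, 0, 0), (921, 0, 0), (1486, 0, 0), (1346, 0, 0), (91, 0, 0), (245, 0, 0), (507, 0, 0),
   (904, 0, 0), (1463, 0, 0), (1090, 0, 0), (1715, 0, 0), (1563, 0, 0), (132, 0, 0), (319, 0, 0),
   (623, 0, 0), (1071, 0, 0), (1690, 0, 0), (69, 1, 0), (199, 0, 0), (428, 0, 0), (783, 0, 0),
   (1291, 0, 0), (1293, 0, 0), (1333, 0, 0), (24, 0, 0), (103, 0, 0), (263, 0, 0), (531, 0, 0),
   (934, 0, 0), (1499, 0, 0), (1502, 0, 0), (1547, 0, 0), (43, 0, 0), (146, 0, 0), (339, 0, 0),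
   (649, 0, 0), (1103, 0, 0), (1728, 0, 0), (1732, 0, 0), (11, 0, 0), (1772, 1, 0), (1784, 0, 0),
   (1805, 0, 0), (1835, 0, 0), (1874, 0, 0), (1922, 0, 0), (1979, 0, 0), (1981, 0, 0), (1775, 0, 0),
   (1790, 0, 0), (1814, 0, 0), (1847, 0, 0), (1889, 0, 0), (1940, 0, 0), (2000, 0, 0), (2003, 0, 0),
   (1779, 0, 0), (1797, 0, 0), (1824, 0, 0), (1860, 0, 0), (1905, 0, 0), (1959, 0, 0), (2022, 0, 0),
   (808, 1, 0), (1322, 0, 0), (1631, 0, 0)]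

/-- part 4 of tripTripU3 -/
def tripTripU3_4 : List (ℕ × ℕ × ℕ) := [
   (685, 0, 0), (1160, 0, 0), (112, 0, 0), (278, 0, 0), (552, 0, 0), (961, 0, 0), (1532, 0, 0),
   (455, 0, 0), (825, 0, 0), (1357, 0, 0), (157, 0, 0), (356, 0, 0), (672, 0, 0), (1132, 0, 0),
   (1763, 0, 0), (562, 0, 0), (983, 0, 0), (1575, 0, 0), (212, 0, 0), (447, 0, 0), (1980, 2, 0),
   (2002, 0, 0), (1776, 0, 0), (1791, 0, 0), (1815, 0, 0), (1848, 0, 0), (1890, 0, 0), (1941, 0, 0),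
   (2001, 0, 0), (1771, 0, 0), (1780, 0, 0), (1798, 0, 0), (1825, 0, 0), (1861, 0, 0), (1906, 0, 0),
   (1960, 0, 0), (2023, 0, 0), (1773, 0, 0), (1785, 0, 0), (1806, 0, 0), (1836, 0, 0), (1875, 0, 0),
   (1923, 0, 0), (761, 1, 0), (1266, 0, 0), (1005, 0, 0), (1609, 0, 0), (472, 0, 0), (857, 0, 0),
   (1404, 0, 0), (511, 0, 0), (911, 0, 0), (1473, 0, 0), (1186, 0, 0), (292, 0, 0), (584, 0, 0),
   (1020, 0, 0), (1627, 0, 0), (628, 0, 0), (1079, 0, 0), (1701, 0, 0), (1387, 0, 0), (375, 0, 0),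
   (712, 0, 0), (1202, 0, 0), (409, 0, 0), (826, 1, 0), (1361, 0, 0), (181, 0, 0), (404, 0, 0),
   (753, 0, 0), (1255, 0, 0), (894, 0, 0), (1453, 0, 0), (985, 0, 0), (1580, 0, 0), (243, 0, 0),
   (505, 0, 0), (902, 0, 0), (1461, 0, 0), (1061, 0, 0), (1680, 0, 0), (1163, 0, 0), (130, 0, 0),
   (317, 0, 0), (621, 0, 0), (1069, 0, 0), (1688, 0, 0), (1247, 0, 0), (607, 1, 0), (1052, 0, 0),
   (1668, 0, 0), (1026, 0, 0), (1636, 0, 0), (710, 0, 0), (1200, 0, 0), (392, 0, 0), (738, 0, 0),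
   (1237, 0, 0), (716, 0, 0), (1209, 0, 0), (470, 0, 0), (855, 0, 0), (1402, 0, 0), (492, 0, 0),
   (886, 0, 0), (1442, 0, 0), (862, 0, 0), (1412, 0, 0), (582, 0, 0), (1018, 0, 0), (1625, 0, 0),
   (1244, 2, 0), (800, 0, 0), (1314, 0, 0), (1555, 0, 0), (89, 0, 0), (240, 0, 0), (499, 0, 0),
   (893, 0, 0), (1449, 0, 0), (953, 0, 0), (1524, 0, 0), (35, 0, 0), (129, 0, 0), (313, 0, 0),
   (614, 0, 0), (1059, 0, 0), (1675, 0, 0), (1124, 0, 0), (1755, 0, 0), (58, 0, 0), (179, 0, 0),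
   (399, 0, 0), (745, 0, 0), (554, 3, 0), (963, 0, 0), (1534, 0, 0), (680, 0, 0), (1149, 0, 0),
   (50, 0, 0), (159, 0, 0), (358, 0, 0), (674, 0, 0), (1134, 0, 0), (1765, 0, 0), (818, 0, 0),
   (1344, 0, 0), (78, 0, 0), (214, 0, 0)]

/-- part 5 of tripTripU3 -/
def tripTripU3_5 : List (ℕ × ℕ × ℕ) := [
   (449, 0, 0), (810, 0, 0), (1324, 0, 0), (1660, 0, 0), (974, 0, 0), (1560, 0, 0), (114, 0, 0),
   (280, 0, 0), (1880, 1, 0), (1931, 0, 0), (1991, 0, 0), (1850, 0, 0), (1895, 0, 0), (1949, 0, 0),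
   (2012, 0, 0), (1851, 0, 0), (1896, 0, 0), (1950, 0, 0), (2013, 0, 0), (1864, 0, 0), (1912, 0, 0),
   (1969, 0, 0), (1826, 0, 0), (1865, 0, 0), (1913, 0, 0), (1970, 0, 0), (1837, 0, 0), (1879, 0, 0),
   (1930, 0, 0), (1990, 0, 0), (1838, 0, 0), (786, 1, 0), (1297, 0, 0), (1351, 0, 0), (124, 0, 0),
   (305, 0, 0), (603, 0, 0), (1045, 0, 0), (1658, 0, 0), (938, 0, 0), (1506, 0, 0), (1569, 0, 0),
   (173, 0, 0), (390, 0, 0), (733, 0, 0), (1229, 0, 0), (651, 0, 0), (1108, 0, 0), (1736, 0, 0),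
   (85, 0, 0), (233, 0, 0), (489, 0, 0), (880, 0, 0), (1433, 0, 0), (526, 1, 0), (929, 0, 0),
   (1494, 0, 0), (1422, 0, 0), (687, 0, 0), (1165, 0, 0), (141, 0, 0), (334, 0, 0), (644, 0, 0),
   (1098, 0, 0), (1723, 0, 0), (1647, 0, 0), (828, 0, 0), (1363, 0, 0), (194, 0, 0), (423, 0, 0),
   (778, 0, 0), (1286, 0, 0), (1218, 0, 0), (563, 0, 0), (987, 0, 0), (1582, 0, 0), (258, 0, 0),
   (87, 4, 0), (238, 0, 0), (497, 0, 0), (891, 0, 0), (1447, 0, 0), (922, 0, 0), (1487, 0, 0),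
   (1352, 0, 0), (127, 0, 0), (311, 0, 0), (612, 0, 0), (1057, 0, 0), (1673, 0, 0), (1091, 0, 0),
   (1716, 0, 0), (1570, 0, 0), (177, 0, 0), (397, 0, 0), (743, 0, 0), (1242, 0, 0), (771, 0, 0),
   (1279, 0, 0), (1155, 0, 0), (665, 2, 0), (1125, 0, 0), (1756, 0, 0), (86, 0, 0), (234, 0, 0),
   (490, 0, 0), (881, 0, 0), (1434, 0, 0), (801, 0, 0), (1315, 0, 0), (1561, 0, 0), (125, 0, 0),
   (306, 0, 0), (604, 0, 0), (1046, 0, 0), (1659, 0, 0), (954, 0, 0), (1525, 0, 0), (56, 0, 0),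
   (174, 0, 0), (391, 0, 0), (734, 0, 0), (1230, 0, 0), (1269, 2, 0), (1035, 0, 0), (1648, 0, 0),
   (833, 0, 0), (1371, 0, 0), (249, 0, 0), (514, 0, 0), (914, 0, 0), (1476, 0, 0), (1219, 0, 0),
   (566, 0, 0), (993, 0, 0), (1591, 0, 0), (324, 0, 0), (631, 0, 0), (1082, 0, 0), (1704, 0, 0),
   (1423, 0, 0), (691, 0, 0), (1172, 0, 0), (186, 0, 0), (412, 0, 0), (764, 0, 0), (1179, 1, 0),
   (235, 0, 0), (494, 0, 0), (888, 0, 0)]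

/-- part 6 of tripTripU3 -/
def tripTripU3_6 : List (ℕ × ℕ × ℕ) := [
   (1444, 0, 0), (883, 0, 0), (1439, 0, 0), (838, 0, 0), (1379, 0, 0), (308, 0, 0), (609, 0, 0),
   (1054, 0, 0), (1670, 0, 0), (1049, 0, 0), (1665, 0, 0), (999, 0, 0), (1600, 0, 0), (394, 0, 0),
   (740, 0, 0), (1239, 0, 0), (735, 0, 0), (1234, 0, 0), (695, 0, 0), (1645, 3, 0), (821, 0, 0),
   (1350, 0, 0), (113, 0, 0), (279, 0, 0), (553, 0, 0), (962, 0, 0), (1533, 0, 0), (560, 0, 0),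
   (978, 0, 0), (1567, 0, 0), (158, 0, 0), (357, 0, 0), (673, 0, 0), (1133, 0, 0), (1764, 0, 0),
   (682, 0, 0), (1154, 0, 0), (77, 0, 0), (213, 0, 0), (448, 0, 0), (809, 0, 0), (1323, 0, 0),
   (1104, 1, 0), (1729, 0, 0), (1752, 0, 0), (12, 0, 0), (70, 0, 0), (200, 0, 0), (429, 0, 0),
   (784, 0, 0), (1292, 0, 0), (1311, 0, 0), (1543, 0, 0), (25, 0, 0), (104, 0, 0), (264, 0, 0),
   (532, 0, 0), (935, 0, 0), (1500, 0, 0), (1521, 0, 0), (4, 0, 0), (44, 0, 0), (147, 0, 0),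
   (340, 0, 0), (650, 0, 0), (542, 1, 0), (948, 0, 0), (1516, 0, 0), (1694, 0, 0), (1338, 0, 0),
   (46, 0, 0), (152, 0, 0), (348, 0, 0), (661, 0, 0), (1118, 0, 0), (1746, 0, 0), (970, 0, 0),
   (1553, 0, 0), (73, 0, 0), (206, 0, 0), (438, 0, 0), (796, 0, 0), (1307, 0, 0), (1466, 0, 0),
   (1144, 0, 0), (26, 0, 0), (108, 0, 0), (271, 0, 0), (1308, 1, 0), (1483, 0, 0), (1334, 0, 0),
   (27, 0, 0), (109, 0, 0), (272, 0, 0), (543, 0, 0), (949, 0, 0), (1517, 0, 0), (1712, 0, 0),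
   (1548, 0, 0), (47, 0, 0), (153, 0, 0), (349, 0, 0), (662, 0, 0), (1119, 0, 0), (1747, 0, 0),
   (1141, 0, 0), (13, 0, 0), (74, 0, 0), (207, 0, 0), (439, 0, 0), (797, 0, 0), (1216, 5, 0),
   (533, 0, 0), (939, 0, 0), (1507, 0, 0), (1577, 0, 0), (228, 0, 0), (481, 0, 0), (869, 0, 0),
   (1419, 0, 0), (652, 0, 0), (1109, 0, 0), (1737, 0, 0), (121, 0, 0), (299, 0, 0), (594, 0, 0),
   (1033, 0, 0), (1643, 0, 0), (787, 0, 0), (1298, 0, 0), (1358, 0, 0), (169, 0, 0), (383, 0, 0),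
   (723, 0, 0), (1446, 3, 0), (908, 0, 0), (1470, 0, 0), (1162, 0, 0), (126, 0, 0), (310, 0, 0),
   (611, 0, 0), (1056, 0, 0), (1672, 0, 0), (1076, 0, 0), (1698, 0, 0), (1360, 0, 0), (176, 0, 0),
   (396, 0, 0), (742, 0, 0), (1241, 0, 0)]

/-- part 7 of tripTripU3 -/
def tripTripU3_7 : List (ℕ × ℕ × ℕ) := [
   (758, 0, 0), (1263, 0, 0), (984, 0, 0), (1579, 0, 0), (237, 0, 0), (496, 0, 0), (890, 0, 0),
   (1174, 5, 0), (201, 0, 0), (433, 0, 0), (791, 0, 0), (1302, 0, 0), (1396, 0, 0), (459, 0, 0),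
   (835, 0, 0), (1373, 0, 0), (266, 0, 0), (537, 0, 0), (943, 0, 0), (1511, 0, 0), (1619, 0, 0),
   (568, 0, 0), (995, 0, 0), (1593, 0, 0), (343, 0, 0), (656, 0, 0), (1113, 0, 0), (1741, 0, 0),
   (365, 0, 0), (693, 0, 0), (1988, 2, 0), (1817, 0, 0), (1853, 0, 0), (1898, 0, 0), (1952, 0, 0),
   (2015, 0, 0), (1893, 0, 0), (1947, 0, 0), (2010, 0, 0), (1828, 0, 0), (1867, 0, 0), (1915, 0, 0),
   (1972, 0, 0), (1862, 0, 0), (1910, 0, 0), (1967, 0, 0), (1807, 0, 0), (1840, 0, 0), (1882, 0, 0),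
   (1933, 0, 0), (1993, 0, 0), (1877, 0, 0), (1928, 0, 0), (1012, 3, 0), (1616, 0, 0), (535, 0, 0),
   (941, 0, 0), (1509, 0, 0), (1596, 0, 0), (372, 0, 0), (706, 0, 0), (1193, 0, 0), (341, 0, 0),
   (654, 0, 0), (1111, 0, 0), (1739, 0, 0), (221, 0, 0), (468, 0, 0), (850, 0, 0), (1394, 0, 0),
   (431, 0, 0), (789, 0, 0), (1300, 0, 0), (1375, 0, 0), (290, 0, 0), (579, 0, 0), (1225, 1, 0),
   (605, 0, 0), (1050, 0, 0), (1666, 0, 0), (1007, 0, 0), (1611, 0, 0), (485, 0, 0), (876, 0, 0),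
   (1429, 0, 0), (736, 0, 0), (1235, 0, 0), (701, 0, 0), (1188, 0, 0), (301, 0, 0), (599, 0, 0),
   (1041, 0, 0), (1654, 0, 0), (884, 0, 0), (1440, 0, 0), (845, 0, 0), (1389, 0, 0), (386, 0, 0),
   (729, 0, 0), (840, 1, 0), (1381, 0, 0), (323, 0, 0), (630, 0, 0), (1081, 0, 0), (1703, 0, 0),
   (1410, 0, 0), (571, 0, 0), (1001, 0, 0), (1602, 0, 0), (411, 0, 0), (763, 0, 0), (1268, 0, 0),
   (1024, 0, 0), (1634, 0, 0), (697, 0, 0), (1181, 0, 0), (248, 0, 0), (513, 0, 0), (913, 0, 0),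
   (1475, 0, 0), (1207, 0, 0), (461, 0, 0), (148, 2, 0), (344, 0, 0), (657, 0, 0), (1114, 0, 0),
   (1742, 0, 0), (456, 0, 0), (829, 0, 0), (1364, 0, 0), (202, 0, 0), (434, 0, 0), (792, 0, 0),
   (1303, 0, 0), (1408, 0, 0), (564, 0, 0), (988, 0, 0), (1583, 0, 0), (267, 0, 0), (538, 0, 0),
   (944, 0, 0), (1512, 0, 0), (1632, 0, 0), (688, 0, 0), (1166, 0, 0), (2018, 1, 0), (1944, 0, 0),
   (2007, 0, 0), (1801, 0, 0), (1831, 0, 0)]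

/-- part 8 of tripTripU3 -/
def tripTripU3_8 : List (ℕ × ℕ × ℕ) := [
   (1870, 0, 0), (1918, 0, 0), (1975, 0, 0), (1907, 0, 0), (1964, 0, 0), (1786, 0, 0), (1810, 0, 0),
   (1843, 0, 0), (1885, 0, 0), (1936, 0, 0), (1996, 0, 0), (1925, 0, 0), (1985, 0, 0), (1793, 0, 0),
   (1820, 0, 0), (1856, 0, 0), (1901, 0, 0), (1955, 0, 0), (1212, 2, 0), (491, 0, 0), (885, 0, 0),
   (1441, 0, 0), (853, 0, 0), (1400, 0, 0), (477, 0, 0), (865, 0, 0), (1415, 0, 0), (606, 0, 0),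
   (1051, 0, 0), (1667, 0, 0), (1016, 0, 0), (1623, 0, 0), (590, 0, 0), (1029, 0, 0), (1639, 0, 0),
   (737, 0, 0), (1236, 0, 0), (708, 0, 0), (1198, 0, 0), (379, 0, 0), (719, 0, 0), (382, 1, 0),
   (722, 0, 0), (1215, 0, 0), (521, 0, 0), (924, 0, 0), (1489, 0, 0), (1367, 0, 0), (227, 0, 0),
   (480, 0, 0), (868, 0, 0), (1418, 0, 0), (639, 0, 0), (1093, 0, 0), (1718, 0, 0), (1587, 0, 0),
   (298, 0, 0), (593, 0, 0), (1032, 0, 0), (1642, 0, 0), (773, 0, 0), (1281, 0, 0), (1168, 0, 0),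
   (168, 0, 0), (1963, 4, 0), (1781, 0, 0), (1802, 0, 0), (1832, 0, 0), (1871, 0, 0), (1919, 0, 0),
   (1976, 0, 0), (1924, 0, 0), (1984, 0, 0), (1787, 0, 0), (1811, 0, 0), (1844, 0, 0), (1886, 0, 0),
   (1937, 0, 0), (1997, 0, 0), (1943, 0, 0), (2006, 0, 0), (1794, 0, 0), (1821, 0, 0), (1857, 0, 0),
   (1902, 0, 0), (1956, 0, 0), (2019, 0, 0), (711, 1, 0), (1201, 0, 0), (400, 0, 0), (749, 0, 0),
   (1251, 0, 0), (852, 0, 0), (1399, 0, 0), (471, 0, 0), (856, 0, 0), (1403, 0, 0), (501, 0, 0),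
   (898, 0, 0), (1457, 0, 0), (1015, 0, 0), (1622, 0, 0), (583, 0, 0), (1019, 0, 0), (1626, 0, 0),
   (617, 0, 0), (1065, 0, 0), (1684, 0, 0), (1197, 0, 0), (374, 0, 0), (597, 5, 0), (1039, 0, 0),
   (1652, 0, 0), (863, 0, 0), (1413, 0, 0), (589, 0, 0), (1028, 0, 0), (1638, 0, 0), (727, 0, 0),
   (1223, 0, 0), (588, 0, 0), (1027, 0, 0), (1637, 0, 0), (718, 0, 0), (1211, 0, 0), (483, 0, 0),
   (874, 0, 0), (1427, 0, 0), (717, 0, 0), (1210, 0, 0), (476, 0, 0), (864, 0, 0), (1414, 0, 0),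
   (1250, 2, 0), (844, 0, 0), (1388, 0, 0), (380, 0, 0), (720, 0, 0), (1213, 0, 0), (500, 0, 0),
   (897, 0, 0), (1456, 0, 0), (1006, 0, 0), (1610, 0, 0), (478, 0, 0), (866, 0, 0), (1416, 0, 0),
   (616, 0, 0), (1064, 0, 0), (1683, 0, 0)]

/-- part 9 of tripTripU3 -/
def tripTripU3_9 : List (ℕ × ℕ × ℕ) := [
   (1187, 0, 0), (296, 0, 0), (591, 0, 0), (1030, 0, 0), (1640, 0, 0), (748, 0, 0), (460, 1, 0),
   (836, 0, 0), (1374, 0, 0), (276, 0, 0), (550, 0, 0), (959, 0, 0), (1530, 0, 0), (286, 0, 0),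
   (569, 0, 0), (996, 0, 0), (1594, 0, 0), (354, 0, 0), (670, 0, 0), (1130, 0, 0), (1761, 0, 0),
   (366, 0, 0), (694, 0, 0), (1175, 0, 0), (210, 0, 0), (445, 0, 0), (806, 0, 0), (1320, 0, 0),
   (1606, 0, 0), (1095, 1, 1), (1720, 0, 0), (1608, 0, 0), (467, 0, 0), (849, 0, 0), (1393, 0, 0),
   (420, 0, 0), (775, 0, 0), (1283, 0, 0), (1185, 0, 0), (289, 0, 0), (578, 0, 0), (1011, 0, 0),
   (1615, 0, 0), (523, 0, 0), (926, 0, 0), (1491, 0, 0), (1386, 0, 0), (371, 0, 0), (705, 0, 0),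
   (1192, 0, 0), (331, 0, 0), (641, 0, 0), (2009, 4, 0), (1818, 0, 0), (1854, 0, 0), (1899, 0, 0),
   (1953, 0, 0), (2016, 0, 0), (1909, 0, 0), (1966, 0, 0), (1799, 0, 0), (1829, 0, 0), (1868, 0, 0),
   (1916, 0, 0), (1973, 0, 0), (1876, 0, 0), (1927, 0, 0), (1987, 0, 0), (1808, 0, 0), (1841, 0, 0),
   (1883, 0, 0), (1934, 0, 0), (1994, 0, 0), (1892, 0, 0), (1946, 0, 0), (254, 2, 0), (519, 0, 0),
   (919, 0, 0), (1481, 0, 0), (1294, 0, 0), (1336, 0, 0), (39, 0, 0), (139, 0, 0), (329, 0, 0),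
   (636, 0, 0), (1087, 0, 0), (1709, 0, 0), (1503, 0, 0), (1551, 0, 0), (64, 0, 0), (191, 0, 0),
   (417, 0, 0), (769, 0, 0), (1274, 0, 0), (1105, 0, 0), (1733, 0, 0), (21, 0, 0), (97, 0, 0),
   (658, 2, 2), (1115, 0, 0), (1743, 0, 0), (561, 0, 0), (982, 0, 0), (1574, 0, 0), (203, 0, 0),
   (435, 0, 0), (793, 0, 0), (1304, 0, 0), (1421, 0, 0), (684, 0, 0), (1159, 0, 0), (105, 0, 0),
   (268, 0, 0), (539, 0, 0), (945, 0, 0), (1513, 0, 0), (1646, 0, 0), (824, 0, 0), (1356, 0, 0),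
   (149, 0, 0), (345, 0, 0), (1738, 2, 0), (166, 0, 0), (377, 0, 0), (714, 0, 0), (1204, 0, 0),
   (430, 0, 0), (788, 0, 0), (1299, 0, 0), (1366, 0, 0), (224, 0, 0), (474, 0, 0), (859, 0, 0),
   (1406, 0, 0), (534, 0, 0), (940, 0, 0), (1508, 0, 0), (1586, 0, 0), (294, 0, 0), (586, 0, 0),
   (1022, 0, 0), (1629, 0, 0), (653, 0, 0), (1110, 0, 0), (1945, 1, 0), (2008, 0, 0), (1809, 0, 0),
   (1842, 0, 0), (1884, 0, 0), (1935, 0, 0)]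

/-- part 10 of tripTripU3 -/
def tripTripU3_10 : List (ℕ × ℕ × ℕ) := [
   (1995, 0, 0), (1908, 0, 0), (1965, 0, 0), (1792, 0, 0), (1819, 0, 0), (1855, 0, 0), (1900, 0, 0),
   (1954, 0, 0), (2017, 0, 0), (1926, 0, 0), (1986, 0, 0), (1800, 0, 0), (1830, 0, 0), (1869, 0, 0),
   (1917, 0, 0), (1974, 0, 0), (1891, 0, 0), (955, 1, 2), (1526, 0, 0), (84, 0, 0), (229, 0, 0),
   (482, 0, 0), (870, 0, 0), (1420, 0, 0), (666, 0, 0), (1126, 0, 0), (1757, 0, 0), (122, 0, 0),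
   (300, 0, 0), (595, 0, 0), (1034, 0, 0), (1644, 0, 0), (802, 0, 0), (1316, 0, 0), (1568, 0, 0),
   (170, 0, 0), (384, 0, 0), (724, 0, 0), (1217, 0, 0), (546, 0, 0), (1669, 2, 1), (1037, 0, 0),
   (1650, 0, 0), (846, 0, 0), (1390, 0, 0), (393, 0, 0), (739, 0, 0), (1238, 0, 0), (725, 0, 0),
   (1221, 0, 0), (575, 0, 0), (1008, 0, 0), (1612, 0, 0), (493, 0, 0), (887, 0, 0), (1443, 0, 0),
   (872, 0, 0), (1425, 0, 0), (702, 0, 0), (1189, 0, 0), (307, 0, 0), (608, 0, 0), (1053, 0, 0),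
   (1559, 3, 0), (107, 0, 0), (270, 0, 0), (541, 0, 0), (947, 0, 0), (1515, 0, 0), (1677, 0, 0),
   (1148, 0, 0), (45, 0, 0), (151, 0, 0), (347, 0, 0), (660, 0, 0), (1117, 0, 0), (1745, 0, 0),
   (817, 0, 0), (1343, 0, 0), (72, 0, 0), (205, 0, 0), (437, 0, 0), (795, 0, 0), (1306, 0, 0),
   (1450, 0, 0), (973, 0, 0), (242, 2, 0), (504, 0, 0), (901, 0, 0), (1460, 0, 0), (1048, 0, 0),
   (1664, 0, 0), (992, 0, 0), (1590, 0, 0), (316, 0, 0), (620, 0, 0), (1068, 0, 0), (1687, 0, 0),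
   (1233, 0, 0), (690, 0, 0), (1171, 0, 0), (180, 0, 0), (403, 0, 0), (752, 0, 0), (1254, 0, 0),
   (882, 0, 0), (1438, 0, 0), (832, 0, 0), (1370, 0, 0), (1504, 3, 0), (1556, 0, 0), (92, 0, 0),
   (246, 0, 0), (508, 0, 0), (905, 0, 0), (1464, 0, 0), (1106, 0, 0), (1734, 0, 0), (36, 0, 0),
   (133, 0, 0), (320, 0, 0), (624, 0, 0), (1072, 0, 0), (1691, 0, 0), (1295, 0, 0), (1340, 0, 0),
   (60, 0, 0), (184, 0, 0), (407, 0, 0), (756, 0, 0), (1258, 0, 0), (936, 0, 0), (171, 2, 0),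
   (388, 0, 0), (731, 0, 0), (1227, 0, 0), (626, 0, 0), (1077, 0, 0), (1699, 0, 0), (1368, 0, 0),
   (231, 0, 0), (487, 0, 0), (878, 0, 0), (1431, 0, 0), (759, 0, 0), (1264, 0, 0), (990, 0, 0),
   (1588, 0, 0), (303, 0, 0), (601, 0, 0)]

/-- part 11 of tripTripU3 -/
def tripTripU3_11 : List (ℕ × ℕ × ℕ) := [
   (1043, 0, 0), (1656, 0, 0), (909, 0, 0), (1471, 0, 0), (1169, 0, 0), (1641, 2, 3), (760, 0, 0),
   (1265, 0, 0), (997, 0, 0), (1598, 0, 0), (381, 0, 0), (721, 0, 0), (1214, 0, 0), (510, 0, 0),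
   (910, 0, 0), (1472, 0, 0), (1177, 0, 0), (226, 0, 0), (479, 0, 0), (867, 0, 0), (1417, 0, 0),
   (627, 0, 0), (1078, 0, 0), (1700, 0, 0), (1377, 0, 0), (297, 0, 0), (592, 0, 0), (1031, 0, 0),
   (1630, 2, 0), (667, 0, 0), (1127, 0, 0), (1758, 0, 0), (167, 0, 0), (378, 0, 0), (715, 0, 0),
   (1205, 0, 0), (442, 0, 0), (803, 0, 0), (1317, 0, 0), (1576, 0, 0), (225, 0, 0), (475, 0, 0),
   (860, 0, 0), (1407, 0, 0), (547, 0, 0), (956, 0, 0), (1527, 0, 0), (120, 0, 0), (295, 0, 0),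
   (587, 0, 0), (1023, 0, 0), (1128, 1, 0), (1759, 0, 0), (222, 0, 0), (469, 0, 0), (851, 0, 0),
   (1395, 0, 0), (443, 0, 0), (804, 0, 0), (1318, 0, 0), (1585, 0, 0), (291, 0, 0), (580, 0, 0),
   (1013, 0, 0), (1617, 0, 0), (548, 0, 0), (957, 0, 0), (1528, 0, 0), (165, 0, 0), (373, 0, 0),
   (707, 0, 0), (1194, 0, 0), (352, 0, 0), (668, 0, 0), (452, 1, 0), (813, 0, 0), (1327, 0, 0),
   (1711, 0, 0), (1545, 0, 0), (32, 0, 0), (117, 0, 0), (283, 0, 0), (557, 0, 0), (966, 0, 0),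
   (1537, 0, 0), (1140, 0, 0), (7, 0, 0), (53, 0, 0), (162, 0, 0), (361, 0, 0), (677, 0, 0),
   (1137, 0, 0), (1768, 0, 0), (1332, 0, 0), (17, 0, 0), (81, 0, 0), (217, 0, 0), (1697, 1, 0),
   (1353, 0, 0), (131, 0, 0), (318, 0, 0), (622, 0, 0), (1070, 0, 0), (1689, 0, 0), (1262, 0, 0),
   (979, 0, 0), (1571, 0, 0), (182, 0, 0), (405, 0, 0), (754, 0, 0), (1256, 0, 0), (907, 0, 0),
   (1469, 0, 0), (1156, 0, 0), (90, 0, 0), (244, 0, 0), (506, 0, 0), (903, 0, 0), (1462, 0, 0),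
   (1075, 0, 0), (545, 1, 1), (951, 0, 0), (1519, 0, 0), (1751, 0, 0), (6, 0, 0), (49, 0, 0),
   (155, 0, 0), (351, 0, 0), (664, 0, 0), (1121, 0, 0), (1749, 0, 0), (1541, 0, 0), (15, 0, 0),
   (76, 0, 0), (209, 0, 0), (441, 0, 0), (799, 0, 0), (1310, 0, 0), (1520, 0, 0), (1, 0, 0),
   (29, 0, 0), (111, 0, 0), (274, 0, 0), (927, 1, 0), (1492, 0, 0), (1397, 0, 0), (462, 0, 0),
   (841, 0, 0), (1382, 0, 0), (332, 0, 0)]

/-- part 12 of tripTripU3 -/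
def tripTripU3_12 : List (ℕ × ℕ × ℕ) := [
   (642, 0, 0), (1096, 0, 0), (1721, 0, 0), (1620, 0, 0), (572, 0, 0), (1002, 0, 0), (1603, 0, 0),
   (421, 0, 0), (776, 0, 0), (1284, 0, 0), (1195, 0, 0), (367, 0, 0), (698, 0, 0), (1182, 0, 0),
   (256, 0, 0), (524, 0, 0), (1655, 3, 3), (896, 0, 0), (1455, 0, 0), (998, 0, 0), (1599, 0, 0),
   (387, 0, 0), (730, 0, 0), (1226, 0, 0), (615, 0, 0), (1063, 0, 0), (1682, 0, 0), (1178, 0, 0),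
   (230, 0, 0), (486, 0, 0), (877, 0, 0), (1430, 0, 0), (747, 0, 0), (1249, 0, 0), (837, 0, 0),
   (1378, 0, 0), (302, 0, 0), (600, 0, 0), (1042, 0, 0), (1748, 5, 0), (1331, 0, 0), (14, 0, 0),
   (75, 0, 0), (208, 0, 0), (440, 0, 0), (798, 0, 0), (1309, 0, 0), (1501, 0, 0), (1544, 0, 0),
   (28, 0, 0), (110, 0, 0), (273, 0, 0), (544, 0, 0), (950, 0, 0), (1518, 0, 0), (1731, 0, 0),
   (5, 0, 0), (48, 0, 0), (154, 0, 0), (350, 0, 0), (663, 0, 0), (1120, 0, 0), (57, 2, 5),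
   (178, 0, 0), (398, 0, 0), (744, 0, 0), (1243, 0, 0), (785, 0, 0), (1296, 0, 0), (1345, 0, 0),
   (88, 0, 0), (239, 0, 0), (498, 0, 0), (892, 0, 0), (1448, 0, 0), (937, 0, 0), (1505, 0, 0),
   (1562, 0, 0), (128, 0, 0), (312, 0, 0), (613, 0, 0), (1058, 0, 0), (1674, 0, 0), (1107, 0, 0),
   (1735, 0, 0), (1573, 6, 3), (195, 0, 0), (424, 0, 0), (779, 0, 0), (1287, 0, 0), (1231, 0, 0),
   (683, 0, 0), (1158, 0, 0), (99, 0, 0), (259, 0, 0), (527, 0, 0), (930, 0, 0), (1495, 0, 0),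
   (1436, 0, 0), (823, 0, 0), (1355, 0, 0), (142, 0, 0), (335, 0, 0), (645, 0, 0), (1099, 0, 0),
   (1724, 0, 0), (1662, 0, 0), (981, 0, 0), (1135, 1, 3), (1766, 0, 0), (971, 0, 0), (1554, 0, 0),
   (79, 0, 0), (215, 0, 0), (450, 0, 0), (811, 0, 0), (1325, 0, 0), (1676, 0, 0), (1145, 0, 0),
   (30, 0, 0), (115, 0, 0), (281, 0, 0), (555, 0, 0), (964, 0, 0), (1535, 0, 0), (816, 0, 0),
   (1339, 0, 0), (51, 0, 0), (160, 0, 0), (359, 0, 0), (675, 0, 0), (1597, 3, 3), (376, 0, 0),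
   (713, 0, 0), (1203, 0, 0), (419, 0, 0), (774, 0, 0), (1282, 0, 0), (1176, 0, 0), (223, 0, 0),
   (473, 0, 0), (858, 0, 0), (1405, 0, 0), (522, 0, 0), (925, 0, 0), (1490, 0, 0), (1376, 0, 0),
   (293, 0, 0), (585, 0, 0), (1021, 0, 0)]

/-- part 13 of tripTripU3 -/
def tripTripU3_13 : List (ℕ × ℕ × ℕ) := [
   (1628, 0, 0), (640, 0, 0), (1094, 0, 0), (1719, 0, 0), (1706, 5, 4), (1452, 0, 0), (980, 0, 0),
   (1572, 0, 0), (188, 0, 0), (414, 0, 0), (766, 0, 0), (1271, 0, 0), (1060, 0, 0), (1679, 0, 0),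
   (1157, 0, 0), (94, 0, 0), (251, 0, 0), (516, 0, 0), (916, 0, 0), (1478, 0, 0), (1246, 0, 0),
   (822, 0, 0), (1354, 0, 0), (136, 0, 0), (326, 0, 0), (633, 0, 0), (1084, 0, 0), (1671, 6, 2),
   (1062, 0, 0), (1681, 0, 0), (1170, 0, 0), (175, 0, 0), (395, 0, 0), (741, 0, 0), (1240, 0, 0),
   (746, 0, 0), (1248, 0, 0), (831, 0, 0), (1369, 0, 0), (236, 0, 0), (495, 0, 0), (889, 0, 0),
   (1445, 0, 0), (895, 0, 0), (1454, 0, 0), (991, 0, 0), (1589, 0, 0), (309, 0, 0), (610, 0, 0),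
   (1055, 0, 0), (1578, 1, 2), (232, 0, 0), (488, 0, 0), (879, 0, 0), (1432, 0, 0), (772, 0, 0),
   (1280, 0, 0), (1161, 0, 0), (123, 0, 0), (304, 0, 0), (602, 0, 0), (1044, 0, 0), (1657, 0, 0),
   (923, 0, 0), (1488, 0, 0), (1359, 0, 0), (172, 0, 0), (389, 0, 0), (732, 0, 0), (1228, 0, 0),
   (638, 0, 0), (1092, 0, 0), (1717, 0, 0)]

/-- tree tripTripU3 -/
def tripTripU3 : List (ℕ × ℕ × ℕ) :=
  tripTripU3_0 ++ tripTripU3_1 ++ tripTripU3_2 ++ tripTripU3_3 ++ tripTripU3_4 ++ tripTripU3_5 ++ tripTripU3_6 ++ tripTripU3_7 ++ tripTripU3_8 ++ tripTripU3_9 ++ tripTripU3_10 ++ tripTripU3_11 ++ tripTripU3_12 ++ tripTripU3_13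

/-- enlargements -/
def tripTripUp : List ((ℕ × ℕ) × List (ℕ × ℕ × ℕ)) :=
  [((984493369334060478447889424982281248, 0), tripTripU0),
   ((980106457146221389564379418514361479, 0), tripTripU1),
   ((962222964510079199199620165741546500, 0), tripTripU2),
   ((958020233522794296771657265635857539, 0), tripTripU3)]

theorem tripTrip_max : tripleK.maxOK tripTripL tripTripGens 0 tripTripCls tripTripUp = true := by decide +kernel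

end CfsgLib.Spor
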